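/-
Groups of matrices with signs as squares and commutators and a scalar square root of minus one, modulo those scalars.
-/
import Cfsg.Agent.Lib.Classical22.C6Plus.Gens

set_option autoImplicit false
set_option maxHeartbeats 800000

namespace CfsgLib.Classical22.C6Four

open Matrix CfsgLib.Classical22.C6Plus
open scoped MatrixGroups Classical

variable {ι : Type} [Fintype ι] [DecidableEq ι] {F : Type*} [Field F]

/-- `c` as a scalar matrix, when non-zero. -/
noncomputable def scl (ι : Type) [Fintype ι] [DecidableEq ι] {F : Type*} [Field F] (c : F) : GL ι F := by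
  classical exact if h : c ≠ 0 then Units.map (Matrix.scalar ι : F →+* Matrix ι ι F).toMonoidHom (Units.mk0 c h) else 1

lemma scl_val {c : F} (hc : c ≠ 0) : (scl ι c : Matrix ι ι F) = c • 1 := by
  rw [scl, dif_pos hc]
  simp [Matrix.smul_one_eq_diagonal]

lemma scl_comm {c : F} (hc : c ≠ 0) (x : GL ι F) : scl ι c * x = x * scl ι c := Units.ext (by
  rw [Units.val_mul, Units.val_mul, scl_val hc, smul_mul_assoc, one_mul, mul_smul_comm, mul_one])

lemma scl_mem_scalars {c : F} (hc : c ≠ 0) : scl ι c ∈ Cfsg.Geo.scalars ι F :=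
  (Cfsg.Geo.mem_scalars_iff _).2 ⟨Units.mk0 c hc, scl_val hc⟩

lemma exists_scl {g : GL ι F} (hg : g ∈ Cfsg.Geo.scalars ι F) : ∃ c : F, c ≠ 0 ∧ g = scl ι c := by
  obtain ⟨c, hc⟩ := (Cfsg.Geo.mem_scalars_iff _).1 hg
  exact ⟨c, c.ne_zero, Units.ext (by rw [hc, scl_val c.ne_zero])⟩

/-- The data. -/
structure Sign4 (R : Subgroup (GL ι F)) (m : ℕ) (i : F) : Prop where
  nonempty : Nonempty ι
  two_ne : (2 : F) ≠ 0
  sqi : i * i = -1
  mem_i : scl ι i ∈ R
  sq : ∀ a ∈ R, a * a = 1 ∨ a * a = -1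
  comm : ∀ a ∈ R, ∀ b ∈ R, a * b = b * a ∨ a * b = -(b * a)
  irr : Cfsg.Geo.ActsAbsolutelyIrreducibly (Cfsg.Geo.matrixSet R)
  card : Nat.card R = 2 ^ (2 + 2 * m)
  two_le : 2 ≤ m

namespace Sign4

variable {R : Subgroup (GL ι F)} {m : ℕ} {i : F} (S : Sign4 R m i)
include S

lemma i_ne : i ≠ 0 := fun h => by
  have := S.sqi
  rw [h, zero_mul] at this
  exact one_ne_zero (neg_eq_zero.1 this.symm)

lemma i_val : (scl ι i : Matrix ι ι F) = i • 1 := scl_val S.i_ne

lemma ii : scl ι i * scl ι i = -1 := Units.ext (by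
  rw [Units.val_mul, S.i_val, smul_mul_smul_comm, one_mul, S.sqi, neg_one_smul, Units.val_neg, Units.val_one])

lemma neg : (-1 : GL ι F) ∈ R := S.ii ▸ R.mul_mem S.mem_i S.mem_i

lemma neg_mem {a : GL ι F} (ha : a ∈ R) : -a ∈ R := by
  rw [← neg_one_mul]; exact R.mul_mem S.neg ha

lemma ne_neg (a : GL ι F) : a ≠ -a := fun h => by
  haveI := S.nonempty
  exact absurd (two_smul_eq_zero S.two_ne (congrArg Units.val h : (a : Matrix ι ι F) = -(a : Matrix ι ι F))) a.ne_zero

lemma neg_one_ne_one : (-1 : GL ι F) ≠ 1 := (S.ne_neg 1).symm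

lemma inv_eq {a : GL ι F} (ha : a ∈ R) : a⁻¹ = a ∨ a⁻¹ = -a := by
  rcases S.sq a ha with h | h
  · exact Or.inl (inv_eq_of_mul_eq_one_right h)
  · exact Or.inr (inv_eq_of_mul_eq_one_right (by rw [mul_neg, h, neg_neg]))

lemma bv_eq_one {a b : GL ι F} (ha : a ∈ R) (hb : b ∈ R) : bv a b = 1 ↔ a * b = -(b * a) := by
  unfold bv
  rcases S.comm a ha b hb with h | h
  · rw [if_pos h, h]; simp [S.ne_neg (b * a)]
  · rw [if_neg (by rw [h]; exact (S.ne_neg _).symm)]; simp [h]

lemma bv_cases (a b : GL ι F) : bv a b = 0 ∨ bv a b = 1 := by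
  by_cases h : bv a b = 0
  exacts [Or.inl h, Or.inr (zmod_ne_zero h)]

lemma bv_mul {a b c : GL ι F} (ha : a ∈ R) (hb : b ∈ R) (hc : c ∈ R) : bv (a * b) c = bv a c + bv b c := by
  have e1 : a * b * c = a * (b * c) := mul_assoc _ _ _
  rcases S.comm a ha c hc with h | h <;> rcases S.comm b hb c hc with h' | h'
  · rw [bv_eq_zero.2 h, bv_eq_zero.2 h', add_zero, bv_eq_zero, e1, h', ← mul_assoc, h, mul_assoc]
  · rw [bv_eq_zero.2 h, (S.bv_eq_one hb hc).2 h', zero_add, S.bv_eq_one (R.mul_mem ha hb) hc, e1, h', mul_neg,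
      ← mul_assoc, h, mul_assoc]
  · rw [(S.bv_eq_one ha hc).2 h, bv_eq_zero.2 h', add_zero, S.bv_eq_one (R.mul_mem ha hb) hc, e1, h', ← mul_assoc, h,
      neg_mul, mul_assoc]
  · rw [(S.bv_eq_one ha hc).2 h, (S.bv_eq_one hb hc).2 h', zmod_self, bv_eq_zero, e1, h', mul_neg, ← mul_assoc, h,
      neg_mul, neg_neg, mul_assoc]

lemma bv_mul' {a b c : GL ι F} (ha : a ∈ R) (hb : b ∈ R) (hc : c ∈ R) : bv c (a * b) = bv c a + bv c b := by
  rw [bv_symm c, S.bv_mul ha hb hc, bv_symm a, bv_symm b]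

lemma bv_one (a : GL ι F) : bv 1 a = 0 := bv_eq_zero.2 (by rw [one_mul, mul_one])

lemma bv_inv {a b : GL ι F} (ha : a ∈ R) : bv a⁻¹ b = bv a b := by
  rcases S.inv_eq ha with h | h <;> rw [h]
  rw [bv_neg]

lemma bv_scalar {g : GL ι F} (hg : g ∈ Cfsg.Geo.scalars ι F) (a : GL ι F) : bv g a = 0 :=
  bv_eq_zero.2 (Aschbacher.commute_of_mem_scalars hg a)

lemma bv_i (a : GL ι F) : bv (scl ι i) a = 0 := S.bv_scalar (scl_mem_scalars S.i_ne) a

lemma scalar_of_bv {a : GL ι F} (ha : a ∈ R) (h : ∀ r ∈ R, bv a r = 0) : a ∈ Cfsg.Geo.scalars ι F := by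
  haveI := S.nonempty
  obtain ⟨c, hc⟩ := S.irr.2 (a : Matrix ι ι F) (by
    rintro _ ⟨r, hr, rfl⟩
    exact congrArg Units.val (bv_eq_zero.1 (h r hr)))
  have hc0 : c ≠ 0 := fun h0 => a.ne_zero (by rw [hc, h0, zero_smul])
  rw [show a = scl ι c from Units.ext (by rw [hc, scl_val hc0])]
  exact scl_mem_scalars hc0

/-- The scalars in `R` are the powers of `i`. -/
lemma scalar_cases {a : GL ι F} (ha : a ∈ R) (hs : a ∈ Cfsg.Geo.scalars ι F) :
    a = 1 ∨ a = -1 ∨ a = scl ι i ∨ a = -scl ι i := by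
  haveI := S.nonempty
  obtain ⟨c, hc0, rfl⟩ := exists_scl hs
  obtain ⟨j⟩ := S.nonempty
  rcases S.sq _ ha with e | e
  · have e' : c * c = 1 := by
      have h1 := congrArg Units.val e
      rw [Units.val_mul, scl_val hc0, smul_mul_smul_comm, one_mul, Units.val_one] at h1
      simpa using congrFun (congrFun h1 j) j
    rcases mul_self_eq_one_iff.1 e' with rfl | rfl
    · exact Or.inl (Units.ext (by rw [scl_val hc0, one_smul, Units.val_one]))
    · exact Or.inr (Or.inl (Units.ext (by rw [scl_val hc0, neg_one_smul, Units.val_neg, Units.val_one])))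
  · have e' : c * c = i * i := by
      have h1 := congrArg Units.val e
      rw [Units.val_mul, scl_val hc0, smul_mul_smul_comm, one_mul, Units.val_neg, Units.val_one] at h1
      rw [S.sqi]
      simpa using congrFun (congrFun h1 j) j
    rcases mul_self_eq_mul_self_iff.1 e' with rfl | rfl
    · exact Or.inr (Or.inr (Or.inl rfl))
    · exact Or.inr (Or.inr (Or.inr (Units.ext (by rw [scl_val hc0, Units.val_neg, S.i_val, neg_smul]))))

/-- `u` is independent of the list modulo scalars. -/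
def Ind : List (GL ι F) → GL ι F → Prop
  | [], u => u ∉ Cfsg.Geo.scalars ι F
  | a :: l, u => Ind l u ∧ Ind l (u * a)

lemma sep : ∀ (l : List (GL ι F)) (u : GL ι F), u ∈ R → (∀ a ∈ l, a ∈ R) → Ind l u →
    ∃ v ∈ R, (∀ a ∈ l, bv v a = 0) ∧ bv v u = 1 := by
  intro l
  induction l with
  | nil =>
    intro u hu _ h
    by_contra hcon
    push Not at hcon
    refine h (S.scalar_of_bv hu fun r hr => ?_)
    by_contra hne
    exact hcon r hr (fun a ha => absurd ha (List.not_mem_nil)) (by rw [bv_symm]; exact zmod_ne_zero hne)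
  | cons a l ih =>
    intro u hu hl h
    have haR := hl a List.mem_cons_self
    have hlR : ∀ b ∈ l, b ∈ R := fun b hb => hl b (List.mem_cons_of_mem _ hb)
    obtain ⟨v, hv, hvl, hvu⟩ := ih u hu hlR h.1
    rcases S.bv_cases v a with ha | ha
    · exact ⟨v, hv, List.forall_mem_cons.2 ⟨ha, hvl⟩, hvu⟩
    obtain ⟨w, hw, hwl, hwu⟩ := ih (u * a) (R.mul_mem hu haR) hlR h.2
    rw [S.bv_mul' hu haR hw] at hwu
    rcases S.bv_cases w a with ha' | ha' <;> rw [ha'] at hwu
    · rw [add_zero] at hwu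
      exact ⟨w, hw, List.forall_mem_cons.2 ⟨ha', hwl⟩, hwu⟩
    · have hwu0 : bv w u = 0 := by rcases S.bv_cases w u with e | e <;> simp_all [zmod_self]
      refine ⟨v * w, R.mul_mem hv hw, List.forall_mem_cons.2 ⟨?_, fun b hb => ?_⟩, ?_⟩
      · rw [S.bv_mul hv hw haR, ha, ha', zmod_self]
      · rw [S.bv_mul hv hw (hlR b hb), hvl b hb, hwl b hb, add_zero]
      · rw [S.bv_mul hv hw hu, hvu, hwu0, add_zero]

lemma partner {u : GL ι F} (hu : u ∈ R) (hns : u ∉ Cfsg.Geo.scalars ι F) : ∃ v ∈ R, bv v u = 1 := by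
  obtain ⟨v, hv, -, h⟩ := S.sep [] u hu (fun a ha => absurd ha List.not_mem_nil) hns
  exact ⟨v, hv, h⟩

/-- Every class has a lift with square one and one with square minus one. -/
lemma exists_lift {u : GL ι F} (hu : u ∈ R) :
    ∃ x ∈ R, ∃ y ∈ R, x * x = 1 ∧ y * y = -1 ∧ (x = u ∨ x = scl ι i * u) ∧ (y = u ∨ y = scl ι i * u) := by
  have h : (scl ι i * u) * (scl ι i * u) = -(u * u) := by
    rw [mul_assoc, ← mul_assoc u, ← scl_comm S.i_ne u, ← mul_assoc, ← mul_assoc, S.ii, neg_one_mul, neg_mul]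
  rcases S.sq u hu with e | e
  · exact ⟨u, hu, _, R.mul_mem S.mem_i hu, e, by rw [h, e], Or.inl rfl, Or.inr rfl⟩
  · exact ⟨_, R.mul_mem S.mem_i hu, u, hu, by rw [h, e, neg_neg], e, Or.inr rfl, Or.inl rfl⟩

lemma trace_zero {x : GL ι F} (hx : x ∈ R) (hns : x ∉ Cfsg.Geo.scalars ι F) :
    Matrix.trace (x : Matrix ι ι F) = 0 := by
  obtain ⟨y, hy, hyx⟩ := S.partner hx hns
  refine Aschbacher.trace_eq_zero_of_conj (y := y) (c := (-1 : F)) (fun h => S.two_ne (by linear_combination -h)) ?_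
  rw [Units.val_mul, Units.val_mul, show (y : Matrix ι ι F) * x = -((x : Matrix ι ι F) * y) from
    congrArg Units.val ((S.bv_eq_one hy hx).1 hyx), neg_mul, mul_assoc, Units.mul_inv, mul_one, neg_one_smul]

variable [Fintype F]

/-- A set of representatives modulo the scalars, forming a basis. -/
lemma exists_basis : ∃ (κ : Type) (_ : Fintype κ) (s : κ → GL ι F) (b : Module.Basis κ F (Matrix ι ι F)),
    (∀ u, b u = (s u : Matrix ι ι F)) ∧ (∀ u, s u ∈ R) ∧ (∀ u v, (s u)⁻¹ * s v ∈ Cfsg.Geo.scalars ι F → u = v) ∧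
      Fintype.card ι = 2 ^ m ∧ (Fintype.card ι : F) ≠ 0 := by
  haveI := S.nonempty
  haveI : Finite (GL ι F) := inferInstance
  obtain ⟨Z, hZ⟩ : ∃ Z : Subgroup R, Z = (Cfsg.Geo.scalars ι F).subgroupOf R := ⟨_, rfl⟩
  have hZm : ∀ a : R, a ∈ Z ↔ (a : GL ι F) ∈ Cfsg.Geo.scalars ι F := fun a => by
    rw [hZ]; exact Subgroup.mem_subgroupOf
  haveI : Fintype (R ⧸ Z) := Fintype.ofFinite _
  obtain ⟨e, -⟩ : ∃ _e : Fin (Fintype.card (R ⧸ Z)) ≃ R ⧸ Z, True := ⟨(Fintype.equivFin _).symm, trivial⟩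
  obtain ⟨s, hs⟩ : ∃ s : Fin (Fintype.card (R ⧸ Z)) → GL ι F, ∀ u, s u = ((Quotient.out (e u) : R) : GL ι F) :=
    ⟨_, fun _ => rfl⟩
  have hsR : ∀ u, s u ∈ R := fun u => hs u ▸ SetLike.coe_mem _
  have hdiv : ∀ u v, (s u)⁻¹ * s v ∈ Cfsg.Geo.scalars ι F → u = v := fun u v h => e.injective (by
    rw [← QuotientGroup.out_eq' (e u), ← QuotientGroup.out_eq' (e v)]
    refine QuotientGroup.eq.2 ?_
    rw [hZm]
    simpa [hs] using h)
  have hcover : ∀ x ∈ R, ∃ u, (s u)⁻¹ * x ∈ Cfsg.Geo.scalars ι F := fun x hx => by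
    obtain ⟨u, hu⟩ : ∃ u, u = e.symm (QuotientGroup.mk (⟨x, hx⟩ : R)) := ⟨_, rfl⟩
    refine ⟨u, ?_⟩
    have h2 := QuotientGroup.eq.1 ((QuotientGroup.out_eq' (e u)).trans (by rw [hu, e.apply_symm_apply] :
      (e u) = QuotientGroup.mk (⟨x, hx⟩ : R)))
    rw [hZm] at h2
    simpa only [Subgroup.coe_mul, Subgroup.coe_inv, ← hs] using h2
  have hspan : ⊤ ≤ Submodule.span F (Set.range fun u => (s u : Matrix ι ι F)) := by
    rw [← Algebra.top_toSubmodule, ← show Aschbacher.alg R = ⊤ from Asch.full_of_absIrr S.irr,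
      Aschbacher.alg_toSubmodule]
    refine Submodule.span_le.2 ?_
    rintro _ ⟨x, hx, rfl⟩
    obtain ⟨u, hu⟩ := hcover x hx
    obtain ⟨c, hc⟩ := (Cfsg.Geo.mem_scalars_iff _).1 hu
    have hxv : (x : Matrix ι ι F) = (c : F) • (s u : Matrix ι ι F) := by
      have h2' := congrArg ((s u : Matrix ι ι F) * ·) hc
      simpa only [Units.val_mul, ← mul_assoc, Units.mul_inv, one_mul, mul_smul_comm, mul_one] using h2'
    change (x : Matrix ι ι F) ∈ _
    rw [hxv]
    exact Submodule.smul_mem _ _ (Submodule.subset_span ⟨u, rfl⟩)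
  have hnF : (Fintype.card ι : F) ≠ 0 := by
    intro h0
    obtain ⟨j⟩ := S.nonempty
    have key : ∀ X : Matrix ι ι F, X ∈ Submodule.span F (Set.range fun u => (s u : Matrix ι ι F)) →
        Matrix.trace X = 0 := by
      intro X hX
      induction hX using Submodule.span_induction with
      | mem Y hY =>
        obtain ⟨u, rfl⟩ := hY
        dsimp only
        by_cases h1 : s u ∈ Cfsg.Geo.scalars ι F
        · obtain ⟨c, hc⟩ := (Cfsg.Geo.mem_scalars_iff _).1 h1
          rw [hc, Matrix.trace_smul, Matrix.trace_one, h0, smul_zero]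
        exact S.trace_zero (hsR u) h1
      | zero => exact Matrix.trace_zero ..
      | add A B _ _ hA hB => rw [Matrix.trace_add, hA, hB, add_zero]
      | smul c A _ hA => rw [Matrix.trace_smul, hA, smul_zero]
    simpa using key (Matrix.single j j 1) (hspan Submodule.mem_top)
  have hli : LinearIndependent F fun u => (s u : Matrix ι ι F) := by
    rw [Fintype.linearIndependent_iff]
    intro c hc v
    have h1 := congrArg (fun X => Matrix.trace (((s v)⁻¹ : GL ι F).val * X)) hc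
    simp only [Finset.mul_sum, Matrix.trace_sum, mul_smul_comm, Matrix.trace_smul, mul_zero, Matrix.trace_zero,
      ← Units.val_mul] at h1
    rw [Finset.sum_eq_single v (fun u _ hu => by
        rw [S.trace_zero (R.mul_mem (R.inv_mem (hsR v)) (hsR u)) fun h => hu (hdiv v u h).symm, smul_zero]) (by simp),
      inv_mul_cancel, Units.val_one, Matrix.trace_one, smul_eq_mul] at h1
    exact (mul_eq_zero.1 h1).resolve_right hnF
  have hZ4 : Nat.card Z = 4 := by
    have hset : ((↑) : Z → R) '' Set.univ = ({⟨1, R.one_mem⟩, ⟨-1, S.neg⟩, ⟨scl ι i, S.mem_i⟩,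
        ⟨-scl ι i, S.neg_mem S.mem_i⟩} : Set R) := by
      ext a
      simp only [Set.image_univ, Subtype.range_coe_subtype, Set.mem_setOf_eq, hZm, Set.mem_insert_iff,
        Set.mem_singleton_iff, Subtype.ext_iff]
      refine ⟨S.scalar_cases a.2, ?_⟩
      rintro (h | h | h | h) <;> rw [h]
      · exact one_mem _
      · rw [← S.ii]; exact mul_mem (scl_mem_scalars S.i_ne) (scl_mem_scalars S.i_ne)
      · exact scl_mem_scalars S.i_ne
      · rw [← neg_one_mul, ← S.ii]
        exact mul_mem (mul_mem (scl_mem_scalars S.i_ne) (scl_mem_scalars S.i_ne)) (scl_mem_scalars S.i_ne)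
    obtain ⟨j⟩ := S.nonempty
    have hval : ∀ {c d : F}, c • (1 : Matrix ι ι F) = d • 1 → c = d := fun {c d} h => by
      simpa using congrFun (congrFun h j) j
    have h2 := S.two_ne
    have n1 : (1 : GL ι F) ≠ -1 := S.ne_neg 1
    have n2 : ∀ s : F, (s = 1 ∨ s = -1) → (scl ι i : Matrix ι ι F) ≠ s • 1 := fun s hs h => by
      rw [S.i_val] at h
      have hi := S.sqi
      rw [hval h] at hi
      rcases hs with rfl | rfl <;> exact h2 (by linear_combination hi)
    rw [← Nat.card_univ, ← Nat.card_image_of_injective Subtype.val_injective, hset, Nat.card_coe_set_eq,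
      Set.ncard_insert_of_notMem, Set.ncard_insert_of_notMem, Set.ncard_pair]
    · rw [Ne, Subtype.ext_iff]; exact S.ne_neg _
    · simp only [Set.mem_insert_iff, Set.mem_singleton_iff, Subtype.ext_iff, not_or]
      exact ⟨fun h => n2 (-1) (Or.inr rfl) (by rw [← h, Units.val_neg, Units.val_one, neg_one_smul]),
        fun h => n2 1 (Or.inl rfl) (by rw [← neg_inj.1 h, Units.val_one, one_smul])⟩
    · simp only [Set.mem_insert_iff, Set.mem_singleton_iff, Subtype.ext_iff, not_or]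
      exact ⟨n1, fun h => n2 1 (Or.inl rfl) (by rw [← h, Units.val_one, one_smul]),
        fun h => n2 (-1) (Or.inr rfl) (by rw [neg_eq_iff_eq_neg.1 h.symm, Units.val_neg, Units.val_one, neg_one_smul])⟩
  have hκ : Fintype.card (R ⧸ Z) = 2 ^ (2 * m) := by
    have h := Subgroup.card_eq_card_quotient_mul_card_subgroup Z
    rw [S.card, hZ4, Nat.card_eq_fintype_card, pow_add] at h
    omega
  have hdim := Module.finrank_eq_card_basis (Module.Basis.mk hli hspan)
  rw [Module.finrank_matrix, Module.finrank_self, mul_one, Fintype.card_fin, hκ] at hdim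
  refine ⟨_, inferInstance, s, Module.Basis.mk hli hspan, fun u => Module.Basis.mk_apply hli hspan u, hsR, hdiv,
    ?_, hnF⟩
  have h2 : (2 ^ m) * (2 ^ m) = 2 ^ (2 * m) := by rw [← pow_add, two_mul]
  exact Nat.mul_self_inj.1 (hdim.trans h2.symm)

lemma card_index : Fintype.card ι = 2 ^ m := by
  obtain ⟨-, -, -, -, -, -, -, h, -⟩ := S.exists_basis
  exact h

lemma index_ne : (Fintype.card ι : F) ≠ 0 := by
  obtain ⟨-, -, -, -, -, -, -, -, h⟩ := S.exists_basis
  exact h

/-- A matrix commuting up to signs with `R` is a multiple of an element of `R`. -/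
lemma cent {g : Matrix ι ι F} (hg : ∀ r ∈ R, ∃ e : F, (r : Matrix ι ι F) * g = e • (g * (r : Matrix ι ι F))) :
    g = 0 ∨ ∃ u ∈ R, ∃ c : F, g = c • (u : Matrix ι ι F) := by
  haveI := S.nonempty
  obtain ⟨κ, hκ, s, b, hb, hsR, hdiv, -, -⟩ := S.exists_basis
  by_cases hg0 : g = 0
  · exact Or.inl hg0
  refine Or.inr ?_
  obtain ⟨u, hu⟩ : ∃ u, b.repr g u ≠ 0 := by
    by_contra h
    push Not at h
    exact hg0 (by rw [← b.sum_repr g]; simp [h])
  have key : ∀ v, v ≠ u → b.repr g v = 0 := by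
    intro v hvu
    by_contra hv
    obtain ⟨r, hr, hrb⟩ := S.partner (R.mul_mem (R.inv_mem (hsR u)) (hsR v)) fun h => hvu (hdiv u v h).symm
    obtain ⟨e, he⟩ := hg r hr
    have hσ : ∀ w, ∃ β : F, (r : Matrix ι ι F) * s w = β • ((s w : Matrix ι ι F) * r) ∧
        ((bv r (s w) = 0 → β = 1) ∧ (bv r (s w) = 1 → β = -1)) := fun w => by
      rcases S.comm r hr (s w) (hsR w) with h | h
      · exact ⟨1, by rw [one_smul, ← Units.val_mul, h, Units.val_mul], fun _ => rfl,
          fun h' => absurd ((bv_eq_zero.2 h).symm.trans h') (by decide)⟩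
      · exact ⟨-1, by rw [neg_one_smul, ← Units.val_mul, h, Units.val_neg, Units.val_mul],
          fun h' => absurd (h'.symm.trans ((S.bv_eq_one hr (hsR w)).2 h)) (by decide), fun _ => rfl⟩
    choose β hβ hβv using hσ
    rw [← b.sum_repr g, Finset.mul_sum, Finset.sum_mul, Finset.smul_sum] at he
    simp only [mul_smul_comm, hb, hβ, smul_mul_assoc, smul_smul] at he
    have h2 : ∑ w, ((b.repr g w * β w) - e * b.repr g w) • (s w : Matrix ι ι F) = 0 := by
      have h3 := congrArg (· * ((r⁻¹ : GL ι F) : Matrix ι ι F)) he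
      simp only [Finset.sum_mul, smul_mul_assoc, mul_assoc, Units.mul_inv, mul_one] at h3
      simp only [sub_smul, Finset.sum_sub_distrib, h3, sub_self]
    have h4 := Fintype.linearIndependent_iff.1 (by
      have := b.linearIndependent
      rwa [show (fun w => (s w : Matrix ι ι F)) = ⇑b from funext fun w => (hb w).symm]) _ h2
    have h5 : ∀ w, b.repr g w ≠ 0 → β w = e := fun w hw => by
      have : b.repr g w * (β w - e) = 0 := by linear_combination h4 w
      exact sub_eq_zero.1 ((mul_eq_zero.1 this).resolve_left hw)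
    rw [S.bv_mul' (R.inv_mem (hsR u)) (hsR v) hr, bv_symm r (s u)⁻¹, S.bv_inv (hsR u), bv_symm] at hrb
    have hne : (1 : F) ≠ -1 := fun h => S.two_ne (by linear_combination h)
    rcases S.bv_cases r (s u) with hb1 | hb1 <;> rcases S.bv_cases r (s v) with hb2 | hb2 <;> rw [hb1, hb2] at hrb
    · exact absurd hrb (by decide)
    · exact hne (((hβv u).1 hb1).symm.trans ((h5 u hu).trans ((h5 v hv).symm.trans ((hβv v).2 hb2))))
    · exact hne (((hβv v).1 hb2).symm.trans ((h5 v hv).trans ((h5 u hu).symm.trans ((hβv u).2 hb1))))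
    · exact absurd hrb (by decide)
  refine ⟨s u, hsR u, b.repr g u, ?_⟩
  conv_lhs => rw [← b.sum_repr g]
  rw [Finset.sum_eq_single u (fun v _ hv => by rw [key v hv, zero_smul]) (by simp), hb]

end Sign4

end CfsgLib.Classical22.C6Four
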