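/-
Coordinates in which an involution and an anticommuting involution are a sign change and a swap.
-/
import Cfsg.Agent.Lib.Classical22.C6Four.Frame

set_option autoImplicit false
set_option maxHeartbeats 800000

namespace CfsgLib.Classical22.C6Four

open Matrix
open scoped MatrixGroups

variable {ι : Type} [Fintype ι] [DecidableEq ι] {κ : Type} [Fintype κ] [DecidableEq κ] {F : Type*} [Field F]

/-- A pair of inverse rectangular matrices. -/
structure Chart (P : Matrix ι κ F) (P' : Matrix κ ι F) : Prop where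
  left : P * P' = 1
  right : P' * P = 1

/-- The change of coordinates on invertible matrices. -/
def Chart.map {P : Matrix ι κ F} {P' : Matrix κ ι F} (h : Chart P P') : GL ι F ≃* GL κ F where
  toFun g := ⟨P' * (g : Matrix ι ι F) * P, P' * ((g⁻¹ : GL ι F) : Matrix ι ι F) * P,
    by rw [Matrix.mul_assoc (P' * _) P, ← Matrix.mul_assoc P (P' * _), ← Matrix.mul_assoc P P', h.left, Matrix.one_mul,
      Matrix.mul_assoc P', ← Matrix.mul_assoc (g : Matrix ι ι F), Units.mul_inv, Matrix.one_mul, h.right],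
    by rw [Matrix.mul_assoc (P' * _) P, ← Matrix.mul_assoc P (P' * _), ← Matrix.mul_assoc P P', h.left, Matrix.one_mul,
      Matrix.mul_assoc P', ← Matrix.mul_assoc ((g⁻¹ : GL ι F) : Matrix ι ι F), Units.inv_mul, Matrix.one_mul, h.right]⟩
  invFun g := ⟨P * (g : Matrix κ κ F) * P', P * ((g⁻¹ : GL κ F) : Matrix κ κ F) * P',
    by rw [Matrix.mul_assoc (P * _) P', ← Matrix.mul_assoc P' (P * _), ← Matrix.mul_assoc P' P, h.right, Matrix.one_mul,
      Matrix.mul_assoc P, ← Matrix.mul_assoc (g : Matrix κ κ F), Units.mul_inv, Matrix.one_mul, h.left],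
    by rw [Matrix.mul_assoc (P * _) P', ← Matrix.mul_assoc P' (P * _), ← Matrix.mul_assoc P' P, h.right, Matrix.one_mul,
      Matrix.mul_assoc P, ← Matrix.mul_assoc ((g⁻¹ : GL κ F) : Matrix κ κ F), Units.inv_mul, Matrix.one_mul, h.left]⟩
  left_inv g := Units.ext (by
    change P * (P' * (g : Matrix ι ι F) * P) * P' = (g : Matrix ι ι F)
    rw [← Matrix.mul_assoc P, ← Matrix.mul_assoc P, h.left, Matrix.one_mul, Matrix.mul_assoc, h.left, Matrix.mul_one])
  right_inv g := Units.ext (by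
    change P' * (P * (g : Matrix κ κ F) * P') * P = (g : Matrix κ κ F)
    rw [← Matrix.mul_assoc P', ← Matrix.mul_assoc P', h.right, Matrix.one_mul, Matrix.mul_assoc, h.right,
      Matrix.mul_one])
  map_mul' a b := Units.ext (by
    change P' * ((a : Matrix ι ι F) * (b : Matrix ι ι F)) * P = P' * (a : Matrix ι ι F) * P * (P' * (b : Matrix ι ι F) * P)
    rw [Matrix.mul_assoc (P' * (a : Matrix ι ι F)) P, ← Matrix.mul_assoc P (P' * _), ← Matrix.mul_assoc P P', h.left,
      Matrix.one_mul, ← Matrix.mul_assoc (P' * (a : Matrix ι ι F)), ← Matrix.mul_assoc P'])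

variable {P : Matrix ι κ F} {P' : Matrix κ ι F}

lemma Chart.map_val (h : Chart P P') (g : GL ι F) : (h.map g : Matrix κ κ F) = P' * (g : Matrix ι ι F) * P := rfl

lemma Chart.mulVec (h : Chart P P') (g : GL ι F) (u : κ → F) :
    P *ᵥ ((h.map g : Matrix κ κ F) *ᵥ u) = (g : Matrix ι ι F) *ᵥ (P *ᵥ u) := by
  rw [h.map_val, Matrix.mulVec_mulVec, Matrix.mulVec_mulVec, ← Matrix.mul_assoc, ← Matrix.mul_assoc, h.left,
    Matrix.one_mul]

lemma Chart.map_neg (h : Chart P P') (g : GL ι F) : h.map (-g) = -h.map g :=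
  Units.ext (by rw [Units.val_neg, h.map_val, h.map_val, Units.val_neg, Matrix.mul_neg, Matrix.neg_mul])

lemma Chart.det_map (h : Chart P P') (g : GL ι F) :
    (h.map g : Matrix κ κ F).det = (g : Matrix ι ι F).det := by
  rw [h.map_val]
  exact Matrix.det_conj_of_mul_eq_one h.right h.left

lemma Chart.map_scl (h : Chart P P') {c : F} (hc : c ≠ 0) : h.map (scl ι c) = scl κ c :=
  Units.ext (by rw [h.map_val, scl_val hc, scl_val hc, Matrix.mul_smul, Matrix.mul_one, Matrix.smul_mul, h.right])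

variable [Fintype F]

/-- An involution with an anticommuting involution in coordinates. -/
theorem exists_chart (h2 : (2 : F) ≠ 0) {x y : GL ι F} (hx : x * x = 1) (hy : y * y = 1)
    (hxy : x * y = -(y * x)) :
    ∃ (d : ℕ) (P : Matrix ι (Fin d ⊕ Fin d) F) (P' : Matrix (Fin d ⊕ Fin d) ι F) (h : Chart P P'),
      Fintype.card ι = 2 * d ∧ (h.map x : Matrix (Fin d ⊕ Fin d) (Fin d ⊕ Fin d) F) = Matrix.fromBlocks 1 0 0 (-1) ∧
      (h.map y : Matrix (Fin d ⊕ Fin d) (Fin d ⊕ Fin d) F) = Matrix.fromBlocks 0 1 1 0 := by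
  classical
  obtain ⟨X, hX⟩ : ∃ X, X = (x : Matrix ι ι F).toLin' := ⟨_, rfl⟩
  obtain ⟨Y, hY⟩ : ∃ Y, Y = (y : Matrix ι ι F).toLin' := ⟨_, rfl⟩
  have hXX : ∀ v, X (X v) = v := fun v => by
    rw [hX, Matrix.toLin'_apply, Matrix.toLin'_apply, Matrix.mulVec_mulVec, ← Units.val_mul, hx, Units.val_one,
      Matrix.one_mulVec]
  have hYY : ∀ v, Y (Y v) = v := fun v => by
    rw [hY, Matrix.toLin'_apply, Matrix.toLin'_apply, Matrix.mulVec_mulVec, ← Units.val_mul, hy, Units.val_one,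
      Matrix.one_mulVec]
  have hXY : ∀ v, X (Y v) = -Y (X v) := fun v => by
    rw [hX, hY, Matrix.toLin'_apply, Matrix.toLin'_apply, Matrix.toLin'_apply, Matrix.toLin'_apply,
      Matrix.mulVec_mulVec, Matrix.mulVec_mulVec, ← Units.val_mul, hxy, Units.val_neg, Matrix.neg_mulVec,
      Units.val_mul]
  obtain ⟨W, hW⟩ : ∃ W, W = LinearMap.ker (X - LinearMap.id) := ⟨_, rfl⟩
  have hWm : ∀ v, v ∈ W ↔ X v = v := fun v => by
    rw [hW, LinearMap.mem_ker, LinearMap.sub_apply, LinearMap.id_apply, sub_eq_zero]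
  obtain ⟨d, hd⟩ : ∃ d, Module.finrank F W = d := ⟨_, rfl⟩
  let e : (Fin d → F) ≃ₗ[F] W := (Module.finBasisOfFinrankEq F W hd).equivFun.symm
  let Φ : (Fin d ⊕ Fin d → F) →ₗ[F] (ι → F) :=
    W.subtype ∘ₗ e.toLinearMap ∘ₗ LinearMap.funLeft F F Sum.inl +
      Y ∘ₗ W.subtype ∘ₗ e.toLinearMap ∘ₗ LinearMap.funLeft F F Sum.inr
  have hΦ : ∀ u, Φ u = (e (u ∘ Sum.inl) : ι → F) + Y (e (u ∘ Sum.inr) : ι → F) := fun u => rfl
  have hfix : ∀ w, X (e w : ι → F) = (e w : ι → F) := fun w => (hWm _).1 (e w).2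
  have hXΦ : ∀ u, X (Φ u) = (e (u ∘ Sum.inl) : ι → F) - Y (e (u ∘ Sum.inr) : ι → F) := fun u => by
    rw [hΦ, _root_.map_add, hXY, hfix, hfix, sub_eq_add_neg]
  have hinj : Function.Injective Φ := by
    rw [← LinearMap.ker_eq_bot, LinearMap.ker_eq_bot']
    intro u hu
    have h' := hXΦ u
    rw [hu, _root_.map_zero] at h'
    rw [hΦ] at hu
    have ha : (e (u ∘ Sum.inl) : ι → F) = 0 := by
      have h3 : (2 : F) • (e (u ∘ Sum.inl) : ι → F) = 0 := by
        rw [two_smul]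
        calc _ = ((e (u ∘ Sum.inl) : ι → F) + Y (e (u ∘ Sum.inr) : ι → F)) +
              ((e (u ∘ Sum.inl) : ι → F) - Y (e (u ∘ Sum.inr) : ι → F)) := by abel
          _ = 0 := by rw [hu, ← h', add_zero]
      exact (smul_eq_zero.1 h3).resolve_left h2
    rw [ha, zero_add] at hu
    have hb : (e (u ∘ Sum.inr) : ι → F) = 0 := by rw [← hYY (e (u ∘ Sum.inr) : ι → F), hu, _root_.map_zero]
    have ha' : u ∘ Sum.inl = 0 := e.map_eq_zero_iff.1 (Subtype.ext ha)
    have hb' : u ∘ Sum.inr = 0 := e.map_eq_zero_iff.1 (Subtype.ext hb)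
    funext j
    rcases j with j | j
    exacts [congrFun ha' j, congrFun hb' j]
  have hsurj : Function.Surjective Φ := by
    intro w
    have h1 : (2 : F)⁻¹ • (w + X w) ∈ W := (hWm _).2 (by rw [map_smul, _root_.map_add, hXX, add_comm])
    have h2' : (2 : F)⁻¹ • Y (w - X w) ∈ W := (hWm _).2 (by
      rw [map_smul, hXY, _root_.map_sub, hXX, ← _root_.map_neg, neg_sub])
    refine ⟨Sum.elim (e.symm ⟨_, h1⟩) (e.symm ⟨_, h2'⟩), ?_⟩
    rw [hΦ, Sum.elim_comp_inl, Sum.elim_comp_inr, e.apply_symm_apply, e.apply_symm_apply]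
    change (2 : F)⁻¹ • (w + X w) + Y ((2 : F)⁻¹ • Y (w - X w)) = w
    rw [map_smul, hYY, ← smul_add, show w + X w + (w - X w) = (2 : F) • w by rw [two_smul]; abel, smul_smul,
      inv_mul_cancel₀ h2, one_smul]
  let E : (Fin d ⊕ Fin d → F) ≃ₗ[F] (ι → F) := LinearEquiv.ofBijective Φ ⟨hinj, hsurj⟩
  have hchart : Chart (LinearMap.toMatrix' E.toLinearMap) (LinearMap.toMatrix' E.symm.toLinearMap) :=
    ⟨by rw [← LinearMap.toMatrix'_comp, LinearEquiv.comp_coe, LinearEquiv.symm_trans_self,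
        LinearEquiv.refl_toLinearMap, LinearMap.toMatrix'_id],
     by rw [← LinearMap.toMatrix'_comp, LinearEquiv.comp_coe, LinearEquiv.self_trans_symm,
        LinearEquiv.refl_toLinearMap, LinearMap.toMatrix'_id]⟩
  have hE : ∀ u, LinearMap.toMatrix' E.toLinearMap *ᵥ u = Φ u := fun u => LinearMap.toMatrix'_mulVec _ _
  have hcalc : ∀ (g : GL ι F) (M : Matrix (Fin d ⊕ Fin d) (Fin d ⊕ Fin d) F),
      (∀ u, Φ (M *ᵥ u) = (g : Matrix ι ι F) *ᵥ Φ u) → (hchart.map g : Matrix _ _ F) = M := by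
    intro g M hM
    refine Matrix.ext_of_mulVec_single fun j => ?_
    refine hinj ?_
    rw [hM, ← hE, ← hE]
    exact hchart.mulVec g _
  refine ⟨d, _, _, hchart, ?_, hcalc x _ fun u => ?_, hcalc y _ fun u => ?_⟩
  · have h := E.finrank_eq
    rw [Module.finrank_pi, Module.finrank_pi, Fintype.card_sum, Fintype.card_fin] at h
    omega
  · rw [Matrix.fromBlocks_mulVec, hΦ, Sum.elim_comp_inl, Sum.elim_comp_inr, Matrix.one_mulVec, Matrix.zero_mulVec,
      Matrix.zero_mulVec, add_zero, zero_add, Matrix.neg_mulVec, Matrix.one_mulVec, _root_.map_neg, Submodule.coe_neg,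
      _root_.map_neg, ← sub_eq_add_neg, ← hXΦ, hX, Matrix.toLin'_apply]
  · rw [Matrix.fromBlocks_mulVec, hΦ, Sum.elim_comp_inl, Sum.elim_comp_inr, Matrix.one_mulVec, Matrix.zero_mulVec,
      zero_add, Matrix.zero_mulVec, Matrix.one_mulVec, add_zero, hΦ, Matrix.mulVec_add, ← Matrix.toLin'_apply,
      ← Matrix.toLin'_apply, ← hY, hYY, add_comm]

end CfsgLib.Classical22.C6Four
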