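/-
The ambient group, the scaled transvections of the symplectic space, and transitivity.
-/
import Cfsg.Agent.Lib.Classical22.C6Four.Coords

set_option autoImplicit false
set_option maxHeartbeats 800000

namespace CfsgLib.Classical22.C6Four

open Matrix CfsgLib.Classical22.C6Plus
open scoped MatrixGroups Classical

variable {ι : Type} [Fintype ι] [DecidableEq ι] {F : Type*} [Field F] [Fintype F]

/-- Isometries of `f` with determinant one. -/
noncomputable def amb (f : (ι → F) → (ι → F) → F) : Subgroup (GL ι F) :=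
  Cfsg.preserving (Units.coeHom (Matrix ι ι F)) f ⊓ Cfsg.Geo.specialLinear ι F

lemma mem_amb {f : (ι → F) → (ι → F) → F} {g : GL ι F} :
    g ∈ amb f ↔ (∀ u v, f ((g : Matrix ι ι F) *ᵥ u) ((g : Matrix ι ι F) *ᵥ v) = f u v) ∧
      (g : Matrix ι ι F).det = 1 := by
  rw [amb, Subgroup.mem_inf, Transvec.mem_specialLinear_iff]
  exact Iff.rfl

lemma amb_conj {f : (ι → F) → (ι → F) → F} {a g : GL ι F}
    (ha : ∀ u v, f ((a : Matrix ι ι F) *ᵥ u) ((a : Matrix ι ι F) *ᵥ v) = f u v) (hg : g ∈ amb f) :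
    a * g * a⁻¹ ∈ amb f := by
  refine Subgroup.mem_inf.2 ⟨mul_mem (mul_mem ha hg.1) (inv_mem ha), ?_⟩
  rw [Transvec.mem_specialLinear_iff, Units.val_mul, Units.val_mul, Matrix.det_units_conj]
  exact (mem_amb.1 hg).2

/-- The possible forms: sesquilinear, invariant, and compatible with the square root of minus one; possibly zero. -/
structure Form (R : Subgroup (GL ι F)) (i : F) (σ : F →+* F) (f : (ι → F) → (ι → F) → F) : Prop where
  add_left : ∀ u v w, f (u + v) w = f u w + f v w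
  add_right : ∀ u v w, f u (v + w) = f u v + f u w
  smul_left : ∀ (c : F) u v, f (c • u) v = c * f u v
  smul_right : ∀ (c : F) u v, f u (c • v) = σ c * f u v
  iso : ∀ r ∈ R, ∀ u v, f ((r : Matrix ι ι F) *ᵥ u) ((r : Matrix ι ι F) *ᵥ v) = f u v
  unit : ∀ u v, (σ i + i) * f u v = 0

lemma tv_val' (h2 : (2 : F) ≠ 0) {a : GL ι F} (ha : a * a = -1) :
    (tv a : Matrix ι ι F) = 1 + (a : Matrix ι ι F) := by
  have h : IsUnit (1 + (a : Matrix ι ι F)) := by
    have ha' : (a : Matrix ι ι F) * a = -1 := by rw [← Units.val_mul, ha, Units.val_neg, Units.val_one]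
    refine ⟨⟨_, (2 : F)⁻¹ • (1 - (a : Matrix ι ι F)), ?_, ?_⟩, rfl⟩
    · rw [mul_smul_comm, show (1 + (a : Matrix ι ι F)) * (1 - a) = (2 : F) • 1 by
        rw [mul_sub, mul_one, add_mul, one_mul, ha', two_smul]; abel, smul_smul, inv_mul_cancel₀ h2, one_smul]
    · rw [smul_mul_assoc, show (1 - (a : Matrix ι ι F)) * (1 + a) = (2 : F) • 1 by
        rw [sub_mul, one_mul, mul_add, mul_one, ha', two_smul]; abel, smul_smul, inv_mul_cancel₀ h2, one_smul]
  rw [tv, dif_pos h]
  rfl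

/-- The scaled transvection. -/
noncomputable def tA (i : F) (a : GL ι F) : GL ι F := (scl ι (1 + i))⁻¹ * tv a

namespace Sign4

variable {R : Subgroup (GL ι F)} {m : ℕ} {i : F} (S : Sign4 R m i)
include S

lemma one_add_ne : (1 : F) + i ≠ 0 := fun h => S.two_ne (by
  have := S.sqi
  linear_combination this + (1 - i) * h)

lemma tA_val {a : GL ι F} (ha : a * a = -1) :
    (tA i a : Matrix ι ι F) = (1 + i)⁻¹ • (1 + (a : Matrix ι ι F)) := by
  rw [tA, show (scl ι (1 + i) : GL ι F)⁻¹ = scl ι (1 + i)⁻¹ from inv_eq_of_mul_eq_one_right (Units.ext (by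
    rw [Units.val_mul, scl_val S.one_add_ne, scl_val (inv_ne_zero S.one_add_ne), smul_mul_smul_comm, one_mul,
      mul_inv_cancel₀ S.one_add_ne, one_smul, Units.val_one])), Units.val_mul, scl_val (inv_ne_zero S.one_add_ne),
    tv_val' S.two_ne ha, smul_mul_assoc, one_mul]

lemma T_mem {a r : GL ι F} (ha : a ∈ R) (hr : r ∈ R) : T a r ∈ R := by
  unfold T; split_ifs
  exacts [hr, R.mul_mem ha hr]

lemma T_comm {a r : GL ι F} (h : bv r a = 0) : T a r = r := by unfold T; rw [if_pos h]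

lemma T_anti {a r : GL ι F} (h : bv r a = 1) : T a r = a * r := by
  unfold T; rw [if_neg (by rw [h]; decide)]

/-- Conjugation by a scaled transvection. -/
lemma tA_conj {a r : GL ι F} (ha : a ∈ R) (haa : a * a = -1) (hr : r ∈ R) : tA i a * r * (tA i a)⁻¹ = T a r := by
  rw [tA, show (scl ι (1 + i))⁻¹ * tv a * r * ((scl ι (1 + i))⁻¹ * tv a)⁻¹ =
    (scl ι (1 + i))⁻¹ * (tv a * r * (tv a)⁻¹) * scl ι (1 + i) by group, mul_assoc,
    ← scl_comm S.one_add_ne, inv_mul_cancel_left, mul_inv_eq_iff_eq_mul]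
  have haa' : (a : Matrix ι ι F) * a = -1 := by rw [← Units.val_mul, haa, Units.val_neg, Units.val_one]
  refine Units.ext ?_
  rcases S.bv_cases r a with h | h
  · have h' : (r : Matrix ι ι F) * a = (a : Matrix ι ι F) * r := congrArg Units.val (bv_eq_zero.1 h)
    rw [S.T_comm h, Units.val_mul, Units.val_mul, tv_val' S.two_ne haa, add_mul, one_mul, mul_add, mul_one, h']
  · have h' : (r : Matrix ι ι F) * a = -((a : Matrix ι ι F) * r) := congrArg Units.val ((S.bv_eq_one hr ha).1 h)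
    rw [S.T_anti h, Units.val_mul, Units.val_mul, Units.val_mul, tv_val' S.two_ne haa, add_mul, one_mul, mul_add,
      mul_one, mul_assoc (a : Matrix ι ι F), h', mul_neg, ← mul_assoc, haa', neg_one_mul, neg_neg, add_comm]

variable {σ : F →+* F} {f : (ι → F) → (ι → F) → F}

lemma tA_iso (hf : Form R i σ f) {a : GL ι F} (ha : a ∈ R) (haa : a * a = -1) (u v : ι → F) :
    f ((tA i a : Matrix ι ι F) *ᵥ u) ((tA i a : Matrix ι ι F) *ᵥ v) = f u v := by
  rw [S.tA_val haa, Matrix.smul_mulVec, Matrix.smul_mulVec, hf.smul_left, hf.smul_right, Matrix.add_mulVec,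
    Matrix.add_mulVec, Matrix.one_mulVec, Matrix.one_mulVec, hf.add_left, hf.add_right, hf.add_right, hf.iso a ha]
  have h1 := hf.iso a ha ((a : Matrix ι ι F) *ᵥ u) v
  rw [Matrix.mulVec_mulVec, ← Units.val_mul, haa, Units.val_neg, Units.val_one, Matrix.neg_mulVec, Matrix.one_mulVec,
    ← neg_one_smul F u, hf.smul_left, neg_one_mul] at h1
  have hu := hf.unit u v
  have hne := S.one_add_ne
  rw [map_inv₀, map_add, map_one]
  by_cases hs : (1 : F) + σ i = 0
  · exact absurd ((map_eq_zero_iff σ σ.injective).1 (show σ (1 + i) = 0 by rw [map_add, map_one, hs])) hne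
  field_simp
  linear_combination h1.symm - (1 + i) * hu + f u v * S.sqi

lemma tA_sq {a : GL ι F} (haa : a * a = -1) : tA i a * tA i a = (scl ι i)⁻¹ * a := by
  have haa' : (a : Matrix ι ι F) * a = -1 := by rw [← Units.val_mul, haa, Units.val_neg, Units.val_one]
  rw [eq_inv_mul_iff_mul_eq]
  refine Units.ext ?_
  rw [Units.val_mul, Units.val_mul, S.tA_val haa, smul_mul_smul_comm, show (1 + (a : Matrix ι ι F)) * (1 + a) =
    (2 : F) • (a : Matrix ι ι F) by rw [mul_add, mul_one, add_mul, one_mul, haa', two_smul]; abel,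
    S.i_val, smul_mul_assoc, one_mul, smul_smul, smul_smul]
  have hne := S.one_add_ne
  rw [show i * ((1 + i)⁻¹ * (1 + i)⁻¹) * 2 = 1 by field_simp; linear_combination -S.sqi, one_smul]

/-- The determinant of a scaled transvection. -/
lemma tA_det {a : GL ι F} (ha : a ∈ R) (haa : a * a = -1) (hns : a ∉ Cfsg.Geo.scalars ι F) :
    (tA i a : Matrix ι ι F).det = (-i) ^ (2 ^ (m - 1)) := by
  obtain ⟨z, hz⟩ : ∃ z, z = -scl ι i * a := ⟨_, rfl⟩
  have hzR : z ∈ R := hz ▸ R.mul_mem (S.neg_mem S.mem_i) ha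
  have hzz : z * z = 1 := by
    have h1 : a * -scl ι i = -scl ι i * a := by rw [mul_neg, neg_mul, scl_comm S.i_ne]
    rw [hz, mul_assoc, ← mul_assoc a, h1, mul_assoc (-scl ι i) a a, haa, ← mul_assoc, neg_mul_neg, S.ii, neg_mul_neg,
      one_mul]
  have hzns : z ∉ Cfsg.Geo.scalars ι F := fun h => hns (by
    have e : a = (-scl ι i)⁻¹ * z := by rw [hz, inv_mul_cancel_left]
    rw [e]
    refine mul_mem (inv_mem ?_) h
    rw [← neg_one_mul, ← S.ii]
    exact mul_mem (mul_mem (scl_mem_scalars S.i_ne) (scl_mem_scalars S.i_ne)) (scl_mem_scalars S.i_ne))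
  obtain ⟨w, hw, hwz⟩ := S.partner hzR hzns
  obtain ⟨y, hy, -, -, hyy, -, hyw, -⟩ := S.exists_lift hw
  have hyz : bv y z = 1 := by
    rcases hyw with rfl | rfl
    · exact hwz
    · rw [S.bv_mul S.mem_i hw hzR, S.bv_i, zero_add, hwz]
  obtain ⟨d, P, P', hP, hd, hPz, -⟩ := exists_chart S.two_ne hzz hyy
    (by rw [(S.bv_eq_one hy hzR).1 hyz, neg_neg])
  rw [S.card_index, show m = m - 1 + 1 by have := S.two_le; omega, pow_succ] at hd
  have haz : a = scl ι i * z := by
    rw [hz, ← mul_assoc, mul_neg, S.ii, neg_neg, one_mul]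
  rw [← hP.det_map, hP.map_val, S.tA_val haa, haz, Units.val_mul, S.i_val, smul_mul_assoc, one_mul,
    Matrix.mul_smul, Matrix.smul_mul, Matrix.mul_add, Matrix.add_mul, Matrix.mul_one, hP.right, Matrix.mul_smul,
    Matrix.smul_mul, ← hP.map_val, hPz, ← Matrix.fromBlocks_one, Matrix.fromBlocks_smul, Matrix.fromBlocks_add,
    Matrix.fromBlocks_smul]
  simp only [smul_zero, add_zero, smul_neg]
  rw [Matrix.det_fromBlocks_zero₁₂, ← sub_eq_add_neg, show (1 + i • (1 : Matrix (Fin d) (Fin d) F)) = (1 + i) • 1 by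
      rw [add_smul, one_smul], show (1 - i • (1 : Matrix (Fin d) (Fin d) F)) = (1 - i) • 1 by
      rw [sub_smul, one_smul], smul_smul, smul_smul, inv_mul_cancel₀ S.one_add_ne, Matrix.det_smul, Matrix.det_smul,
    Matrix.det_one, one_pow, one_mul, mul_one, Fintype.card_fin, show (1 + i)⁻¹ * (1 - i) = -i by
      have := S.one_add_ne
      field_simp
      linear_combination S.sqi]
  rw [show d = 2 ^ (m - 1) by omega]
  rw [one_mul]

lemma tA_mem (hf : Form R i σ f) (h3 : 3 ≤ m) {a : GL ι F} (ha : a ∈ R) (haa : a * a = -1)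
    (hns : a ∉ Cfsg.Geo.scalars ι F) : tA i a ∈ amb f := by
  refine mem_amb.2 ⟨S.tA_iso hf ha haa, ?_⟩
  rw [S.tA_det ha haa hns]
  obtain ⟨j, rfl⟩ : ∃ j, m = j + 3 := ⟨m - 3, by omega⟩
  rw [show 2 ^ (j + 3 - 1) = 4 * 2 ^ j by rw [show j + 3 - 1 = j + 2 by omega, pow_add]; ring, pow_mul,
    show (-i) ^ 4 = 1 by linear_combination (i * i - 1) * S.sqi, one_pow]

/-- The product of two scaled transvections is always in the ambient group. -/
lemma tA2_mem (hf : Form R i σ f) {a b : GL ι F} (ha : a ∈ R) (haa : a * a = -1)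
    (hns : a ∉ Cfsg.Geo.scalars ι F) (hb : b ∈ R) (hbb : b * b = -1) (hns' : b ∉ Cfsg.Geo.scalars ι F) :
    tA i a * tA i b ∈ amb f := by
  refine mem_amb.2 ⟨fun u v => ?_, ?_⟩
  · rw [Units.val_mul, ← Matrix.mulVec_mulVec, ← Matrix.mulVec_mulVec, S.tA_iso hf ha haa, S.tA_iso hf hb hbb]
  · rw [Units.val_mul, Matrix.det_mul, S.tA_det ha haa hns, S.tA_det hb hbb hns', ← pow_add, ← two_mul, pow_mul,
      neg_sq, _root_.sq, S.sqi]
    have := S.two_le
    rw [show m - 1 = m - 2 + 1 by omega, pow_succ, Nat.mul_comm, pow_mul]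
    simp

lemma tA_normalises {a : GL ι F} (ha : a ∈ R) (haa : a * a = -1) :
    tA i a ∈ Cfsg.Geo.subgroupNormalizer R := by
  haveI : Finite (GL ι F) := inferInstance
  exact CfsgLib.Solvable.mem_normalizer_of_conj_mem fun r hr => by rw [S.tA_conj ha haa hr]; exact S.T_mem ha hr

/-- Scalars are absorbed by classes. -/
lemma class_of_lift {u x : GL ι F} (h : x = u ∨ x = scl ι i * u) :
    u⁻¹ * x ∈ Cfsg.Geo.scalars ι F := by
  rcases h with rfl | rfl
  · rw [inv_mul_cancel]; exact one_mem _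
  · rw [scl_comm S.i_ne, inv_mul_cancel_left]; exact scl_mem_scalars S.i_ne

/-- A non-scalar class is moved to any other by the product of at most two scaled transvections, avoiding a third. -/
lemma exists_move {s t : GL ι F} (hs : s ∈ R) (ht : t ∈ R) (hs0 : s ∉ Cfsg.Geo.scalars ι F)
    (ht0 : t ∉ Cfsg.Geo.scalars ι F) :
    ∃ g ∈ Cfsg.Geo.subgroupNormalizer R,
      (g * s * g⁻¹)⁻¹ * t ∈ Cfsg.Geo.scalars ι F ∧ ∀ (σ : F →+* F) (f : (ι → F) → (ι → F) → F),
        Form R i σ f → g ∈ amb f := by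
  have lift : ∀ {c : GL ι F}, c ∈ R → c ∉ Cfsg.Geo.scalars ι F →
      ∃ a ∈ R, a * a = -1 ∧ a ∉ Cfsg.Geo.scalars ι F ∧ c⁻¹ * a ∈ Cfsg.Geo.scalars ι F := by
    intro c hc hc0
    obtain ⟨-, -, a, ha, -, haa, -, hac⟩ := S.exists_lift hc
    refine ⟨a, ha, haa, fun h => hc0 ?_, S.class_of_lift hac⟩
    have := mul_mem h (inv_mem (S.class_of_lift hac))
    rwa [_root_.mul_inv_rev, inv_inv, mul_inv_cancel_left] at this
  have hbvc : ∀ {r c a : GL ι F}, r ∈ R → c ∈ R → a ∈ R → c⁻¹ * a ∈ Cfsg.Geo.scalars ι F → bv r a = bv r c := by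
    intro r c a hr hc ha h
    rw [show a = c * (c⁻¹ * a) by rw [mul_inv_cancel_left], S.bv_mul' hc (R.mul_mem (R.inv_mem hc) ha) hr,
      bv_symm r (c⁻¹ * a), S.bv_scalar h, add_zero]
  -- one transvection moving `x` to the class of `y`
  have one : ∀ {x y : GL ι F}, x ∈ R → y ∈ R → bv x y = 1 →
      ∃ a ∈ R, a * a = -1 ∧ a ∉ Cfsg.Geo.scalars ι F ∧ (tA i a * x * (tA i a)⁻¹)⁻¹ * y ∈ Cfsg.Geo.scalars ι F := by
    intro x y hx hy hxy
    have hc0 : y * x⁻¹ ∉ Cfsg.Geo.scalars ι F := fun h => by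
      have h2 := S.bv_scalar h x
      rw [S.bv_mul hy (R.inv_mem hx) hx, S.bv_inv hx, bv_self, add_zero, bv_symm, hxy] at h2
      exact one_ne_zero h2
    have hcR := R.mul_mem hy (R.inv_mem hx)
    obtain ⟨a, ha, haa, ha0, hac⟩ := lift hcR hc0
    refine ⟨a, ha, haa, ha0, ?_⟩
    have hxa : bv x a = 1 := by
      rw [hbvc hx hcR ha hac, S.bv_mul' hy (R.inv_mem hx) hx, bv_symm x x⁻¹, S.bv_inv hx, bv_self, add_zero, hxy]
    rw [S.tA_conj ha haa hx, S.T_anti hxa, _root_.mul_inv_rev, mul_assoc]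
    obtain ⟨e, he, hee⟩ := exists_scl (inv_mem hac)
    rw [_root_.mul_inv_rev, inv_inv] at hee
    have e1 : a⁻¹ * y = scl ι e * x := by
      calc a⁻¹ * y = a⁻¹ * (y * x⁻¹) * x := by group
        _ = scl ι e * x := by rw [hee]
    rw [e1, scl_comm he, inv_mul_cancel_left]
    exact scl_mem_scalars he
  rcases S.bv_cases s t with hst | hst
  swap
  · obtain ⟨a, ha, haa, ha0, hat⟩ := one hs ht hst
    by_cases h3 : 3 ≤ m
    · exact ⟨_, S.tA_normalises ha haa, hat, fun σ f hf => S.tA_mem hf h3 ha haa ha0⟩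
    · -- compose with a transvection fixing the target
      obtain ⟨b, hb, hbb, hb0, hbt⟩ := lift ht ht0
      refine ⟨tA i b * tA i a, mul_mem (S.tA_normalises hb hbb) (S.tA_normalises ha haa), ?_,
        fun σ f hf => S.tA2_mem hf hb hbb hb0 ha haa ha0⟩
      have hgR : tA i a * s * (tA i a)⁻¹ ∈ R := by rw [S.tA_conj ha haa hs]; exact S.T_mem ha hs
      have hbg : bv (tA i a * s * (tA i a)⁻¹) b = 0 := by
        rw [hbvc hgR ht hb hbt, show t = (tA i a * s * (tA i a)⁻¹) * ((tA i a * s * (tA i a)⁻¹)⁻¹ * t) by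
          rw [mul_inv_cancel_left], S.bv_mul' hgR (R.mul_mem (R.inv_mem hgR) ht) hgR, bv_self, zero_add, bv_symm,
          S.bv_scalar hat]
      rwa [show tA i b * tA i a * s * (tA i b * tA i a)⁻¹ = tA i b * (tA i a * s * (tA i a)⁻¹) * (tA i b)⁻¹ by group,
        S.tA_conj hb hbb hgR, S.T_comm hbg]
  by_cases hsame : s⁻¹ * t ∈ Cfsg.Geo.scalars ι F
  · exact ⟨1, one_mem _, by simpa using hsame, fun σ f hf => one_mem _⟩
  -- an element anticommuting with both
  obtain ⟨u, hu, hul, hus⟩ := S.sep [s * t] s hs (fun x hx => by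
    rw [List.mem_singleton] at hx; rw [hx]; exact R.mul_mem hs ht) ⟨hs0, fun h => ht0 (by
    rcases S.sq s hs with e | e <;> rw [← mul_assoc, e] at h
    · rwa [one_mul] at h
    · rw [neg_one_mul] at h
      have h' := mul_mem (inv_mem (mul_mem (scl_mem_scalars (ι := ι) S.i_ne) (scl_mem_scalars S.i_ne))) h
      rwa [S.ii, inv_neg, inv_one, neg_one_mul, neg_neg] at h')⟩
  have hut : bv u t = 1 := by
    have h := hul _ List.mem_cons_self
    rw [S.bv_mul' hs ht hu, hus] at h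
    rcases S.bv_cases u t with e | e
    · rw [e] at h; exact absurd h (by decide)
    · exact e
  obtain ⟨a, ha, haa, ha0, hau⟩ := one hs hu (by rw [bv_symm]; exact hus)
  obtain ⟨b, hb, hbb, hb0, hbt⟩ := one hu ht hut
  refine ⟨tA i b * tA i a, mul_mem (S.tA_normalises hb hbb) (S.tA_normalises ha haa), ?_,
    fun σ f hf => S.tA2_mem hf hb hbb hb0 ha haa ha0⟩
  obtain ⟨e, he, hee⟩ := exists_scl hau
  obtain ⟨X, hX⟩ : ∃ X, X = tA i a * s * (tA i a)⁻¹ := ⟨_, rfl⟩
  rw [← hX] at hee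
  have hXu : X = u * (scl ι e)⁻¹ := by rw [← hee]; group
  rw [show tA i b * tA i a * s * (tA i b * tA i a)⁻¹ = tA i b * X * (tA i b)⁻¹ by rw [hX]; group, hXu,
    show tA i b * (u * (scl ι e)⁻¹) * (tA i b)⁻¹ = (tA i b * u * (tA i b)⁻¹) * (tA i b * (scl ι e)⁻¹ * (tA i b)⁻¹) by
      group, show tA i b * (scl ι e)⁻¹ * (tA i b)⁻¹ = (scl ι e)⁻¹ by
      rw [mul_inv_eq_iff_eq_mul]
      exact (Aschbacher.commute_of_mem_scalars (inv_mem (scl_mem_scalars he)) _).symm,
    _root_.mul_inv_rev, inv_inv, mul_assoc]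
  exact mul_mem (scl_mem_scalars he) hbt

end Sign4

end CfsgLib.Classical22.C6Four
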