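/-
A group of isometries containing the normaliser of the group, in which the centralisers of its involutions normalise
it, normalises it.
-/
import Cfsg.Agent.Lib.Classical22.C6Four.Amb
import Cfsg.Agent.Lib.Classical22.C6Two.Abs

set_option autoImplicit false
set_option maxHeartbeats 1000000

namespace CfsgLib.Classical22.C6Four

open Matrix CfsgLib.Classical22.C6Plus
open scoped MatrixGroups Classical

variable {ι : Type} [Fintype ι] [DecidableEq ι] {F : Type*} [Field F] [Fintype F]

namespace Sign4

variable {R : Subgroup (GL ι F)} {m : ℕ} {i : F} (S : Sign4 R m i) {σ : F →+* F} {f : (ι → F) → (ι → F) → F}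
include S

lemma bv_congr {a a' b b' : GL ι F} (ha : a ∈ R) (ha' : a' ∈ R) (hb : b ∈ R) (hb' : b' ∈ R)
    (h : a⁻¹ * a' ∈ Cfsg.Geo.scalars ι F) (h' : b⁻¹ * b' ∈ Cfsg.Geo.scalars ι F) : bv a b = bv a' b' := by
  have e1 : ∀ c ∈ R, bv a' c = bv a c := fun c hc => by
    rw [show a' = a * (a⁻¹ * a') by rw [mul_inv_cancel_left], S.bv_mul ha (R.mul_mem (R.inv_mem ha) ha') hc,
      S.bv_scalar h, add_zero]
  have e2 : bv a b' = bv a b := by
    rw [show b' = b * (b⁻¹ * b') by rw [mul_inv_cancel_left], S.bv_mul' hb (R.mul_mem (R.inv_mem hb) hb') ha,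
      bv_symm a (b⁻¹ * b'), S.bv_scalar h', add_zero]
  rw [e1 b' hb', e2]

lemma det_eq_one {r : GL ι F} (hr : r ∈ R) : (r : Matrix ι ι F).det = 1 := by
  have hm := S.two_le
  have h2 : 2 ^ m = 4 * 2 ^ (m - 2) := by
    rw [show (4 : ℕ) = 2 ^ 2 by norm_num, ← pow_add]; congr 1; omega
  have hscal : ∀ {c : F}, c ≠ 0 → c ^ 4 = 1 → (scl ι c : Matrix ι ι F).det = 1 := fun {c} hc h4 => by
    rw [scl_val hc, Matrix.det_smul, Matrix.det_one, mul_one, S.card_index, h2, pow_mul, h4, one_pow]
  have hi4 : i ^ 4 = 1 := by linear_combination (i * i - 1) * S.sqi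
  by_cases hs : r ∈ Cfsg.Geo.scalars ι F
  · obtain ⟨c, hc, rfl⟩ := exists_scl hs
    refine hscal hc ?_
    obtain ⟨j⟩ := S.nonempty
    rcases S.sq _ hr with e | e <;> have h1 := congrArg Units.val e <;>
      rw [Units.val_mul, scl_val hc, smul_mul_smul_comm, one_mul] at h1 <;>
      have h3 := congrFun (congrFun h1 j) j <;> simp at h3 <;>
      first
        | linear_combination (c * c + 1) * h3
        | linear_combination (c * c - 1) * h3
  obtain ⟨-, -, a, ha, -, haa, -, hac⟩ := S.exists_lift hr
  have hans : a ∉ Cfsg.Geo.scalars ι F := fun h => hs (by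
    have := mul_mem h (inv_mem (S.class_of_lift hac))
    rwa [_root_.mul_inv_rev, inv_inv, mul_inv_cancel_left] at this)
  have h1 : (scl ι i : Matrix ι ι F).det = 1 := hscal S.i_ne hi4
  have hda : (a : Matrix ι ι F).det = 1 := by
    have e : a = scl ι i * (tA i a * tA i a) := by rw [S.tA_sq haa, mul_inv_cancel_left]
    rw [e, Units.val_mul, Units.val_mul, Matrix.det_mul, Matrix.det_mul, h1, one_mul, S.tA_det ha haa hans,
      ← pow_add, ← two_mul, pow_mul, neg_sq, _root_.sq, S.sqi, show m - 1 = m - 2 + 1 by omega, pow_succ,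
      Nat.mul_comm, pow_mul]
    simp
  rcases hac with rfl | rfl
  · exact hda
  · rwa [Units.val_mul, Matrix.det_mul, h1, one_mul] at hda

lemma le_amb (hf : Form R i σ f) : R ≤ amb f := fun r hr => mem_amb.2 ⟨hf.iso r hr, S.det_eq_one hr⟩

lemma conj_bv {g a b : GL ι F} : bv (g * a * g⁻¹) (g * b * g⁻¹) = bv a b := by
  unfold bv
  rw [show g * a * g⁻¹ * (g * b * g⁻¹) = g * (a * b) * g⁻¹ by group,
    show g * b * g⁻¹ * (g * a * g⁻¹) = g * (b * a) * g⁻¹ by group]
  by_cases h : a * b = b * a
  · rw [if_pos h, if_pos (by rw [h])]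
  · rw [if_neg h, if_neg fun e => h (mul_left_cancel (mul_right_cancel e))]

/-- An element whose conjugation fixes every class is a scalar multiple of an element of the group. -/
lemma mem_of_fix {g : GL ι F} (hg : ∀ r ∈ R, (g * r * g⁻¹)⁻¹ * r ∈ Cfsg.Geo.scalars ι F) :
    ∃ u ∈ R, u⁻¹ * g ∈ Cfsg.Geo.scalars ι F := by
  haveI := S.nonempty
  rcases S.cent (g := (g : Matrix ι ι F)) (fun r hr => by
    obtain ⟨c, hc, he⟩ := exists_scl (hg r hr)
    refine ⟨c, ?_⟩
    have h1 : r = g * r * g⁻¹ * scl ι c := by rw [← he, mul_inv_cancel_left]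
    have h : r * g = g * r * scl ι c := by
      calc r * g = g * r * g⁻¹ * scl ι c * g := by rw [← h1]
        _ = g * r * scl ι c := by rw [mul_assoc (g * r * g⁻¹), scl_comm hc, ← mul_assoc, inv_mul_cancel_right]
    rw [← Units.val_mul, h, Units.val_mul, Units.val_mul, scl_val hc, mul_smul_comm, mul_one]) with h | ⟨u, hu, c, hc⟩
  · exact absurd h g.ne_zero
  · refine ⟨u, hu, ?_⟩
    refine Techniques.AschPrime.mem_scalars_of_eq_smul (c := c) ?_
    rw [Units.val_mul, hc, mul_smul_comm, Units.inv_mul]

/-- The fusion argument. -/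
theorem normalises_of_centralisers (h3 : 3 ≤ m) (hf : Form R i σ f) {H : Subgroup (GL ι F)} (hH : H ≤ amb f)
    (hN : Cfsg.Geo.subgroupNormalizer R ⊓ amb f ≤ H)
    (hC : ∀ x ∈ R, x * x = 1 → x ∉ Cfsg.Geo.scalars ι F → ∀ g ∈ H, g * x = x * g →
      g ∈ Cfsg.Geo.subgroupNormalizer R) :
    H ≤ Cfsg.Geo.subgroupNormalizer R := by
  haveI : Finite (GL ι F) := inferInstance
  haveI := S.nonempty
  have hRH : R ≤ H := fun r hr => hN ⟨Subgroup.le_normalizer hr, S.le_amb hf hr⟩
  obtain ⟨Zs, hZs⟩ : ∃ Zs : Subgroup H, Zs = (Cfsg.Geo.scalars ι F).subgroupOf H := ⟨_, rfl⟩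
  have hZm : ∀ g : H, g ∈ Zs ↔ (g : GL ι F) ∈ Cfsg.Geo.scalars ι F := fun g => by
    rw [hZs]; exact Subgroup.mem_subgroupOf
  haveI hZn : Zs.Normal := ⟨fun n hn g => by
    rw [hZm] at hn ⊢
    rwa [Subgroup.coe_mul, Subgroup.coe_mul, Subgroup.coe_inv, ← Aschbacher.commute_of_mem_scalars hn (g : GL ι F),
      mul_inv_cancel_right]⟩
  have hmk : ∀ g h : H, (g : H ⧸ Zs) = h ↔ (g : GL ι F)⁻¹ * h ∈ Cfsg.Geo.scalars ι F := fun g h => by
    rw [QuotientGroup.eq, hZm]; rfl
  obtain ⟨ZR, hZR⟩ : ∃ ZR : Subgroup R, ZR = (Cfsg.Geo.scalars ι F).subgroupOf R := ⟨_, rfl⟩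
  have hRm : ∀ r : R, r ∈ ZR ↔ (r : GL ι F) ∈ Cfsg.Geo.scalars ι F := fun r => by
    rw [hZR]; exact Subgroup.mem_subgroupOf
  haveI hRn : ZR.Normal := ⟨fun n hn g => by
    rw [hRm] at hn ⊢
    rwa [Subgroup.coe_mul, Subgroup.coe_mul, Subgroup.coe_inv, ← Aschbacher.commute_of_mem_scalars hn (g : GL ι F),
      mul_inv_cancel_right]⟩
  have hneg : (-1 : GL ι F) ∈ Cfsg.Geo.scalars ι F :=
    S.ii ▸ mul_mem (scl_mem_scalars S.i_ne) (scl_mem_scalars S.i_ne)
  have hmkR : ∀ a b : R, (a : R ⧸ ZR) = b ↔ (a : GL ι F)⁻¹ * b ∈ Cfsg.Geo.scalars ι F := fun a b => by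
    rw [QuotientGroup.eq, hRm]; rfl
  have hcq : ∀ x y : R ⧸ ZR, x * y = y * x := fun x y => by
    induction x using QuotientGroup.induction_on with
    | _ a => induction y using QuotientGroup.induction_on with
      | _ b =>
        refine (hmkR (a * b) (b * a)).2 ?_
        rw [Subgroup.coe_mul, Subgroup.coe_mul]
        rcases S.comm a a.2 b b.2 with h | h <;> rw [h]
        · rw [inv_mul_cancel]; exact one_mem _
        · rw [inv_neg, neg_mul, inv_mul_cancel]; exact hneg
  have hsq : ∀ x : R ⧸ ZR, x * x = 1 := fun x => by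
    induction x using QuotientGroup.induction_on with
    | _ a =>
      refine (hmkR (a * a) 1).2 ?_
      rw [Subgroup.coe_mul, Subgroup.coe_one, mul_one]
      rcases S.sq a a.2 with h | h <;> rw [h]
      · rw [inv_one]; exact one_mem _
      · rw [inv_neg, inv_one]; exact hneg
  letI : AddCommGroup (Additive (R ⧸ ZR)) :=
    { (inferInstance : AddGroup (Additive (R ⧸ ZR))) with add_comm := fun x y => hcq _ _ }
  letI : Module (ZMod 2) (Additive (R ⧸ ZR)) := AddCommGroup.zmodModule (n := 2) fun x => by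
    rw [two_nsmul]; exact hsq _
  haveI : Finite (Additive (R ⧸ ZR)) := inferInstanceAs (Finite (R ⧸ ZR))
  -- representatives
  obtain ⟨rep, hrep⟩ : ∃ rep : Additive (R ⧸ ZR) → R, ∀ x, ((rep x : R) : R ⧸ ZR) = Additive.toMul x :=
    ⟨fun x => Quotient.out (Additive.toMul x), fun x => QuotientGroup.out_eq' _⟩
  obtain ⟨cls, hcls⟩ : ∃ cls : R → Additive (R ⧸ ZR), ∀ r, Additive.toMul (cls r) = (r : R ⧸ ZR) :=
    ⟨fun r => Additive.ofMul (r : R ⧸ ZR), fun r => rfl⟩
  obtain ⟨e, he⟩ : ∃ e : Additive (R ⧸ ZR) → H ⧸ Zs, ∀ x, e x = ((⟨rep x, hRH (rep x).2⟩ : H) : H ⧸ Zs) :=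
    ⟨_, fun x => rfl⟩
  have hecls : ∀ r : R, e (cls r) = ((⟨r, hRH r.2⟩ : H) : H ⧸ Zs) := fun r => by
    rw [he, hmk]
    exact (hmkR (rep (cls r)) r).1 (by rw [hrep, hcls])
  have hclsrep : ∀ x, cls (rep x) = x := fun x => Additive.toMul.injective (by rw [hcls, hrep])
  have he0 : ∀ r : R, cls r = 0 ↔ (r : GL ι F) ∈ Cfsg.Geo.scalars ι F := fun r => by
    rw [← hRm, ← QuotientGroup.eq_one_iff, ← hcls]
    exact ⟨fun h => by rw [h]; rfl, fun h => Additive.toMul.injective h⟩
  have hadd : ∀ x y, e (x + y) = e x * e y := fun x y => by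
    have h := hecls (rep x * rep y)
    rw [show cls (rep x * rep y) = x + y from Additive.toMul.injective (by
      rw [hcls, QuotientGroup.mk_mul, hrep, hrep]; rfl)] at h
    rw [h, he, he, ← QuotientGroup.mk_mul]
    rfl
  have hinj : Function.Injective e := fun x y h => by
    rw [he, he, hmk] at h
    rw [← hclsrep x, ← hclsrep y]
    exact Additive.toMul.injective (by rw [hcls, hcls]; exact (hmkR _ _).2 h)
  obtain ⟨b, hb⟩ : ∃ b : Additive (R ⧸ ZR) → Additive (R ⧸ ZR) → ZMod 2,
      ∀ x y, b x y = bv (rep x : GL ι F) (rep y) := ⟨_, fun x y => rfl⟩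
  have hbcls : ∀ r r' : R, b (cls r) (cls r') = bv (r : GL ι F) r' := fun r r' => by
    rw [hb]
    exact S.bv_congr (rep _).2 r.2 (rep _).2 r'.2 ((hmkR _ _).1 (by rw [hrep, hcls])) ((hmkR _ _).1 (by rw [hrep, hcls]))
  have hbadd : ∀ x a c, b x (a + c) = b x a + b x c := fun x a c => by
    conv_lhs => rw [← hclsrep x, show a + c = cls (rep a * rep c) from Additive.toMul.injective (by
      rw [hcls, QuotientGroup.mk_mul, hrep, hrep]; rfl)]
    rw [hbcls, Subgroup.coe_mul, S.bv_mul' (rep a).2 (rep c).2 (rep x).2, hb, hb]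
  let Bm : LinearMap.BilinForm (ZMod 2) (Additive (R ⧸ ZR)) :=
    AddMonoidHom.toZModLinearMap 2 (AddMonoidHom.mk' (fun x => AddMonoidHom.toZModLinearMap 2
      (AddMonoidHom.mk' (b x) (hbadd x))) fun x y => LinearMap.ext fun c => by
        change b (x + y) c = b x c + b y c
        rw [hb, bv_symm, ← hb, hbadd, hb, hb, hb, hb, bv_symm (rep c : GL ι F), bv_symm (rep c : GL ι F)])
  have hBm : ∀ x y, Bm x y = b x y := fun x y => rfl
  -- the normaliser
  obtain ⟨N, hNdef⟩ : ∃ N : Subgroup (H ⧸ Zs),
      N = ((Cfsg.Geo.subgroupNormalizer R).comap H.subtype).map (QuotientGroup.mk' Zs) := ⟨_, rfl⟩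
  have hmemN : ∀ g : H, (g : H ⧸ Zs) ∈ N ↔ (g : GL ι F) ∈ Cfsg.Geo.subgroupNormalizer R := fun g => by
    rw [hNdef]
    refine ⟨?_, fun h => ⟨g, h, rfl⟩⟩
    rintro ⟨g', hg', he⟩
    have h1 := (hmk g' g).1 he
    obtain ⟨c, hc, hce⟩ := exists_scl h1
    have hsn : scl ι c ∈ Cfsg.Geo.subgroupNormalizer R :=
      CfsgLib.Solvable.mem_normalizer_of_conj_mem fun r hr => by rwa [scl_comm hc, mul_inv_cancel_right]
    have : (g : GL ι F) = (g' : GL ι F) * scl ι c := by rw [← hce, mul_inv_cancel_left]
    rw [this]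
    exact mul_mem hg' hsn
  have hfixcls : ∀ (g : H) (r r' : R), (g : H ⧸ Zs) * e (cls r) * (g : H ⧸ Zs)⁻¹ = e (cls r') ↔
      ((g : GL ι F) * r * (g : GL ι F)⁻¹)⁻¹ * r' ∈ Cfsg.Geo.scalars ι F := fun g r r' => by
    rw [hecls, hecls, ← QuotientGroup.mk_inv, ← QuotientGroup.mk_mul, ← QuotientGroup.mk_mul, hmk]; rfl
  have hcentr : ∀ g : H, (∀ x, (g : H ⧸ Zs) * e x = e x * (g : H ⧸ Zs)) → ∃ x, (g : H ⧸ Zs) = e x := by
    intro g hg
    obtain ⟨u, hu, hug⟩ := S.mem_of_fix (g := (g : GL ι F)) fun r hr =>
      (hfixcls g ⟨r, hr⟩ ⟨r, hr⟩).1 (by rw [hg]; group)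
    refine ⟨cls ⟨u, hu⟩, ?_⟩
    rw [hecls, eq_comm, hmk]
    exact hug
  -- lifts with square minus one
  have hlift : ∀ {x : Additive (R ⧸ ZR)}, x ≠ 0 → ∃ a : R, cls a = x ∧ (a : GL ι F) * a = -1 ∧
      (a : GL ι F) ∉ Cfsg.Geo.scalars ι F := by
    intro x hx
    obtain ⟨-, -, a, ha, -, haa, -, hac⟩ := S.exists_lift (rep x).2
    have hcl : cls ⟨a, ha⟩ = x := by
      rw [← hclsrep x]
      refine Additive.toMul.injective ?_
      rw [hcls, hcls, eq_comm, hmkR]
      exact S.class_of_lift hac
    exact ⟨⟨a, ha⟩, hcl, haa, fun h => hx (hcl ▸ (he0 _).2 h)⟩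
  let D : C6Two.FusionData (H ⧸ Zs) (Additive (R ⧸ ZR)) :=
    { N := N
      e := e
      B := Bm
      e_add := hadd
      e_inj := hinj
      e_mem := fun x => by rw [he, hmemN]; exact Subgroup.le_normalizer (rep x).2
      refl := fun x y => by rw [hBm, hBm, hb, hb, bv_symm]
      nondeg := fun x hx => by
        rw [← hclsrep x, he0]
        exact S.scalar_of_bv (rep x).2 fun r hr => by
          have := hx (cls ⟨r, hr⟩)
          rwa [hBm, ← hclsrep x, hbcls] at this
      conj := fun n hn => by
        obtain ⟨g, rfl⟩ := QuotientGroup.mk_surjective n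
        have hg := (hmemN g).1 hn
        have hmem : ∀ r : R, (g : GL ι F) * r * (g : GL ι F)⁻¹ ∈ R := fun r =>
          (Subgroup.mem_normalizer_iff.1 hg r).1 r.2
        refine ⟨fun x => cls ⟨_, hmem (rep x)⟩, fun x => ?_, fun x y => ?_⟩
        · conv_lhs => rw [← hclsrep x]
          rw [hfixcls, inv_mul_cancel]
          exact one_mem _
        · rw [hBm, hBm, hbcls, hb]
          exact S.conj_bv
      centr := fun n _ hcomm => by
        obtain ⟨g, rfl⟩ := QuotientGroup.mk_surjective n
        exact hcentr g hcomm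
      ctr := fun x hx n hn => by
        obtain ⟨g, rfl⟩ := QuotientGroup.mk_surjective n
        obtain ⟨x1, hx1, -, -, hxx, -, hxc, -⟩ := S.exists_lift (rep x).2
        have hcl : cls ⟨x1, hx1⟩ = x := by
          rw [← hclsrep x]
          refine Additive.toMul.injective ?_
          rw [hcls, hcls, eq_comm, hmkR]
          exact S.class_of_lift hxc
        have hns : x1 ∉ Cfsg.Geo.scalars ι F := fun h => hx (hcl ▸ (he0 _).2 h)
        have h1 := (hfixcls g ⟨x1, hx1⟩ ⟨x1, hx1⟩).1 (by rw [hcl, hn]; group)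
        obtain ⟨c, hc, hce⟩ := exists_scl h1
        rw [hmemN]
        have hconj : (g : GL ι F) * x1 * (g : GL ι F)⁻¹ = x1 ∨ (g : GL ι F) * x1 * (g : GL ι F)⁻¹ = -x1 := by
          have h2 : x1 = (g : GL ι F) * x1 * (g : GL ι F)⁻¹ * scl ι c := by rw [← hce, mul_inv_cancel_left]
          obtain ⟨X, hX⟩ : ∃ X, X = (g : GL ι F) * x1 * (g : GL ι F)⁻¹ := ⟨_, rfl⟩
          rw [← hX] at h2 ⊢
          have hXX : X * X = 1 := by
            rw [hX, show (g : GL ι F) * x1 * (g : GL ι F)⁻¹ * ((g : GL ι F) * x1 * (g : GL ι F)⁻¹) =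
              (g : GL ι F) * (x1 * x1) * (g : GL ι F)⁻¹ by group, hxx, mul_one, mul_inv_cancel]
          have h3 : scl ι c * scl ι c = 1 := by
            calc scl ι c * scl ι c = (X * X) * (scl ι c * scl ι c) := by rw [hXX, one_mul]
              _ = X * (scl ι c * X) * scl ι c := by rw [scl_comm hc X]; group
              _ = (X * scl ι c) * (X * scl ι c) := by group
              _ = 1 := by rw [← h2, hxx]
          obtain ⟨j⟩ := S.nonempty
          have h4 := congrArg Units.val h3
          rw [Units.val_mul, scl_val hc, smul_mul_smul_comm, one_mul, Units.val_one] at h4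
          rcases mul_self_eq_one_iff.1 (show c * c = 1 by simpa using congrFun (congrFun h4 j) j) with rfl | rfl
          · left
            rw [h2, show scl ι (1 : F) = 1 from Units.ext (by rw [scl_val hc, one_smul, Units.val_one]), mul_one]
          · right
            rw [h2, show scl ι (-1 : F) = -1 from Units.ext (by
              rw [scl_val hc, neg_one_smul, Units.val_neg, Units.val_one]), mul_neg_one, neg_neg]
        rcases hconj with h | h
        · exact hC x1 hx1 hxx hns g g.2 (mul_inv_eq_iff_eq_mul.1 h)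
        · obtain ⟨y, hy, hyx⟩ := S.partner hx1 hns
          have h' : y * (g : GL ι F) * x1 = x1 * (y * g) := by
            rw [mul_assoc, mul_inv_eq_iff_eq_mul.1 h, neg_mul, mul_neg, ← mul_assoc,
              (S.bv_eq_one hy hx1).1 hyx, neg_mul, neg_neg, mul_assoc]
          exact (Subgroup.mul_mem_cancel_left _ (Subgroup.le_normalizer hy)).1
            (hC x1 hx1 hxx hns _ (mul_mem (hRH hy) g.2) h')
      fus := fun x y g hx h => by
        have hy : y ≠ 0 := by
          rintro rfl
          refine hx (hinj ?_)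
          have h0 : e 0 = 1 := by
            have := hadd 0 0
            rw [add_zero] at this
            exact mul_eq_left.1 this.symm
          rw [h0] at h ⊢
          rw [mul_inv_eq_iff_eq_mul, one_mul] at h
          exact mul_eq_left.1 h
        obtain ⟨n, hn, hnt, hnamb⟩ := S.exists_move (rep x).2 (rep y).2
          (fun h => hx (hclsrep x ▸ (he0 _).2 h)) (fun h => hy (hclsrep y ▸ (he0 _).2 h))
        refine ⟨((⟨n, hN ⟨hn, hnamb σ f hf⟩⟩ : H) : H ⧸ Zs), (hmemN _).2 hn, ?_⟩
        rw [← hclsrep x, ← hclsrep y, hfixcls]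
        exact hnt
      tex := fun A Y β hA hYA hβ hYN hfix => by
        obtain ⟨x, hx, hx0⟩ : ∃ x ∈ A, x ≠ 0 := by
          by_contra hcon
          push Not at hcon
          obtain ⟨r, hr, hr0⟩ : ∃ r ∈ R, r ∉ Cfsg.Geo.scalars ι F := by
            by_contra hc
            push Not at hc
            have hirr := S.irr.2 (Matrix.of fun a c => if a = Classical.choice S.nonempty then (1 : F) else 0) (by
              rintro _ ⟨r, hr, rfl⟩
              obtain ⟨c, hc', hce⟩ := exists_scl (hc r hr)
              dsimp only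
              rw [hce, scl_val hc', mul_smul_comm, smul_mul_assoc, one_mul, mul_one])
            obtain ⟨c, hc'⟩ := hirr
            have hcard := S.card_index
            obtain ⟨a, hane⟩ : ∃ a, a ≠ Classical.choice S.nonempty := by
              refine Fintype.exists_ne_of_one_lt_card ?_ _
              rw [hcard]; exact Nat.one_lt_two_pow (by omega)
            have e1 := congrFun (congrFun hc' (Classical.choice S.nonempty)) a
            simp [hane.symm] at e1
          have h1 : cls ⟨r, hr⟩ ∈ A := (hA _).2 fun y hy => by rw [hcon y hy, map_zero, LinearMap.zero_apply]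
          exact hr0 ((he0 _).1 (hcon _ h1))
        obtain ⟨a, hac, haa, hans⟩ := hlift hx0
        obtain ⟨T, hT⟩ : ∃ T : H, (T : GL ι F) = tA i (a : GL ι F) :=
          ⟨⟨_, hN ⟨S.tA_normalises a.2 haa, S.tA_mem hf h3 a.2 haa hans⟩⟩, rfl⟩
        have hbex : ∀ y : Y, ∃ w : H, (w : H ⧸ Zs) = β y ∧ (w : GL ι F) ∈ Cfsg.Geo.subgroupNormalizer R := fun y => by
          obtain ⟨w, hw⟩ := QuotientGroup.mk_surjective (β y)
          exact ⟨w, hw, (hmemN w).1 (hw ▸ hYN y y.2)⟩
        choose w hw hwn using hbex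
        have hwa : ∀ y : Y, (w y : GL ι F) * a * (w y : GL ι F)⁻¹ = a ∨
            (w y : GL ι F) * a * (w y : GL ι F)⁻¹ = -(a : GL ι F) := by
          intro y
          have hcomm : β y * e (cls a) = e (cls a) * β y := by
            by_cases hy : (y : Additive (R ⧸ ZR)) = 0
            · have h1 : β 0 = 1 := by
                have := hβ 0 0
                rw [add_zero] at this
                exact mul_eq_left.1 this.symm
              rw [hy, h1, one_mul, mul_one]
            · exact (hfix y y.2 hy _).2 (hac ▸ hx)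
          have h1 := (hfixcls (w y) a a).1 (by rw [hw, hcomm]; group)
          obtain ⟨X, hX⟩ : ∃ X, X = (w y : GL ι F) * a * (w y : GL ι F)⁻¹ := ⟨_, rfl⟩
          rw [← hX] at h1 ⊢
          have hXR : X ∈ R := hX ▸ (Subgroup.mem_normalizer_iff.1 (hwn y) a).1 a.2
          have hXX : X * X = -1 := by
            rw [hX, show (w y : GL ι F) * (a : GL ι F) * (w y : GL ι F)⁻¹ * ((w y : GL ι F) * a * (w y : GL ι F)⁻¹) =
              (w y : GL ι F) * ((a : GL ι F) * a) * (w y : GL ι F)⁻¹ by group, haa, mul_neg_one, neg_mul, mul_inv_cancel]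
          have haeq : (a : GL ι F) = X * (X⁻¹ * a) := (mul_inv_cancel_left _ _).symm
          have hcm : X * (X⁻¹ * (a : GL ι F)) = X⁻¹ * (a : GL ι F) * X :=
            (Aschbacher.commute_of_mem_scalars h1 X).symm
          rcases S.scalar_cases (R.mul_mem (R.inv_mem hXR) a.2) h1 with e | e | e | e <;> rw [e] at haeq
          · left; rw [haeq, mul_one]
          · right; rw [haeq, mul_neg_one, neg_neg]
          · exfalso
            have := haa
            rw [haeq, mul_assoc, ← mul_assoc (scl ι i), scl_comm S.i_ne X, mul_assoc, S.ii, mul_neg_one, mul_neg, hXX,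
              neg_neg] at this
            exact S.ne_neg 1 this
          · exfalso
            have := haa
            rw [haeq, mul_neg, neg_mul_neg, mul_assoc, ← mul_assoc (scl ι i), scl_comm S.i_ne X, mul_assoc, S.ii,
              mul_neg_one, mul_neg, hXX, neg_neg] at this
            exact S.ne_neg 1 this
        obtain ⟨y0, hy0, hy0a⟩ : ∃ y : Y, y ≠ 0 ∧ (w y : GL ι F) * a * (w y : GL ι F)⁻¹ = a := by
          have hYc : 2 < Nat.card Y := by
            rw [Module.natCard_eq_pow_finrank (K := ZMod 2) (V := Y), hYA, Nat.card_zmod]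
            have hA' : Bm.orthogonal A = A := by
              ext z
              rw [LinearMap.BilinForm.mem_orthogonal_iff]
              exact (hA z).symm
            have hnd : Bm.Nondegenerate := (LinearMap.IsRefl.nondegenerate_iff_separatingLeft (B := Bm)
              (fun u v h => by rw [hBm] at h ⊢; rwa [hb, bv_symm, ← hb])).mpr fun u hu => by
              rw [← hclsrep u, he0]
              exact S.scalar_of_bv (rep u).2 fun r hr => by
                have := hu (cls ⟨r, hr⟩)
                rwa [hBm, ← hclsrep u, hbcls] at this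
            have h1 := LinearMap.BilinForm.finrank_orthogonal hnd A
            rw [hA'] at h1
            have h2 := Module.natCard_eq_pow_finrank (K := ZMod 2) (V := Additive (R ⧸ ZR))
            rw [Nat.card_zmod] at h2
            have h4 : Nat.card R = Nat.card (R ⧸ ZR) * Nat.card ZR := Subgroup.card_eq_card_quotient_mul_card_subgroup ZR
            have h5 : Nat.card ZR ≤ 4 := by
              have hsub : ((↑) : ZR → R) '' Set.univ ⊆ {r : R | (r : GL ι F) = 1 ∨ (r : GL ι F) = -1 ∨
                  (r : GL ι F) = scl ι i ∨ (r : GL ι F) = -scl ι i} := by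
                rintro _ ⟨r, -, rfl⟩; exact S.scalar_cases (r : R).2 ((hRm _).1 r.2)
              rw [← Nat.card_univ, ← Nat.card_image_of_injective Subtype.val_injective, Nat.card_coe_set_eq]
              refine (Set.ncard_le_ncard hsub (Set.toFinite _)).trans ?_
              rw [← Set.ncard_image_of_injective _ Subtype.val_injective]
              refine (Set.ncard_le_ncard (t := ({1, -1, scl ι i, -scl ι i} : Set (GL ι F))) ?_
                (Set.toFinite _)).trans ?_
              · rintro _ ⟨r, hr, rfl⟩; exact hr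
              · exact (Set.ncard_insert_le _ _).trans (Nat.succ_le_succ ((Set.ncard_insert_le _ _).trans
                  (Nat.succ_le_succ ((Set.ncard_insert_le _ _).trans (by simp)))))
            have h6 : 2 ^ (2 * m) ≤ Nat.card (Additive (R ⧸ ZR)) := by
              rw [S.card, pow_add] at h4
              have := Nat.mul_le_mul_left (Nat.card (R ⧸ ZR)) h5
              change 2 ^ (2 * m) ≤ Nat.card (R ⧸ ZR)
              omega
            rw [h2] at h6
            have := (Nat.pow_le_pow_iff_right (by norm_num)).1 h6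
            calc 2 < 2 ^ 2 := by norm_num
              _ ≤ _ := Nat.pow_le_pow_right (by norm_num) (by omega)
          haveI : Fintype Y := Fintype.ofFinite _
          haveI : ∀ y : Y, Decidable ((w y : GL ι F) * a * (w y : GL ι F)⁻¹ = a) := fun y => Classical.dec _
          rw [Nat.card_eq_fintype_card] at hYc
          obtain ⟨y, y', hne, heq⟩ := Fintype.exists_ne_map_eq_of_card_lt
            (fun y : Y => decide ((w y : GL ι F) * a * (w y : GL ι F)⁻¹ = a)) (by rw [Fintype.card_bool]; exact hYc)
          refine ⟨y + y', fun h => hne ?_, ?_⟩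
          · calc y = y + (y' + y') := by
                  rw [show y' + y' = 0 from by
                    rw [← two_smul (ZMod 2) y', show (2 : ZMod 2) = 0 from rfl, zero_smul], add_zero]
              _ = y' := by rw [← add_assoc, h, zero_add]
          · have h1 := (hmk (w y * w y') (w (y + y'))).1 (by
              rw [QuotientGroup.mk_mul, hw, hw, hw, Submodule.coe_add, hβ])
            obtain ⟨c, hc, hce⟩ := exists_scl h1
            have h2 : (w (y + y') : GL ι F) = (w y : GL ι F) * w y' * scl ι c := by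
              rw [← hce, ← Subgroup.coe_mul, mul_inv_cancel_left]
            rw [h2, mul_assoc _ (scl ι c), scl_comm hc, ← mul_assoc, _root_.mul_inv_rev, ← mul_assoc,
              mul_inv_cancel_right, _root_.mul_inv_rev, ← mul_assoc, mul_assoc (w y : GL ι F), mul_assoc (w y : GL ι F)]
            simp only [decide_eq_decide] at heq
            rcases hwa y' with e' | e'
            · rw [e']; exact heq.2 e'
            · rw [e', mul_neg, neg_mul]
              rcases hwa y with e'' | e''
              · exact absurd ((heq.1 e'').symm.trans e') (S.ne_neg _)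
              · rw [e'', neg_neg]
        refine ⟨(T : H ⧸ Zs), (hmemN T).2 (hT ▸ S.tA_normalises a.2 haa),
          ⟨y0, y0.2, fun h => hy0 (Subtype.ext h), ?_⟩, fun y hy => ?_, x, hx, hx0, ?_⟩
        · rw [← hw, ← QuotientGroup.mk_mul, ← QuotientGroup.mk_mul]
          congr 1
          refine Subtype.ext ?_
          rw [Subgroup.coe_mul, Subgroup.coe_mul, hT, tA, mul_assoc,
            ← mul_assoc (w y0 : GL ι F) (scl ι (1 + i))⁻¹,
            ← Aschbacher.commute_of_mem_scalars (inv_mem (scl_mem_scalars S.one_add_ne)) (w y0 : GL ι F),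
            mul_assoc (scl ι (1 + i))⁻¹ (w y0 : GL ι F)]
          congr 1
          refine Units.ext ?_
          rw [Units.val_mul, Units.val_mul, tv_val' S.two_ne haa, add_mul, one_mul, mul_add, mul_one, ← Units.val_mul,
            ← Units.val_mul, ← mul_inv_eq_iff_eq_mul.1 hy0a]
        · have hy' := hwn ⟨y, hy⟩
          obtain ⟨W, hW⟩ : ∃ W, W = (w ⟨y, hy⟩ : GL ι F) := ⟨_, rfl⟩
          have hWa := hwa ⟨y, hy⟩
          rw [← hW] at hy' hWa
          obtain ⟨z, hz⟩ := hcentr (T * w ⟨y, hy⟩ * T⁻¹ * (w ⟨y, hy⟩)⁻¹) fun z => by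
            rw [← mul_inv_eq_iff_eq_mul, ← hclsrep z, hfixcls]
            obtain ⟨r, hr⟩ : ∃ r : GL ι F, r = (rep z : GL ι F) := ⟨_, rfl⟩
            rw [← hr, Subgroup.coe_mul, Subgroup.coe_mul, Subgroup.coe_mul, Subgroup.coe_inv, Subgroup.coe_inv, hT, ← hW]
            have hrR : r ∈ R := hr ▸ (rep z).2
            obtain ⟨s, hs⟩ : ∃ s, s = W⁻¹ * r * W := ⟨_, rfl⟩
            have hsR : s ∈ R := by
              have := (Subgroup.mem_normalizer_iff.1 (inv_mem hy') r).1 hrR
              rwa [inv_inv, ← hs] at this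
            obtain ⟨u, hu⟩ : ∃ u, u = (tA i (a : GL ι F))⁻¹ * s * tA i (a : GL ι F) := ⟨_, rfl⟩
            have huR : u ∈ R := by
              have := (Subgroup.mem_normalizer_iff.1 (inv_mem (S.tA_normalises a.2 haa)) s).1 hsR
              rwa [inv_inv, ← hu] at this
            have hsT : s = C6Plus.T (a : GL ι F) u := by
              rw [← S.tA_conj a.2 haa huR, hu]; group
            have hgoal : tA i (a : GL ι F) * W * (tA i (a : GL ι F))⁻¹ * W⁻¹ * r *
                (tA i (a : GL ι F) * W * (tA i (a : GL ι F))⁻¹ * W⁻¹)⁻¹ =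
                C6Plus.T (a : GL ι F) (W * u * W⁻¹) := by
              rw [← S.tA_conj a.2 haa ((Subgroup.mem_normalizer_iff.1 hy' u).1 huR), hu, hs]; group
            rw [hgoal]
            have hr' : r = W * s * W⁻¹ := by rw [hs]; group
            rw [hr', hsT]
            have hbv : bv (W * u * W⁻¹) a = bv u a := by
              rcases hWa with e | e
              · conv_lhs => rw [← e]
                exact S.conj_bv
              · have : bv (W * u * W⁻¹) (-(W * a * W⁻¹)) = bv (W * u * W⁻¹) (W * a * W⁻¹) := by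
                  rw [bv_symm, bv_neg, bv_symm]
                rw [e, neg_neg] at this
                rw [this, ← e, S.conj_bv]
            rcases S.bv_cases u a with h0 | h0
            · rw [S.T_comm (hbv.trans h0), S.T_comm h0, inv_mul_cancel]; exact one_mem _
            · rw [S.T_anti (hbv.trans h0), S.T_anti h0, show W * ((a : GL ι F) * u) * W⁻¹ =
                W * a * W⁻¹ * (W * u * W⁻¹) by group]
              rcases hWa with e | e <;> rw [e]
              · rw [inv_mul_cancel]; exact one_mem _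
              · rw [neg_mul, mul_neg, inv_mul_cancel]; exact hneg
          exact ⟨z, by rw [← hz, show β y = β (⟨y, hy⟩ : Y) from rfl, ← hw]; rfl⟩
        · rw [← hac, hecls, ← QuotientGroup.mk_mul, hmk, Subgroup.coe_mul, hT, S.tA_sq haa, _root_.mul_inv_rev,
            inv_inv, mul_assoc, scl_comm S.i_ne, inv_mul_cancel_left]
          exact scl_mem_scalars S.i_ne
      inv := by
        obtain ⟨r, hr, hr0⟩ : ∃ r ∈ R, r ∉ Cfsg.Geo.scalars ι F := by
          by_contra hc
          push Not at hc
          have hsub : (R : Set (GL ι F)) ⊆ {1, -1, scl ι i, -scl ι i} := fun r hr => by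
            simpa using S.scalar_cases hr (hc r hr)
          have h4 := (Set.ncard_le_ncard hsub (Set.toFinite _)).trans ((Set.ncard_insert_le _ _).trans
            (Nat.succ_le_succ ((Set.ncard_insert_le _ _).trans
            (Nat.succ_le_succ ((Set.ncard_insert_le _ _).trans (show _ ≤ 2 by simp))))))
          rw [← Nat.card_coe_set_eq, show Nat.card (R : Set (GL ι F)) = Nat.card R from rfl, S.card] at h4
          have := Nat.pow_le_pow_right (show 1 ≤ 2 by norm_num) (show 2 + 2 * 3 ≤ 2 + 2 * m by omega)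
          omega
        obtain ⟨a, hac, haa, hans⟩ := hlift (x := cls ⟨r, hr⟩) fun h => hr0 ((he0 _).1 h)
        obtain ⟨p, hp, hpa⟩ := S.partner a.2 hans
        have hconjp : p * (a : GL ι F) * p⁻¹ = -(a : GL ι F) := by
          rw [(S.bv_eq_one hp a.2).1 hpa, neg_mul, mul_inv_cancel_right]
        obtain ⟨U, hU⟩ : ∃ U : H, (U : GL ι F) = tA i (a : GL ι F) * p :=
          ⟨⟨_, mul_mem (hN ⟨S.tA_normalises a.2 haa, S.tA_mem hf h3 a.2 haa hans⟩) (hRH hp)⟩, rfl⟩
        have hUn : (U : GL ι F) ∈ Cfsg.Geo.subgroupNormalizer R :=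
          hU ▸ mul_mem (S.tA_normalises a.2 haa) (Subgroup.le_normalizer hp)
        have hact : ∀ z : R, (((U : GL ι F) * z * (U : GL ι F)⁻¹))⁻¹ * C6Plus.T (a : GL ι F) z ∈
            Cfsg.Geo.scalars ι F := by
          intro z
          rw [hU, show tA i (a : GL ι F) * p * (z : GL ι F) * (tA i (a : GL ι F) * p)⁻¹ =
            tA i (a : GL ι F) * (p * z * p⁻¹) * (tA i (a : GL ι F))⁻¹ by group]
          rcases S.comm p hp z z.2 with e | e <;> rw [e]
          · rw [mul_inv_cancel_right, S.tA_conj a.2 haa z.2, inv_mul_cancel]; exact one_mem _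
          · rw [neg_mul, mul_inv_cancel_right, mul_neg, neg_mul, S.tA_conj a.2 haa z.2, inv_neg, neg_mul,
              inv_mul_cancel]
            exact hneg
        obtain ⟨φ, hφ⟩ : ∃ φ : R →* Multiplicative (ZMod 2), ∀ z : R,
            φ z = Multiplicative.ofAdd (bv (z : GL ι F) a) :=
          ⟨{ toFun := fun z => Multiplicative.ofAdd (bv (z : GL ι F) a)
             map_one' := by simp [S.bv_one]
             map_mul' := fun u v => by simp [S.bv_mul u.2 v.2, a.2, ← ofAdd_add] }, fun z => rfl⟩
        obtain ⟨xk, hxk, hx8⟩ : ∃ z : R, bv (z : GL ι F) a = 0 ∧ cls z ∉ ({0, cls a} : Set _) := by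
          by_contra hcon
          push Not at hcon
          have h1 : Nat.card R ≤ Nat.card φ.ker * 2 := by
            rw [← Subgroup.card_mul_index φ.ker, Subgroup.index_ker]
            refine Nat.mul_le_mul_left _ ((Nat.card_le_card_of_injective _ Subtype.val_injective).trans ?_)
            simp [Nat.card_eq_fintype_card]
          have hsub : ((φ.ker.map R.subtype : Subgroup (GL ι F)) : Set (GL ι F)) ⊆
              ({1, -1, scl ι i, -scl ι i} : Set (GL ι F)) ∪
                (fun s => (a : GL ι F) * s) '' ({1, -1, scl ι i, -scl ι i} : Set (GL ι F)) := by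
            rintro _ ⟨z, hz, rfl⟩
            rw [SetLike.mem_coe, MonoidHom.mem_ker, hφ] at hz
            have := hcon z (by simpa using hz)
            rcases this with h | h
            · left
              simpa using S.scalar_cases z.2 ((he0 z).1 h)
            · right
              rw [Set.mem_singleton_iff] at h
              have h' : ((a : R) : R ⧸ ZR) = z := by rw [← hcls, ← hcls, h]
              refine ⟨(a : GL ι F)⁻¹ * z, ?_, mul_inv_cancel_left _ _⟩
              simpa using S.scalar_cases (R.mul_mem (R.inv_mem a.2) z.2) ((hmkR a z).1 h')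
          have h4 : ({1, -1, scl ι i, -scl ι i} : Set (GL ι F)).ncard ≤ 4 :=
            (Set.ncard_insert_le _ _).trans (Nat.succ_le_succ ((Set.ncard_insert_le _ _).trans
              (Nat.succ_le_succ ((Set.ncard_insert_le _ _).trans (by simp)))))
          have h5 := ((Set.ncard_le_ncard hsub (Set.toFinite _)).trans (Set.ncard_union_le _ _)).trans
            (Nat.add_le_add h4 ((Set.ncard_image_le (Set.toFinite _)).trans h4))
          rw [← Nat.card_coe_set_eq] at h5
          change Nat.card (φ.ker.map R.subtype) ≤ 8 at h5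
          rw [← Nat.card_congr (φ.ker.equivMapOfInjective R.subtype R.subtype_injective).toEquiv] at h5
          rw [S.card] at h1
          have := Nat.pow_le_pow_right (show 1 ≤ 2 by norm_num) (show 2 + 2 * 3 ≤ 2 + 2 * m by omega)
          omega
        refine ⟨(U : H ⧸ Zs), (hmemN U).2 hUn, ?_, fun z h => ?_, cls xk, ?_, fun z h => ?_⟩
        · rw [← QuotientGroup.mk_mul, ← QuotientGroup.mk_one, hmk, Subgroup.coe_mul, Subgroup.coe_one, mul_one, hU,
            show tA i (a : GL ι F) * p * (tA i (a : GL ι F) * p) =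
              tA i (a : GL ι F) * (p * tA i (a : GL ι F) * p⁻¹) * (p * p) by group]
          refine inv_mem (mul_mem ?_ ?_)
          · have h1 : p * tA i (a : GL ι F) * p⁻¹ = tA i (-(a : GL ι F)) := by
              rw [mul_inv_eq_iff_eq_mul]
              refine Units.ext ?_
              rw [Units.val_mul, Units.val_mul, S.tA_val haa, S.tA_val (by rw [neg_mul_neg]; exact haa), mul_smul_comm,
                smul_mul_assoc, mul_add, mul_one, add_mul, one_mul, ← Units.val_mul, ← Units.val_mul, neg_mul,
                mul_inv_eq_iff_eq_mul.1 hconjp, neg_mul]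
            rw [h1]
            refine Techniques.AschPrime.mem_scalars_of_eq_smul (c := (1 + i)⁻¹ * (1 + i)⁻¹ * 2) ?_
            rw [Units.val_mul, S.tA_val haa, S.tA_val (by rw [neg_mul_neg]; exact haa), smul_mul_smul_comm,
              Units.val_neg, show (1 + ((a : GL ι F) : Matrix ι ι F)) * (1 + -((a : GL ι F) : Matrix ι ι F)) = (2 : F) • 1 by
                rw [mul_add, mul_one, mul_neg, add_mul, one_mul, ← Units.val_mul, haa, Units.val_neg, Units.val_one,
                  two_smul]
                abel, smul_smul]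
          · rcases S.sq p hp with e | e <;> rw [e]
            exacts [one_mem _, hneg]
        · have h1 := (hfixcls U ⟨p, hp⟩ ⟨p, hp⟩).1 (by
            rw [h, he, hecls, ← QuotientGroup.mk_inv, ← QuotientGroup.mk_mul, ← QuotientGroup.mk_mul, hmk]
            simp only [Subgroup.coe_mul, Subgroup.coe_inv]
            rcases S.comm (rep z) (rep z).2 p hp with e | e <;> rw [e]
            · rw [mul_inv_cancel_right, inv_mul_cancel]; exact one_mem _
            · rw [neg_mul, mul_inv_cancel_right, inv_neg, neg_mul, inv_mul_cancel]; exact hneg)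
          have h2 := mul_mem (inv_mem h1) (hact ⟨p, hp⟩)
          rw [S.T_anti hpa, _root_.mul_inv_rev, inv_inv, mul_assoc, mul_inv_cancel_left] at h2
          refine hans ?_
          obtain ⟨c, hc, hce⟩ := exists_scl h2
          have : (a : GL ι F) = scl ι c := by
            rw [← mul_left_inj p, scl_comm hc p, ← hce, mul_inv_cancel_left]
          rw [this]; exact scl_mem_scalars hc
        · rw [← mul_inv_eq_iff_eq_mul, hfixcls]
          have := hact xk
          rwa [S.T_comm hxk] at this
        · rw [← hclsrep z, hecls (rep z), hecls, ← QuotientGroup.mk_inv, ← QuotientGroup.mk_mul,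
            ← QuotientGroup.mk_mul, ← QuotientGroup.mk_mul, hmk] at h
          simp only [Subgroup.coe_mul, Subgroup.coe_inv] at h
          have hc := hact (rep z)
          obtain ⟨Z, hZ⟩ : ∃ Z, Z = (rep z : GL ι F) := ⟨_, rfl⟩
          obtain ⟨X, hX⟩ : ∃ X, X = (xk : GL ι F) := ⟨_, rfl⟩
          obtain ⟨G0, hG0⟩ : ∃ G0, G0 = (U : GL ι F) * Z * (U : GL ι F)⁻¹ := ⟨_, rfl⟩
          rw [← hZ, ← hX, ← hG0] at h
          rw [← hZ, ← hG0] at hc
          have hXs : X⁻¹ * (C6Plus.T (a : GL ι F) Z * Z) ∈ Cfsg.Geo.scalars ι F := by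
            have h2 := mul_mem h hc
            have e : X⁻¹ * (C6Plus.T (a : GL ι F) Z * Z) = X⁻¹ * (G0 * Z) * (G0⁻¹ * C6Plus.T (a : GL ι F) Z) := by
              obtain ⟨c, hc', hce⟩ := exists_scl hc
              have e2 : C6Plus.T (a : GL ι F) Z = G0 * scl ι c := by rw [← hce, mul_inv_cancel_left]
              rw [hce, e2, mul_assoc G0, scl_comm hc' Z]
              simp only [mul_assoc]
            rwa [e]
          have hzz : Z * Z ∈ Cfsg.Geo.scalars ι F := by
            rcases S.sq _ (hZ ▸ (rep z).2 : Z ∈ R) with e | e <;> rw [e]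
            exacts [one_mem _, hneg]
          refine hx8 ?_
          rcases S.bv_cases Z a with h0 | h0
          · left
            rw [he0, ← hX]
            rw [S.T_comm h0] at hXs
            have := mul_mem hzz (inv_mem hXs)
            rwa [_root_.mul_inv_rev, inv_inv, mul_inv_cancel_left] at this
          · right
            rw [Set.mem_singleton_iff]
            refine Additive.toMul.injective ?_
            rw [hcls, hcls, hmkR, ← hX]
            rw [S.T_anti h0, mul_assoc (a : GL ι F), ← mul_assoc X⁻¹] at hXs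
            have := mul_mem hXs (inv_mem hzz)
            rwa [mul_inv_cancel_right] at this }
  intro g hg
  have h : ((⟨g, hg⟩ : H) : H ⧸ Zs) ∈ D.N := by rw [D.eq_top]; exact Subgroup.mem_top _
  exact (hmemN ⟨g, hg⟩).1 h

end Sign4

end CfsgLib.Classical22.C6Four
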