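/-
Coordinates in two blocks: the sign change and the swap lie in the group.
-/
import Cfsg.Agent.Lib.Classical22.C6Four.Top

set_option autoImplicit false
set_option maxHeartbeats 800000

namespace CfsgLib.Classical22.C6Four

open Matrix CfsgLib.Classical22.C6Plus
open scoped MatrixGroups Classical

variable {κ : Type} [Fintype κ] [DecidableEq κ] {F : Type*} [Field F]

/-- A pair of invertible matrices on the two blocks. -/
noncomputable def dg (A D : GL κ F) : GL (κ ⊕ κ) F where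
  val := Matrix.fromBlocks (A : Matrix κ κ F) 0 0 (D : Matrix κ κ F)
  inv := Matrix.fromBlocks ((A⁻¹ : GL κ F) : Matrix κ κ F) 0 0 ((D⁻¹ : GL κ F) : Matrix κ κ F)
  val_inv := by simp [Matrix.fromBlocks_multiply]
  inv_val := by simp [Matrix.fromBlocks_multiply]

lemma dg_val (A D : GL κ F) :
    (dg A D : Matrix (κ ⊕ κ) (κ ⊕ κ) F) = Matrix.fromBlocks (A : Matrix κ κ F) 0 0 (D : Matrix κ κ F) := rfl

lemma dg_mul (A D A' D' : GL κ F) : dg A D * dg A' D' = dg (A * A') (D * D') :=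
  Units.ext (by simp [dg_val, Matrix.fromBlocks_multiply])

lemma dg_one : dg (1 : GL κ F) 1 = 1 := Units.ext (by simp [dg_val])

lemma dg_inv (A D : GL κ F) : (dg A D)⁻¹ = dg A⁻¹ D⁻¹ := rfl

lemma dg_neg (A D : GL κ F) : -dg A D = dg (-A) (-D) := Units.ext (by simp [dg_val, Matrix.fromBlocks_neg])

lemma dg_inj {A D A' D' : GL κ F} : dg A D = dg A' D' ↔ A = A' ∧ D = D' := by
  refine ⟨fun h => ?_, fun h => by rw [h.1, h.2]⟩
  have h' := congrArg Units.val h
  rw [dg_val, dg_val, Matrix.fromBlocks_inj] at h'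
  exact ⟨Units.ext h'.1, Units.ext h'.2.2.2⟩

lemma scl_dg {c : F} (hc : c ≠ 0) : scl (κ ⊕ κ) c = dg (scl κ c) (scl κ c) := Units.ext (by
  rw [dg_val, scl_val hc, scl_val hc, ← Matrix.fromBlocks_one, Matrix.fromBlocks_smul, smul_zero])

lemma dg_det (A D : GL κ F) :
    (dg A D : Matrix (κ ⊕ κ) (κ ⊕ κ) F).det = (A : Matrix κ κ F).det * (D : Matrix κ κ F).det := by
  rw [dg_val, Matrix.det_fromBlocks_zero₁₂]

lemma dg_mulVec (A D : GL κ F) (u : κ ⊕ κ → F) : (dg A D : Matrix (κ ⊕ κ) (κ ⊕ κ) F) *ᵥ u =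
    Sum.elim ((A : Matrix κ κ F) *ᵥ (u ∘ Sum.inl)) ((D : Matrix κ κ F) *ᵥ (u ∘ Sum.inr)) := by
  rw [dg_val, Matrix.fromBlocks_mulVec, Matrix.zero_mulVec, Matrix.zero_mulVec, add_zero, zero_add]

/-- The sign change. -/
noncomputable def sgn : GL (κ ⊕ κ) F := dg 1 (-1)

/-- The swap. -/
noncomputable def sw : GL (κ ⊕ κ) F where
  val := Matrix.fromBlocks 0 1 1 0
  inv := Matrix.fromBlocks 0 1 1 0
  val_inv := by simp [Matrix.fromBlocks_multiply]
  inv_val := by simp [Matrix.fromBlocks_multiply]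

lemma sw_val : ((sw : GL (κ ⊕ κ) F) : Matrix (κ ⊕ κ) (κ ⊕ κ) F) = Matrix.fromBlocks 0 1 1 0 := rfl

lemma sw_mulVec (u : κ ⊕ κ → F) : ((sw : GL (κ ⊕ κ) F) : Matrix (κ ⊕ κ) (κ ⊕ κ) F) *ᵥ u =
    Sum.elim (u ∘ Sum.inr) (u ∘ Sum.inl) := by
  rw [sw_val, Matrix.fromBlocks_mulVec, Matrix.zero_mulVec, Matrix.zero_mulVec, Matrix.one_mulVec, Matrix.one_mulVec,
    add_zero, zero_add]

lemma sw_sq : (sw : GL (κ ⊕ κ) F) * sw = 1 := Units.ext (by simp [sw_val, Matrix.fromBlocks_multiply])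

lemma sw_dg (A D : GL κ F) : sw * dg A D = dg D A * sw := Units.ext (by
  simp [sw_val, dg_val, Matrix.fromBlocks_multiply])

lemma sw_conj (A D : GL κ F) : sw * dg A D * sw⁻¹ = dg D A := by rw [sw_dg, mul_inv_cancel_right]

lemma sgn_sq : (sgn : GL (κ ⊕ κ) F) * sgn = 1 := by rw [sgn, dg_mul, one_mul, neg_mul_neg, one_mul, dg_one]

lemma sgn_sw : (sgn : GL (κ ⊕ κ) F) * sw = -(sw * sgn) := by
  rw [sgn, sw_dg, ← neg_mul, dg_neg, neg_neg]

lemma dg_sgn (A D : GL κ F) : dg A D * sgn = sgn * dg A D := by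
  rw [sgn, dg_mul, dg_mul, mul_one, one_mul, mul_neg_one, neg_one_mul]

/-- Matrices commuting with the sign change are block diagonal. -/
lemma eq_dg (h2 : (2 : F) ≠ 0) {g : GL (κ ⊕ κ) F} (h : g * sgn = sgn * g) : ∃ A D, g = dg A D := by
  have key : ∀ M : Matrix (κ ⊕ κ) (κ ⊕ κ) F, M * (sgn : GL (κ ⊕ κ) F) = (sgn : GL (κ ⊕ κ) F) * M →
      M = Matrix.fromBlocks M.toBlocks₁₁ 0 0 M.toBlocks₂₂ := by
    intro M hM
    rw [sgn, dg_val, ← Matrix.fromBlocks_toBlocks M, Matrix.fromBlocks_multiply, Matrix.fromBlocks_multiply,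
      Matrix.fromBlocks_inj] at hM
    obtain ⟨-, h12, h21, -⟩ := hM
    simp only [Units.val_one, Units.val_neg, Matrix.mul_zero, Matrix.zero_mul, zero_add, add_zero, Matrix.mul_neg,
      Matrix.mul_one, Matrix.one_mul, Matrix.neg_mul] at h12 h21
    conv_lhs => rw [← Matrix.fromBlocks_toBlocks M]
    rw [Matrix.fromBlocks_inj]
    exact ⟨rfl, two_smul_eq_zero h2 h12.symm, two_smul_eq_zero h2 h21, rfl⟩
  have h' : g⁻¹ * sgn = sgn * g⁻¹ := by
    rw [inv_mul_eq_iff_eq_mul, ← mul_assoc, h, mul_inv_cancel_right]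
  have e1 := key g (by rw [← Units.val_mul, ← Units.val_mul, h])
  have e2 := key (g⁻¹ : GL (κ ⊕ κ) F) (by rw [← Units.val_mul, ← Units.val_mul, h'])
  have e3 := g.mul_inv
  have e4 := g.inv_mul
  rw [e1, e2, Matrix.fromBlocks_multiply, ← Matrix.fromBlocks_one, Matrix.fromBlocks_inj] at e3
  rw [e1, e2, Matrix.fromBlocks_multiply, ← Matrix.fromBlocks_one, Matrix.fromBlocks_inj] at e4
  simp only [Matrix.mul_zero, add_zero, zero_add] at e3 e4
  exact ⟨⟨_, _, e3.1, e4.1⟩, ⟨_, _, e3.2.2.2, e4.2.2.2⟩, Units.ext e1⟩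

/-- The data in two blocks. -/
structure Blocks (R : Subgroup (GL (κ ⊕ κ) F)) (m : ℕ) (i : F) (σ : F →+* F)
    (f : (κ ⊕ κ → F) → (κ ⊕ κ → F) → F) (f' : (κ → F) → (κ → F) → F) : Prop where
  S : Sign4 R m i
  h3 : 3 ≤ m
  hf : Form R i σ f
  sgn_mem : sgn ∈ R
  sw_mem : sw ∈ R
  split : ∀ u v, f u v = f' (u ∘ Sum.inl) (v ∘ Sum.inl) + f' (u ∘ Sum.inr) (v ∘ Sum.inr)

/-- The group on one block. -/
noncomputable def half (R : Subgroup (GL (κ ⊕ κ) F)) : Subgroup (GL κ F) where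
  carrier := {A | dg A A ∈ R}
  mul_mem' {A B} ha hb := by
    change dg (A * B) (A * B) ∈ R
    rw [← dg_mul]; exact R.mul_mem ha hb
  one_mem' := by change dg 1 1 ∈ R; rw [dg_one]; exact R.one_mem
  inv_mem' {A} ha := by change dg A⁻¹ A⁻¹ ∈ R; rw [← dg_inv]; exact R.inv_mem ha

lemma mem_half {R : Subgroup (GL (κ ⊕ κ) F)} {A : GL κ F} : A ∈ half R ↔ dg A A ∈ R := Iff.rfl

namespace Blocks

variable {R : Subgroup (GL (κ ⊕ κ) F)} {m : ℕ} {i : F} {σ : F →+* F}
  {f : (κ ⊕ κ → F) → (κ ⊕ κ → F) → F} {f' : (κ → F) → (κ → F) → F} (B : Blocks R m i σ f f')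
include B

lemma nonempty : Nonempty κ := by
  obtain ⟨j⟩ := B.S.nonempty
  exact ⟨Sum.elim id id j⟩

lemma ne_neg (A : GL κ F) : A ≠ -A := fun h => by
  haveI := B.nonempty
  exact absurd (two_smul_eq_zero B.S.two_ne (congrArg Units.val h : (A : Matrix κ κ F) = -(A : Matrix κ κ F))) A.ne_zero

/-- An element of the group on the blocks. -/
lemma diag_cases {A D : GL κ F} (h : dg A D ∈ R) : A ∈ half R ∧ (D = A ∨ D = -A) := by
  rcases B.S.comm _ h _ B.sw_mem with e | e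
  · rw [sw_dg, mul_left_inj, dg_inj] at e
    exact ⟨by rw [mem_half]; rwa [e.2] at h, Or.inl e.2⟩
  · rw [sw_dg, ← neg_mul, mul_left_inj, dg_neg, dg_inj] at e
    have h' := R.mul_mem h B.sgn_mem
    rw [sgn, dg_mul, mul_one, mul_neg_one, e.2, neg_neg] at h'
    exact ⟨h', Or.inr e.2⟩

lemma diag_mem {A : GL κ F} (hA : A ∈ half R) {D : GL κ F} (hD : D = A ∨ D = -A) : dg A D ∈ R := by
  rcases hD with rfl | rfl
  · exact hA
  · have := R.mul_mem hA B.sgn_mem
    rwa [sgn, dg_mul, mul_one, mul_neg_one] at this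

/-- Every element is block diagonal or anti-diagonal. -/
lemma elt_cases {r : GL (κ ⊕ κ) F} (hr : r ∈ R) :
    ∃ A ∈ half R, ∃ D, (D = A ∨ D = -A) ∧ (r = dg A D ∨ r = dg A D * sw) := by
  rcases B.S.comm r hr _ B.sgn_mem with e | e
  · obtain ⟨A, D, rfl⟩ := eq_dg B.S.two_ne e
    exact ⟨A, (B.diag_cases hr).1, D, (B.diag_cases hr).2, Or.inl rfl⟩
  · have e' : r * sw * sgn = sgn * (r * sw) := by
      have h1 : (sw : GL (κ ⊕ κ) F) * sgn = -(sgn * sw) := by rw [sgn_sw, neg_neg]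
      rw [mul_assoc, h1, mul_neg, ← mul_assoc, e, neg_mul, neg_neg, mul_assoc]
    obtain ⟨A, D, hAD⟩ := eq_dg B.S.two_ne e'
    have h := R.mul_mem hr B.sw_mem
    rw [hAD] at h
    refine ⟨A, (B.diag_cases h).1, D, (B.diag_cases h).2, Or.inr ?_⟩
    rw [← hAD, mul_assoc, sw_sq, mul_one]

lemma i_mem : scl κ i ∈ half R := by
  rw [mem_half, ← scl_dg B.S.i_ne]; exact B.S.mem_i

/-- The group on one block has the same shape. -/
theorem half_sign : Sign4 (half R) (m - 1) i where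
  nonempty := B.nonempty
  two_ne := B.S.two_ne
  sqi := B.S.sqi
  mem_i := B.i_mem
  sq A hA := by
    rcases B.S.sq _ hA with e | e
    · left; rw [dg_mul, ← dg_one, dg_inj] at e; exact e.1
    · right; rw [dg_mul, ← dg_one, dg_neg, dg_inj] at e; exact e.1
  comm A hA C hC := by
    rcases B.S.comm _ hA _ hC with e | e
    · left; rw [dg_mul, dg_mul, dg_inj] at e; exact e.1
    · right; rw [dg_mul, dg_mul, dg_neg, dg_inj] at e; exact e.1
  irr := by
    refine ⟨fun W hW => ?_, fun M hM => ?_⟩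
    · obtain ⟨U, hU⟩ : ∃ U : Submodule F (κ ⊕ κ → F),
          ∀ u, u ∈ U ↔ u ∘ Sum.inl ∈ W ∧ u ∘ Sum.inr ∈ W :=
        ⟨W.comap (LinearMap.funLeft F F Sum.inl) ⊓ W.comap (LinearMap.funLeft F F Sum.inr), fun u => Iff.rfl⟩
      have hA : ∀ A ∈ half R, ∀ v ∈ W, (A : Matrix κ κ F) *ᵥ v ∈ W := fun A hA v hv => by
        have := hW _ ⟨A, hA, rfl⟩ (Submodule.mem_map_of_mem hv)
        rwa [Matrix.toLin'_apply] at this
      have hneg : ∀ {A : GL κ F}, ∀ D, (D = A ∨ D = -A) → A ∈ half R → ∀ v ∈ W, (D : Matrix κ κ F) *ᵥ v ∈ W := by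
        rintro A D (rfl | rfl) hA' v hv
        · exact hA _ hA' v hv
        · rw [Units.val_neg, Matrix.neg_mulVec]; exact W.neg_mem (hA _ hA' v hv)
      rcases B.S.irr.1 U (by
        rintro _ ⟨r, hr, rfl⟩
        rintro _ ⟨u, hu, rfl⟩
        rw [SetLike.mem_coe, hU] at hu
        rw [hU, Matrix.toLin'_apply]
        obtain ⟨A, hA', D, hD, e | e⟩ := B.elt_cases hr <;> dsimp only <;> rw [e]
        · rw [dg_mulVec, Sum.elim_comp_inl, Sum.elim_comp_inr]
          exact ⟨hA A hA' _ hu.1, hneg D hD hA' _ hu.2⟩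
        · rw [Units.val_mul, ← Matrix.mulVec_mulVec, dg_mulVec, Sum.elim_comp_inl, Sum.elim_comp_inr, sw_mulVec,
            Sum.elim_comp_inl, Sum.elim_comp_inr]
          exact ⟨hA A hA' _ hu.2, hneg D hD hA' _ hu.1⟩) with h | h
      · refine Or.inl ((Submodule.eq_bot_iff _).2 fun v hv => ?_)
        have h1 : Sum.elim v 0 ∈ U := (hU _).2 ⟨by rwa [Sum.elim_comp_inl], by rw [Sum.elim_comp_inr]; exact W.zero_mem⟩
        rw [h, Submodule.mem_bot] at h1
        rw [← Sum.elim_comp_inl v (0 : κ → F), h1]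
        rfl
      · refine Or.inr (eq_top_iff.2 fun v _ => ?_)
        have h1 : Sum.elim v 0 ∈ U := h ▸ Submodule.mem_top
        have h2 := ((hU _).1 h1).1
        rwa [Sum.elim_comp_inl] at h2
    · obtain ⟨c, hc⟩ := B.S.irr.2 (Matrix.fromBlocks M 0 0 M) (by
        rintro _ ⟨r, hr, rfl⟩
        have hMA : ∀ A ∈ half R, M * (A : Matrix κ κ F) = (A : Matrix κ κ F) * M := fun A hA => hM _ ⟨A, hA, rfl⟩
        obtain ⟨A, hA', D, hD, e | e⟩ := B.elt_cases hr <;> dsimp only <;> rw [e]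
        · rcases hD with rfl | rfl <;>
            simp [dg_val, Matrix.fromBlocks_multiply, hMA _ hA']
        · rcases hD with rfl | rfl <;>
            simp [dg_val, sw_val, Matrix.fromBlocks_multiply, hMA _ hA'])
      refine ⟨c, ?_⟩
      rw [← Matrix.fromBlocks_one, Matrix.fromBlocks_smul, Matrix.fromBlocks_inj] at hc
      exact hc.1
  card := by
    obtain ⟨ψ, hψ⟩ : ∃ ψ : half R × Bool × Bool → R, ∀ p, (ψ p : GL (κ ⊕ κ) F) =
        dg (p.1 : GL κ F) (if p.2.1 then -(p.1 : GL κ F) else p.1) * (if p.2.2 then sw else 1) :=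
      ⟨fun p => ⟨_, R.mul_mem (B.diag_mem p.1.2 (by cases p.2.1 <;> simp))
        (by cases p.2.2 <;> simp [B.sw_mem, R.one_mem])⟩, fun p => rfl⟩
    haveI := B.nonempty
    have hsw : ∀ A D : GL κ F, dg A D ≠ sw := fun A D h => by
      have h' := congrArg Units.val h
      rw [dg_val, sw_val, Matrix.fromBlocks_inj] at h'
      exact A.ne_zero h'.1
    have hbij : Function.Bijective ψ := by
      refine ⟨?_, fun r => ?_⟩
      · rintro ⟨A, a, b⟩ ⟨A', a', b'⟩ h
        have h' := congrArg Subtype.val h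
        rw [hψ, hψ] at h'
        have hb : b = b' := by
          cases b <;> cases b' <;> simp only [if_true, if_false, Bool.false_eq_true] at h' ⊢
          · rw [mul_one, ← inv_mul_eq_iff_eq_mul, dg_inv, dg_mul] at h'
            exact (hsw _ _ h').elim
          · rw [mul_one, eq_comm, ← inv_mul_eq_iff_eq_mul, dg_inv, dg_mul] at h'
            exact (hsw _ _ h').elim
        subst hb
        rw [mul_left_inj, dg_inj] at h'
        obtain ⟨h1, h2⟩ := h'
        dsimp only at h1 h2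
        rw [← h1] at h2
        obtain rfl : A = A' := Subtype.ext h1
        cases a <;> cases a' <;> simp only [if_true, if_false, Bool.false_eq_true] at h2 ⊢
        · exact absurd h2 (B.ne_neg _)
        · exact absurd h2.symm (B.ne_neg _)
      · obtain ⟨A, hA, D, hD, e⟩ := B.elt_cases r.2
        obtain ⟨a, ha⟩ : ∃ a : Bool, D = if a then -A else A := by
          rcases hD with h | h
          exacts [⟨false, by simp [h]⟩, ⟨true, by simp [h]⟩]
        rcases e with e | e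
        · exact ⟨⟨⟨A, hA⟩, a, false⟩, Subtype.ext (by rw [hψ, e, ha]; simp)⟩
        · exact ⟨⟨⟨A, hA⟩, a, true⟩, Subtype.ext (by rw [hψ, e, ha]; simp)⟩
    have h := Nat.card_eq_of_bijective ψ hbij
    rw [B.S.card, Nat.card_prod, Nat.card_prod, Nat.card_eq_fintype_card (α := Bool), Fintype.card_bool] at h
    have h3 := B.h3
    rw [show 2 + 2 * m = (2 + 2 * (m - 1)) + 2 by omega, pow_add] at h
    omega
  two_le := by have := B.h3; omega

variable [Fintype F]

omit [Fintype F] in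
lemma form_zero : f' 0 0 = 0 := by
  have h := B.split 0 0
  have h0 := B.hf.smul_left 0 0 0
  rw [zero_mul, zero_smul] at h0
  rw [h0] at h
  have h' : f' 0 0 + f' 0 0 = 0 := h.symm
  rw [← two_mul] at h'
  exact (mul_eq_zero.1 h').resolve_left B.S.two_ne

omit [Fintype F] in
lemma form_half (u v : κ → F) : f' u v = f (Sum.elim u 0) (Sum.elim v 0) := by
  rw [B.split, Sum.elim_comp_inl, Sum.elim_comp_inl, Sum.elim_comp_inr, Sum.elim_comp_inr, B.form_zero, add_zero]

omit [Fintype F] in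
lemma half_form : Form (half R) i σ f' where
  add_left u v w := by
    rw [B.form_half, B.form_half, B.form_half, ← B.hf.add_left]
    congr 1
    funext j; cases j <;> simp
  add_right u v w := by
    rw [B.form_half, B.form_half, B.form_half, ← B.hf.add_right]
    congr 1
    funext j; cases j <;> simp
  smul_left c u v := by
    rw [B.form_half, B.form_half, ← B.hf.smul_left]
    congr 1
    funext j; cases j <;> simp
  smul_right c u v := by
    rw [B.form_half, B.form_half, ← B.hf.smul_right]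
    congr 1
    funext j; cases j <;> simp
  iso A hA u v := by
    rw [B.form_half u v, ← B.hf.iso _ hA, dg_mulVec, dg_mulVec, B.split, Sum.elim_comp_inl, Sum.elim_comp_inl,
      Sum.elim_comp_inr, Sum.elim_comp_inr]
    simp [B.form_zero]
  unit u v := by rw [B.form_half]; exact B.hf.unit _ _

lemma dg_mem_amb {A D : GL κ F} : dg A D ∈ amb f ↔
    (∀ u v, f' ((A : Matrix κ κ F) *ᵥ u) ((A : Matrix κ κ F) *ᵥ v) = f' u v) ∧
      (∀ u v, f' ((D : Matrix κ κ F) *ᵥ u) ((D : Matrix κ κ F) *ᵥ v) = f' u v) ∧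
      (A : Matrix κ κ F).det * (D : Matrix κ κ F).det = 1 := by
  rw [mem_amb, dg_det]
  refine ⟨fun ⟨h, hd⟩ => ⟨fun u v => ?_, fun u v => ?_, hd⟩, fun ⟨hA, hD, hd⟩ => ⟨fun u v => ?_, hd⟩⟩
  · have := h (Sum.elim u 0) (Sum.elim v 0)
    simpa [dg_mulVec, B.split, B.form_zero] using this
  · have := h (Sum.elim 0 u) (Sum.elim 0 v)
    simpa [dg_mulVec, B.split, B.form_zero] using this
  · rw [dg_mulVec, dg_mulVec, B.split, B.split u v, Sum.elim_comp_inl, Sum.elim_comp_inl, Sum.elim_comp_inr,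
      Sum.elim_comp_inr, hA, hD]

/-- A normalising element on both blocks normalises. -/
lemma dg_normalises {A : GL κ F} (hA : A ∈ Cfsg.Geo.subgroupNormalizer (half R)) :
    dg A A ∈ Cfsg.Geo.subgroupNormalizer R := by
  haveI : Finite (GL (κ ⊕ κ) F) := inferInstance
  refine CfsgLib.Solvable.mem_normalizer_of_conj_mem fun r hr => ?_
  obtain ⟨C, hC, D, hD, e⟩ := B.elt_cases hr
  have hC' : A * C * A⁻¹ ∈ half R := (Subgroup.mem_normalizer_iff.1 hA C).1 hC
  have hd : dg A A * dg C D * (dg A A)⁻¹ ∈ R := by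
    rw [dg_inv, dg_mul, dg_mul]
    refine B.diag_mem hC' ?_
    rcases hD with rfl | rfl
    · exact Or.inl rfl
    · right; rw [mul_neg, neg_mul]
  rcases e with rfl | rfl
  · exact hd
  · rw [show dg A A * (dg C D * sw) * (dg A A)⁻¹ = dg A A * dg C D * (sw * (dg A A)⁻¹) by group, dg_inv, sw_dg,
      ← mul_assoc, ← dg_inv]
    exact R.mul_mem hd B.sw_mem

/-- A normalising isometry of determinant a sign lies, doubled, in the group on both blocks. -/
lemma dg_mem_of_normalises {H : Subgroup (GL (κ ⊕ κ) F)} (hN : Cfsg.Geo.subgroupNormalizer R ⊓ amb f ≤ H)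
    {A : GL κ F} (hA : A ∈ Cfsg.Geo.subgroupNormalizer (half R))
    (hi : ∀ u v, f' ((A : Matrix κ κ F) *ᵥ u) ((A : Matrix κ κ F) *ᵥ v) = f' u v)
    (hd : (A : Matrix κ κ F).det * (A : Matrix κ κ F).det = 1) : dg A A ∈ H :=
  hN ⟨B.dg_normalises hA, B.dg_mem_amb.2 ⟨hi, hi, hd⟩⟩

lemma half_index : Fintype.card κ = 2 ^ (m - 1) := B.half_sign.card_index

lemma tA_det_sq {a : GL κ F} (ha : a ∈ half R) (haa : a * a = -1) (hns : a ∉ Cfsg.Geo.scalars κ F) :
    (tA i a : Matrix κ κ F).det * (tA i a : Matrix κ κ F).det = 1 := by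
  rw [B.half_sign.tA_det ha haa hns, ← pow_add, ← two_mul, pow_mul, neg_sq, _root_.sq, B.S.sqi]
  have := B.h3
  rw [show m - 1 - 1 = m - 1 - 2 + 1 by omega, pow_succ, Nat.mul_comm, pow_mul]
  simp

/-- Scaled transvections of the block, doubled, lie in every overgroup. -/
lemma tA_dg_mem {H : Subgroup (GL (κ ⊕ κ) F)} (hN : Cfsg.Geo.subgroupNormalizer R ⊓ amb f ≤ H)
    {a : GL κ F} (ha : a ∈ half R) (haa : a * a = -1) (hns : a ∉ Cfsg.Geo.scalars κ F) :
    dg (tA i a) (tA i a) ∈ H :=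
  B.dg_mem_of_normalises hN (B.half_sign.tA_normalises ha haa) (B.half_sign.tA_iso B.half_form ha haa)
    (B.tA_det_sq ha haa hns)

lemma dg_scalar {A D : GL κ F} (h : dg A D ∈ Cfsg.Geo.scalars (κ ⊕ κ) F) : A ∈ Cfsg.Geo.scalars κ F ∧ A = D := by
  obtain ⟨c, hc, he⟩ := exists_scl h
  rw [scl_dg hc, dg_inj] at he
  exact ⟨he.1 ▸ scl_mem_scalars hc, he.1.trans he.2.symm⟩

/-- On one block only: a square root of minus one in the group of the block lies in every overgroup. -/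
lemma dg_one_mem {a : GL κ F} (ha : a ∈ half R) (haa : a * a = -1) (hns : a ∉ Cfsg.Geo.scalars κ F) :
    dg a 1 ∈ Cfsg.Geo.subgroupNormalizer R ⊓ amb f := by
  have S' := B.half_sign
  have hA : ∀ D, (D = a ∨ D = -a) → D * D = -1 := by rintro D (rfl | rfl) <;> simp [haa]
  have htA : ∀ D, (D = a ∨ D = -a) → tA i (dg a D) = dg (tA i a) (tA i D) := fun D hD => Units.ext (by
    rw [B.S.tA_val (by rw [dg_mul, haa, hA D hD, ← dg_one, dg_neg]), dg_val, dg_val, S'.tA_val haa,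
      S'.tA_val (hA D hD), ← Matrix.fromBlocks_one, Matrix.fromBlocks_add, Matrix.fromBlocks_smul]
    simp)
  have hmem : ∀ D, (D = a ∨ D = -a) → tA i (dg a D) ∈ Cfsg.Geo.subgroupNormalizer R ⊓ amb f := fun D hD => by
    have hR : dg a D ∈ R := B.diag_mem ha hD
    have hsq : dg a D * dg a D = -1 := by rw [dg_mul, haa, hA D hD, ← dg_one, dg_neg]
    exact ⟨B.S.tA_normalises hR hsq, B.S.tA_mem B.hf B.h3 hR hsq fun h => hns (B.dg_scalar h).1⟩
  have e : dg a 1 = scl (κ ⊕ κ) i * (tA i (dg a a) * tA i (dg a (-a))) := by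
    rw [htA a (Or.inl rfl), htA (-a) (Or.inr rfl), dg_mul, scl_dg B.S.i_ne, dg_mul, dg_inj, S'.tA_sq haa,
      mul_inv_cancel_left]
    refine ⟨rfl, Units.ext ?_⟩
    have haa' : (a : Matrix κ κ F) * a = -1 := by rw [← Units.val_mul, haa, Units.val_neg, Units.val_one]
    rw [Units.val_mul, Units.val_mul, S'.tA_val haa, S'.tA_val (hA _ (Or.inr rfl)), scl_val B.S.i_ne, Units.val_one,
      Units.val_neg, smul_mul_smul_comm, show (1 + (a : Matrix κ κ F)) * (1 + -(a : Matrix κ κ F)) = (2 : F) • 1 by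
        rw [mul_add, mul_one, mul_neg, add_mul, one_mul, haa', two_smul]; abel,
      smul_smul, smul_mul_smul_comm, one_mul]
    have hne := S'.one_add_ne
    rw [show i * ((1 + i)⁻¹ * (1 + i)⁻¹ * 2) = 1 by field_simp; linear_combination -B.S.sqi, one_smul]
  rw [e]
  exact mul_mem ⟨Subgroup.le_normalizer B.S.mem_i, B.S.le_amb B.hf B.S.mem_i⟩
    (mul_mem (hmem a (Or.inl rfl)) (hmem (-a) (Or.inr rfl)))

end Blocks

end CfsgLib.Classical22.C6Four
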