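/-
Existence of elements in general position, and commuting signs inside the normaliser invariant under it.
-/
import Cfsg.Agent.Lib.Classical22.C6Four.Top

set_option autoImplicit false
set_option maxHeartbeats 800000

namespace CfsgLib.Classical22.C6Four

open Matrix CfsgLib.Classical22.C6Plus
open scoped MatrixGroups Classical

variable {ι : Type} [Fintype ι] [DecidableEq ι] {F : Type*} [Field F]

lemma scl_mul {a b : F} (ha : a ≠ 0) (hb : b ≠ 0) : scl ι a * scl ι b = scl ι (a * b) := Units.ext (by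
  rw [Units.val_mul, scl_val ha, scl_val hb, scl_val (mul_ne_zero ha hb), smul_mul_smul_comm, one_mul])

lemma scl_one : scl ι (1 : F) = 1 := Units.ext (by rw [scl_val one_ne_zero, one_smul, Units.val_one])

lemma scl_inv {a : F} (ha : a ≠ 0) : (scl ι a)⁻¹ = scl ι a⁻¹ := inv_eq_of_mul_eq_one_right (by
  rw [scl_mul ha (inv_ne_zero ha), mul_inv_cancel₀ ha, scl_one])

lemma scalar_conj {s : GL ι F} (hs : s ∈ Cfsg.Geo.scalars ι F) (g : GL ι F) : g * s * g⁻¹ = s := by
  rw [← Aschbacher.commute_of_mem_scalars hs g, mul_inv_cancel_right]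

namespace Sign4

variable {R : Subgroup (GL ι F)} {m : ℕ} {i : F} (S : Sign4 R m i)
include S

lemma neg_scalar : (-1 : GL ι F) ∈ Cfsg.Geo.scalars ι F :=
  S.ii ▸ mul_mem (scl_mem_scalars S.i_ne) (scl_mem_scalars S.i_ne)

lemma scl_mem_of_sq {c : F} (hc : c ≠ 0) (h : scl ι c * scl ι c = 1 ∨ scl ι c * scl ι c = -1) : scl ι c ∈ R := by
  haveI := S.nonempty
  obtain ⟨j⟩ := S.nonempty
  rcases h with e | e <;> have h1 := congrArg Units.val e <;>
    rw [Units.val_mul, scl_val hc, smul_mul_smul_comm, one_mul] at h1 <;>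
    have h2 := congrFun (congrFun h1 j) j <;> simp at h2
  · rcases mul_self_eq_one_iff.1 h2 with rfl | rfl
    · rw [scl_one]; exact R.one_mem
    · rw [show scl ι (-1 : F) = -1 from Units.ext (by rw [scl_val hc, neg_one_smul, Units.val_neg, Units.val_one])]
      exact S.neg
  · rw [← S.sqi] at h2
    rcases mul_self_eq_mul_self_iff.1 h2 with rfl | rfl
    · exact S.mem_i
    · rw [show scl ι (-i) = -scl ι i from Units.ext (by rw [scl_val hc, Units.val_neg, S.i_val, neg_smul])]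
      exact S.neg_mem S.mem_i

variable [Fintype F]

/-- An element outside two given classes and their product. -/
lemma exists_outside (v w : GL ι F) : ∃ r ∈ R, r ∉ Cfsg.Geo.scalars ι F ∧ v⁻¹ * r ∉ Cfsg.Geo.scalars ι F ∧
    w⁻¹ * r ∉ Cfsg.Geo.scalars ι F ∧ (v * w)⁻¹ * r ∉ Cfsg.Geo.scalars ι F := by
  classical
  haveI : Finite (GL ι F) := inferInstance
  by_contra hcon
  push Not at hcon
  have hsub : (R : Set (GL ι F)) ⊆ ⋃ g ∈ ({1, v, w, v * w} : Finset (GL ι F)),
      (fun s => g * s) '' {s : GL ι F | s ∈ Cfsg.Geo.scalars ι F ∧ g * s ∈ R} := by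
    intro r hr
    simp only [Set.mem_iUnion, Set.mem_image, Set.mem_setOf_eq, Finset.mem_insert, Finset.mem_singleton]
    by_cases h1 : r ∈ Cfsg.Geo.scalars ι F
    · exact ⟨1, Or.inl rfl, r, ⟨h1, by rwa [one_mul]⟩, one_mul r⟩
    by_cases h2 : v⁻¹ * r ∈ Cfsg.Geo.scalars ι F
    · exact ⟨v, Or.inr (Or.inl rfl), _, ⟨h2, by rwa [mul_inv_cancel_left]⟩, mul_inv_cancel_left _ _⟩
    by_cases h3 : w⁻¹ * r ∈ Cfsg.Geo.scalars ι F
    · exact ⟨w, Or.inr (Or.inr (Or.inl rfl)), _, ⟨h3, by rwa [mul_inv_cancel_left]⟩, mul_inv_cancel_left _ _⟩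
    exact ⟨v * w, Or.inr (Or.inr (Or.inr rfl)), _, ⟨hcon r hr h1 h2 h3, by rwa [mul_inv_cancel_left]⟩,
      mul_inv_cancel_left _ _⟩
  have hfib : ∀ g : GL ι F,
      ((fun s => g * s) '' {s : GL ι F | s ∈ Cfsg.Geo.scalars ι F ∧ g * s ∈ R}).ncard ≤ 4 := by
    intro g
    refine (Set.ncard_image_le (Set.toFinite _)).trans ?_
    by_cases he : ∃ s, s ∈ Cfsg.Geo.scalars ι F ∧ g * s ∈ R
    · obtain ⟨s0, hs0, hs0R⟩ := he
      refine (Set.ncard_le_ncard (t := (fun t => s0 * t) '' ({1, -1, scl ι i, -scl ι i} : Set (GL ι F))) ?_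
        (Set.toFinite _)).trans ((Set.ncard_image_le (Set.toFinite _)).trans ?_)
      · rintro s ⟨hs, hsR⟩
        refine ⟨s0⁻¹ * s, ?_, mul_inv_cancel_left _ _⟩
        have h := R.mul_mem (R.inv_mem hs0R) hsR
        rw [_root_.mul_inv_rev, mul_assoc, inv_mul_cancel_left] at h
        simpa using S.scalar_cases h (mul_mem (inv_mem hs0) hs)
      · exact (Set.ncard_insert_le _ _).trans (Nat.succ_le_succ ((Set.ncard_insert_le _ _).trans
          (Nat.succ_le_succ ((Set.ncard_insert_le _ _).trans (by simp)))))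
    · push Not at he
      rw [show {s : GL ι F | s ∈ Cfsg.Geo.scalars ι F ∧ g * s ∈ R} = ∅ from
        Set.eq_empty_iff_forall_notMem.2 fun s hs => he s hs.1 hs.2]
      simp
  have h16 := (Set.ncard_le_ncard hsub (Set.toFinite _)).trans ((Finset.set_ncard_biUnion_le _ _).trans
    (Finset.sum_le_card_nsmul _ _ _ fun g _ => hfib g))
  rw [← Nat.card_coe_set_eq, show Nat.card (R : Set (GL ι F)) = Nat.card R from rfl, S.card, smul_eq_mul] at h16
  have hc : ({1, v, w, v * w} : Finset (GL ι F)).card ≤ 4 :=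
    (Finset.card_insert_le _ _).trans (Nat.succ_le_succ ((Finset.card_insert_le _ _).trans
      (Nat.succ_le_succ ((Finset.card_insert_le _ _).trans (by simp)))))
  have := Nat.pow_le_pow_right (show 1 ≤ 2 by norm_num) (show 2 + 2 * 2 ≤ 2 + 2 * m by have := S.two_le; omega)
  omega

lemma exists_nonscalar : ∃ r ∈ R, r ∉ Cfsg.Geo.scalars ι F := by
  obtain ⟨r, hr, h, -⟩ := S.exists_outside 1 1
  exact ⟨r, hr, h⟩

/-- A group of commuting signs in the normaliser, invariant under it, lies in the group. -/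
theorem le_of_fixed {σ : F →+* F} {f : (ι → F) → (ι → F) → F} (hf : Form R i σ f) {V : Subgroup (GL ι F)}
    (hV : V ≤ Cfsg.Geo.subgroupNormalizer R) (hsq : ∀ v ∈ V, v * v = 1 ∨ v * v = -1)
    (hcomm : ∀ v ∈ V, ∀ w ∈ V, v * w = w * v ∨ v * w = -(w * v))
    (hinv : ∀ g ∈ Cfsg.Geo.subgroupNormalizer R ⊓ amb f, ∀ v ∈ V, g * v * g⁻¹ ∈ V) : V ≤ R := by
  classical
  haveI : Finite (GL ι F) := inferInstance
  have hconj : ∀ v ∈ V, ∀ r ∈ R, v * r * v⁻¹ ∈ R := fun v hv r hr => (Subgroup.mem_normalizer_iff.1 (hV hv) r).1 hr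
  have key : ∀ L : Finset V, ∃ r ∈ R, r ∉ Cfsg.Geo.scalars ι F ∧
      ∀ v ∈ L, ∃ c, c ≠ 0 ∧ (v : GL ι F) * r * (v : GL ι F)⁻¹ = r * scl ι c := by
    intro L
    induction L using Finset.induction_on with
    | empty =>
      obtain ⟨r, hr, h⟩ := S.exists_nonscalar
      exact ⟨r, hr, h, fun v hv => absurd hv (Finset.notMem_empty v)⟩
    | insert v L _ ih =>
      obtain ⟨r, hr, hns, hfix⟩ := ih
      obtain ⟨r1, hr1⟩ : ∃ r1, r1 = (v : GL ι F) * r * (v : GL ι F)⁻¹ := ⟨_, rfl⟩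
      have hr1R : r1 ∈ R := hr1 ▸ hconj v v.2 r hr
      by_cases hsame : r⁻¹ * r1 ∈ Cfsg.Geo.scalars ι F
      · obtain ⟨c, hc, hce⟩ := exists_scl hsame
        refine ⟨r, hr, hns, fun u hu => ?_⟩
        rcases Finset.mem_insert.1 hu with rfl | hu
        · exact ⟨c, hc, by rw [← hr1, ← hce, mul_inv_cancel_left]⟩
        · exact hfix u hu
      refine ⟨r * r1, R.mul_mem hr hr1R, fun h => hsame ?_, fun u hu => ?_⟩
      · rcases S.sq r hr with e | e
        · rw [inv_eq_of_mul_eq_one_right e]; exact h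
        · rw [show r⁻¹ = -r from inv_eq_of_mul_eq_one_right (by rw [mul_neg, e, neg_neg]), neg_mul, ← neg_one_mul]
          exact mul_mem S.neg_scalar h
      rcases Finset.mem_insert.1 hu with rfl | hu
      · have hvv : (u : GL ι F) * r1 * (u : GL ι F)⁻¹ = r := by
          rw [hr1, show (u : GL ι F) * ((u : GL ι F) * r * (u : GL ι F)⁻¹) * (u : GL ι F)⁻¹ =
            (u * u : GL ι F) * r * (u * u : GL ι F)⁻¹ by group]
          rcases hsq u u.2 with e | e <;> rw [e]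
          · rw [inv_one, one_mul, mul_one]
          · rw [inv_neg, inv_one, neg_one_mul, mul_neg_one, neg_neg]
        rw [show (u : GL ι F) * (r * r1) * (u : GL ι F)⁻¹ =
          ((u : GL ι F) * r * (u : GL ι F)⁻¹) * ((u : GL ι F) * r1 * (u : GL ι F)⁻¹) by group, ← hr1, hvv]
        rcases S.comm r1 hr1R r hr with e | e
        · exact ⟨1, one_ne_zero, by rw [e, scl_one, mul_one]⟩
        · refine ⟨-1, neg_ne_zero.2 one_ne_zero, ?_⟩
          rw [e, show scl ι (-1 : F) = -1 from Units.ext (by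
            rw [scl_val (neg_ne_zero.2 one_ne_zero), neg_one_smul, Units.val_neg, Units.val_one]), mul_neg_one]
      · obtain ⟨c, hc, he⟩ := hfix u hu
        refine ⟨c * c, mul_ne_zero hc hc, ?_⟩
        have e1 : (u : GL ι F) * r1 * (u : GL ι F)⁻¹ = r1 * scl ι c := by
          rw [hr1, show (u : GL ι F) * ((v : GL ι F) * r * (v : GL ι F)⁻¹) * (u : GL ι F)⁻¹ =
            (u * v : GL ι F) * r * (u * v : GL ι F)⁻¹ by group]
          have e2 : (v * u : GL ι F) * r * (v * u : GL ι F)⁻¹ = (v : GL ι F) * r * (v : GL ι F)⁻¹ * scl ι c := by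
            rw [show (v * u : GL ι F) * r * (v * u : GL ι F)⁻¹ =
              (v : GL ι F) * ((u : GL ι F) * r * (u : GL ι F)⁻¹) * (v : GL ι F)⁻¹ by group, he, ← mul_assoc,
              mul_assoc _ (scl ι c), scl_comm hc, ← mul_assoc]
          rcases hcomm u u.2 v v.2 with e | e <;> rw [e]
          · exact e2
          · rw [inv_neg, neg_mul, neg_mul_neg]; exact e2
        rw [show (u : GL ι F) * (r * r1) * (u : GL ι F)⁻¹ =
          ((u : GL ι F) * r * (u : GL ι F)⁻¹) * ((u : GL ι F) * r1 * (u : GL ι F)⁻¹) by group, he, e1,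
          mul_assoc r (scl ι c), ← mul_assoc (scl ι c), scl_comm hc r1, mul_assoc r1 (scl ι c), scl_mul hc hc,
          mul_assoc]
  haveI : Fintype V := Fintype.ofFinite _
  obtain ⟨r0, hr0, hr0s, hr0f⟩ := key Finset.univ
  intro v hv
  obtain ⟨u, hu, huv⟩ := S.mem_of_fix (g := v) fun t ht => by
    by_cases hts : t ∈ Cfsg.Geo.scalars ι F
    · rw [scalar_conj hts, inv_mul_cancel]; exact one_mem _
    obtain ⟨g, hg, hgt, hgamb⟩ := S.exists_move hr0 ht hr0s hts
    have hv' : g⁻¹ * v * g⁻¹⁻¹ ∈ V := hinv _ (inv_mem ⟨hg, hgamb σ f hf⟩) v hv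
    obtain ⟨c, hc, he⟩ := hr0f ⟨_, hv'⟩ (Finset.mem_univ _)
    obtain ⟨e, he0, hee⟩ := exists_scl hgt
    have ht' : t = g * r0 * g⁻¹ * scl ι e := by rw [← hee, mul_inv_cancel_left]
    have h1 : v * t * v⁻¹ = t * scl ι c := by
      have h2 : v * (g * r0 * g⁻¹) * v⁻¹ = g * r0 * g⁻¹ * scl ι c := by
        have h3 : g * ((g⁻¹ * v * g⁻¹⁻¹) * r0 * (g⁻¹ * v * g⁻¹⁻¹)⁻¹) * g⁻¹ = g * (r0 * scl ι c) * g⁻¹ := by rw [he]
        rw [show g * ((g⁻¹ * v * g⁻¹⁻¹) * r0 * (g⁻¹ * v * g⁻¹⁻¹)⁻¹) * g⁻¹ = v * (g * r0 * g⁻¹) * v⁻¹ by group] at h3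
        rw [h3, ← mul_assoc g r0, mul_assoc _ (scl ι c), scl_comm hc, ← mul_assoc]
      rw [ht', ← mul_assoc v, mul_assoc _ (scl ι e), scl_comm he0, ← mul_assoc, h2, mul_assoc (g * r0 * g⁻¹) (scl ι c),
        scl_comm hc, ← mul_assoc]
    rw [h1, _root_.mul_inv_rev, mul_assoc, inv_mul_cancel, mul_one, scl_inv hc]
    exact scl_mem_scalars (inv_ne_zero hc)
  obtain ⟨c, hc, hce⟩ := exists_scl huv
  have hvu : v = u * scl ι c := by rw [← hce, mul_inv_cancel_left]
  rw [hvu]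
  refine R.mul_mem hu (S.scl_mem_of_sq hc ?_)
  have h2 : v * v = u * u * (scl ι c * scl ι c) := by
    rw [hvu, mul_assoc u (scl ι c), ← mul_assoc (scl ι c), scl_comm hc u]
    simp only [mul_assoc]
  rcases hsq v hv with e | e <;> rcases S.sq u hu with e' | e' <;> rw [e, e'] at h2
  · rw [one_mul] at h2; exact Or.inl h2.symm
  · rw [neg_one_mul] at h2; exact Or.inr (neg_eq_iff_eq_neg.1 h2.symm)
  · rw [one_mul] at h2; exact Or.inr h2.symm
  · rw [neg_one_mul, neg_inj] at h2; exact Or.inl h2.symm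

end Sign4

end CfsgLib.Classical22.C6Four
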