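/-
The zero form and the standard Hermitian form: normal subgroups of the group, and generation from two blocks.
-/
import Cfsg.Agent.Lib.Classical22.C6Four.Blocks
import Cfsg.Agent.Lib.Classical.SLBasic
import Cfsg.Agent.Lib.Classical.UnitarySimple
import Cfsg.Agent.Lib.Transvec.UnitarySub

set_option autoImplicit false
set_option maxHeartbeats 800000

namespace CfsgLib.Classical22.C6Four

open Matrix CfsgLib.Transvec CfsgLib.Transvec.Unitary
open scoped MatrixGroups Classical

variable {ι : Type} [Fintype ι] [DecidableEq ι] {κ : Type} [Fintype κ] [DecidableEq κ] {F : Type*} [Field F] [Fintype F]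

/-- The zero form, or the standard Hermitian form. -/
def Std (f : (ι → F) → (ι → F) → F) : Prop :=
  (∀ u v, f u v = 0) ∨ ∃ τ : F ≃+* F, Cfsg.Geo.IsUnitaryForm τ f ∧
    ∀ a b : ι, f (Pi.single a 1) (Pi.single b 1) = if a = b then 1 else 0

omit [Fintype F] in
lemma normal_eq_top {G : Type*} [Group G] (hperf : commutator G = ⊤)
    (hs : IsSimpleGroup (G ⧸ Subgroup.center G)) {N : Subgroup G} (hN : N.Normal)
    (hNZ : ∃ k ∈ N, k ∉ Subgroup.center G) : N = ⊤ := by
  haveI := hN
  obtain ⟨π, hπ⟩ : ∃ π : G →* G ⧸ Subgroup.center G, π = QuotientGroup.mk' _ := ⟨_, rfl⟩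
  have hsurj : Function.Surjective π := hπ ▸ QuotientGroup.mk'_surjective _
  rcases hs.eq_bot_or_eq_top_of_normal (N.map π) (hN.map π hsurj) with h | h
  · exfalso
    obtain ⟨k, hk, hkc⟩ := hNZ
    refine hkc ((QuotientGroup.eq_one_iff k).1 ?_)
    have h1 := Subgroup.mem_map_of_mem π hk
    rw [h, Subgroup.mem_bot, hπ] at h1
    exact h1
  refine eq_top_iff.2 ?_
  rw [← hperf, commutator_def, Subgroup.commutator_le]
  rintro a - b -
  have hsplit : ∀ a : G, ∃ n ∈ N, ∃ z ∈ Subgroup.center G, a = n * z := fun a => by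
    obtain ⟨n, hn, he⟩ := Subgroup.mem_map.1 (h.symm ▸ Subgroup.mem_top (π a) : π a ∈ N.map π)
    refine ⟨n, hn, n⁻¹ * a, (QuotientGroup.eq_one_iff _).1 ?_, (mul_inv_cancel_left _ _).symm⟩
    rw [QuotientGroup.mk_mul, QuotientGroup.mk_inv]
    subst hπ
    rw [show ((n : G) : G ⧸ Subgroup.center G) = a from he, inv_mul_cancel]
  obtain ⟨n, hn, z, hz, rfl⟩ := hsplit a
  rw [commutatorElement_def, show n * z * b * (n * z)⁻¹ * b⁻¹ = n * (z * b) * z⁻¹ * n⁻¹ * b⁻¹ by group,
    ← Subgroup.mem_center_iff.1 hz b, mul_assoc n (b * z), mul_inv_cancel_right, mul_assoc n b, mul_assoc n]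
  exact N.mul_mem hn (hN.conj_mem _ (N.inv_mem hn) b)

/-- A group normalised by the group of the form containing one of its non-central elements contains it. -/
theorem amb_le_of_normalised {f : (ι → F) → (ι → F) → F} (hstd : Std f) (h4 : 4 ≤ Fintype.card ι)
    {K : Subgroup (GL ι F)} (hK : ∀ g ∈ amb f, ∀ k ∈ K, g * k * g⁻¹ ∈ K) {k p : GL ι F} (hk : k ∈ K)
    (hka : k ∈ amb f) (hp : p ∈ amb f) (hkp : k * p ≠ p * k) : amb f ≤ K := by
  suffices key : ∀ {G : Type _} [Group G] (φ : G →* GL ι F), φ.range = amb f → commutator G = ⊤ →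
      IsSimpleGroup (G ⧸ Subgroup.center G) → amb f ≤ K by
    rcases hstd with h0 | ⟨τ, hτ, hb⟩
    · refine key (Matrix.SpecialLinearGroup.toGL : Matrix.SpecialLinearGroup ι F →* GL ι F) ?_
        (CfsgLib.Classical.commutator_SL_eq_top (by omega)) (CfsgLib.Classical.isSimpleGroup_PSL (by omega))
      ext g
      refine ⟨?_, fun hg => ?_⟩
      · rintro ⟨s, rfl⟩
        exact mem_amb.2 ⟨fun u v => by rw [h0, h0], s.2⟩
      · exact ⟨⟨(g : Matrix ι ι F), (mem_amb.1 hg).2⟩, Units.ext rfl⟩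
    · refine key (transvGroup τ f).subtype ?_
        (CfsgLib.Classical.Unitary.transvGroup_perfect hτ (by omega) (Or.inl h4) hb)
        (CfsgLib.Classical.Unitary.isSimpleGroup_transvGroup hτ (by omega) (Or.inl h4) hb)
      rw [Subgroup.range_subtype]
      refine le_antisymm (fun g hg => mem_amb.2 (transvGroup_le hτ hg)) fun g hg => ?_
      exact CfsgLib.Classical.Unitary.mem_transvGroup_short hτ (by omega) (Or.inl h4) hb (mem_amb.1 hg).1
        (mem_amb.1 hg).2
  intro G _ φ hrange hperf hs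
  have hφ : ∀ x, φ x ∈ amb f := fun x => hrange ▸ ⟨x, rfl⟩
  obtain ⟨k0, rfl⟩ : k ∈ φ.range := hrange.symm ▸ hka
  obtain ⟨p0, rfl⟩ : p ∈ φ.range := hrange.symm ▸ hp
  have hN : (K.comap φ).Normal := ⟨fun n hn g => by
    rw [Subgroup.mem_comap, map_mul, map_mul, map_inv]
    exact hK _ (hφ g) _ hn⟩
  have htop := normal_eq_top hperf hs hN ⟨k0, hk, fun h => hkp (by
    rw [← map_mul, ← map_mul, Subgroup.mem_center_iff.1 h p0])⟩
  rw [← hrange]
  rintro _ ⟨x, rfl⟩
  exact (htop.symm ▸ Subgroup.mem_top x : x ∈ K.comap φ)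

namespace Blocks

variable {R : Subgroup (GL (κ ⊕ κ) F)} {m : ℕ} {i : F} {σ : F →+* F}
  {f : (κ ⊕ κ → F) → (κ ⊕ κ → F) → F} {f' : (κ → F) → (κ → F) → F} (B : Blocks R m i σ f f')
include B

lemma four_le : 4 ≤ Fintype.card κ := by
  have := B.h3
  rw [B.half_sign.card_index]
  calc 4 = 2 ^ 2 := by norm_num
    _ ≤ 2 ^ (m - 1) := Nat.pow_le_pow_right (by norm_num) (by omega)

omit [Fintype F] in
lemma zero_half (h0 : ∀ u v, f u v = 0) (u v : κ → F) : f' u v = 0 := by rw [B.form_half, h0]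

omit [Fintype F] in
lemma std_half {τ : F ≃+* F} (hτ : Cfsg.Geo.IsUnitaryForm τ f)
    (hb : ∀ a b : κ ⊕ κ, f (Pi.single a 1) (Pi.single b 1) = if a = b then 1 else 0) :
    Cfsg.Geo.IsUnitaryForm τ f' ∧ ∀ a b : κ, f' (Pi.single a 1) (Pi.single b 1) = if a = b then 1 else 0 := by
  refine ⟨⟨hτ.ne_refl, hτ.involutive, B.half_form.add_left, B.half_form.smul_left, fun u v => ?_, fun v hv => ?_⟩,
    fun a b => ?_⟩
  · rw [B.form_half, B.form_half, ← hτ.herm]
  · obtain ⟨⟨x, hx⟩, ⟨y, hy⟩⟩ := hτ.nondegenerate (Sum.elim v (0 : κ → F)) fun h => hv (by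
      rw [← Sum.elim_comp_inl v (0 : κ → F), h]; rfl)
    have h00 : ∀ w : κ → F, f' w 0 = 0 ∧ f' 0 w = 0 := fun w => by
      have e1 := B.half_form.smul_right 0 w 0
      have e2 := B.half_form.smul_left 0 0 w
      rw [zero_smul, map_zero, zero_mul] at e1
      rw [zero_smul, zero_mul] at e2
      exact ⟨e1, e2⟩
    refine ⟨⟨x ∘ Sum.inl, ?_⟩, ⟨y ∘ Sum.inl, ?_⟩⟩
    · rw [B.split, Sum.elim_comp_inl, Sum.elim_comp_inr, (h00 _).1, add_zero] at hx; exact hx
    · rw [B.split, Sum.elim_comp_inl, Sum.elim_comp_inr, (h00 _).2, add_zero] at hy; exact hy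
  · rw [B.form_half, Sum.elim_single_zero, Sum.elim_single_zero, hb]
    simp

omit [Fintype F] in
lemma half_std (h : Std f) : Std f' := by
  rcases h with h0 | ⟨τ, hτ, hb⟩
  · exact Or.inl (B.zero_half h0)
  · exact Or.inr ⟨τ, B.std_half hτ hb⟩

variable {H : Subgroup (GL (κ ⊕ κ) F)}

/-- The scalar multiple of the swap and its transvection. -/
lemma mixer : tA i (scl (κ ⊕ κ) i * sw) ∈ Cfsg.Geo.subgroupNormalizer R ⊓ amb f ∧
    (tA i (scl (κ ⊕ κ) i * sw) : Matrix (κ ⊕ κ) (κ ⊕ κ) F) =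
      (1 + i)⁻¹ • Matrix.fromBlocks 1 (i • 1) (i • 1) 1 ∧
    (((tA i (scl (κ ⊕ κ) i * sw))⁻¹ : GL (κ ⊕ κ) F) : Matrix (κ ⊕ κ) (κ ⊕ κ) F) =
      (1 - i)⁻¹ • Matrix.fromBlocks 1 (-(i • 1)) (-(i • 1)) (1 : Matrix κ κ F) := by
  have hR : scl (κ ⊕ κ) i * sw ∈ R := R.mul_mem B.S.mem_i B.sw_mem
  have hsq : scl (κ ⊕ κ) i * sw * (scl (κ ⊕ κ) i * sw) = -1 := by
    rw [mul_assoc, ← mul_assoc sw, ← scl_comm B.S.i_ne (sw : GL (κ ⊕ κ) F), ← mul_assoc, ← mul_assoc, B.S.ii,
      mul_assoc, sw_sq, mul_one]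
  have hns : scl (κ ⊕ κ) i * sw ∉ Cfsg.Geo.scalars (κ ⊕ κ) F := fun h => by
    have h1 := mul_mem (inv_mem (scl_mem_scalars (ι := κ ⊕ κ) B.S.i_ne)) h
    rw [inv_mul_cancel_left] at h1
    obtain ⟨c, hc, he⟩ := exists_scl h1
    have h2 := congrArg Units.val he
    rw [scl_val hc, sw_val, ← Matrix.fromBlocks_one, Matrix.fromBlocks_smul, Matrix.fromBlocks_inj] at h2
    obtain ⟨j⟩ := B.nonempty
    have := congrFun (congrFun h2.2.1 j) j
    simp at this
  have hval : (tA i (scl (κ ⊕ κ) i * sw) : Matrix (κ ⊕ κ) (κ ⊕ κ) F) =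
      (1 + i)⁻¹ • Matrix.fromBlocks 1 (i • 1) (i • 1) 1 := by
    rw [B.S.tA_val hsq, Units.val_mul, B.S.i_val, sw_val, smul_mul_assoc, one_mul, Matrix.fromBlocks_smul,
      ← Matrix.fromBlocks_one, Matrix.fromBlocks_add]
    simp
  refine ⟨⟨B.S.tA_normalises hR hsq, B.S.tA_mem B.hf B.h3 hR hsq hns⟩, hval, ?_⟩
  refine Units.inv_eq_of_mul_eq_one_right ?_
  rw [hval, smul_mul_smul_comm, Matrix.fromBlocks_multiply]
  simp only [Matrix.one_mul, Matrix.mul_one, Matrix.mul_neg, smul_mul_smul_comm, B.S.sqi, neg_one_smul, neg_neg,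
    neg_add_cancel, ← two_smul F (1 : Matrix κ κ F), add_neg_cancel, one_smul]
  have h1 := B.S.one_add_ne
  have h2 : (1 : F) - i ≠ 0 := fun h => B.S.two_ne (by linear_combination B.S.sqi + (1 + i) * h)
  rw [show Matrix.fromBlocks ((2 : F) • (1 : Matrix κ κ F)) 0 0 ((2 : F) • 1) = (2 : F) • 1 by
    rw [← Matrix.fromBlocks_one, Matrix.fromBlocks_smul, smul_zero], smul_smul,
    show (1 + i)⁻¹ * (1 - i)⁻¹ * 2 = 1 by field_simp; linear_combination B.S.sqi, one_smul]

/-- Generation from both blocks and the mixer. -/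
theorem amb_le (hstd : Std f) (hN : Cfsg.Geo.subgroupNormalizer R ⊓ amb f ≤ H)
    (hA : ∀ A ∈ amb f', dg A 1 ∈ H) : amb f ≤ H := by
  have hsw : sw ∈ H := hN ⟨Subgroup.le_normalizer B.sw_mem, B.S.le_amb B.hf B.sw_mem⟩
  have hD : ∀ A ∈ amb f', dg 1 A ∈ H := fun A hA' => by
    have := mul_mem (mul_mem hsw (hA A hA')) (inv_mem hsw)
    rwa [sw_conj] at this
  obtain ⟨⟨-, -⟩, htv, htiv⟩ := And.intro B.mixer.1 B.mixer.2
  obtain ⟨t, ht⟩ : ∃ t, t = tA i (scl (κ ⊕ κ) i * sw) := ⟨_, rfl⟩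
  have htH : t ∈ H := ht ▸ hN B.mixer.1
  rw [← ht] at htv htiv
  have hc1 := inv_ne_zero B.S.one_add_ne
  have hc2 : ((1 : F) - i)⁻¹ ≠ 0 := inv_ne_zero fun h => B.S.two_ne (by linear_combination B.S.sqi + (1 + i) * h)
  have h4 := B.four_le
  have htu : ∀ u : κ → F, (t : Matrix (κ ⊕ κ) (κ ⊕ κ) F) *ᵥ Sum.elim u (0 : κ → F) = (1 + i)⁻¹ • Sum.elim u (i • u) := by
    intro u
    rw [htv, Matrix.smul_mulVec, Matrix.fromBlocks_mulVec, Sum.elim_comp_inl, Sum.elim_comp_inr]
    simp [Matrix.smul_mulVec]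
  rcases hstd with h0 | ⟨τ, hτ, hb⟩
  · have hA' : ∀ v φ : κ → F, transv v φ ∈ amb f' := fun v φ => mem_amb.2
      ⟨fun u v => by rw [B.zero_half h0, B.zero_half h0], (mem_specialLinear_iff _).1 (transv_mem_specialLinear v φ)⟩
    have hblk1 : ∀ v φ : κ → F, φ ⬝ᵥ v = 0 → transv (Sum.elim v (0 : κ → F)) (Sum.elim φ (0 : κ → F)) ∈ H := fun v φ h => by
      convert hA _ (hA' v φ) using 1
      refine gl_ext fun x => ?_
      rw [transv_mulVec (by rw [sumElim_dotProduct_sumElim, h, zero_dotProduct, add_zero]), dg_mulVec, transv_mulVec h,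
        Units.val_one, Matrix.one_mulVec]
      funext j
      cases j <;> simp [dotProduct, Fintype.sum_sum_type]
    have hblk2 : ∀ v φ : κ → F, φ ⬝ᵥ v = 0 → transv (Sum.elim (0 : κ → F) v) (Sum.elim (0 : κ → F) φ) ∈ H := fun v φ h => by
      convert hD _ (hA' v φ) using 1
      refine gl_ext fun x => ?_
      rw [transv_mulVec (by rw [sumElim_dotProduct_sumElim, h, zero_dotProduct, zero_add]), dg_mulVec, transv_mulVec h,
        Units.val_one, Matrix.one_mulVec]
      funext j
      cases j <;> simp [dotProduct, Fintype.sum_sum_type]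
    obtain ⟨e, he⟩ : ∃ e : κ → F → κ → F, ∀ a s, e a s = Pi.single a s := ⟨_, fun _ _ => rfl⟩
    have hdot : ∀ (a b : κ) (s r : F), e a s ⬝ᵥ e b r = if a = b then s * r else 0 := fun a b s r => by
      rw [he, he, single_dotProduct, Pi.single_apply]
      by_cases h : a = b <;> simp [h]
    -- centre in the first block, axis in the second
    have hcross : ∀ a c : κ, a ≠ c → ∀ s : F, transv (Sum.elim (e a 1) (0 : κ → F)) (Sum.elim (0 : κ → F) (e c s)) ∈ H := by
      intro a c hac s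
      obtain ⟨b, hb⟩ : ∃ b, b ∉ ({a, c} : Finset κ) := by
        by_contra h
        push Not at h
        have := Finset.card_le_card (fun x (_ : x ∈ Finset.univ) => h x)
        rw [Finset.card_univ] at this
        have := Finset.card_le_two (a := a) (b := c)
        omega
      simp only [Finset.mem_insert, Finset.mem_singleton, not_or] at hb
      obtain ⟨w, hw⟩ : ∃ w, w = Sum.elim (e a 1) (i • e a 1) := ⟨_, rfl⟩
      have hmix : ∀ r : F, transv w (Sum.elim (e b r) (-i • e b r)) ∈ H := fun r => by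
        have hba : e b (r * (1 - i) * (1 + i)) ⬝ᵥ e a 1 = 0 := by rw [hdot, if_neg hb.1]
        have h1 := mul_mem (mul_mem htH (hblk1 _ _ hba)) (inv_mem htH)
        have hd0 : Sum.elim (e b (r * (1 - i) * (1 + i))) (0 : κ → F) ⬝ᵥ Sum.elim (e a 1) (0 : κ → F) = 0 := by
          rw [sumElim_dotProduct_sumElim, hba, zero_dotProduct, add_zero]
        rw [conj_transv t hd0] at h1
        convert h1 using 1
        have hax : Sum.elim (e b (r * (1 - i) * (1 + i))) 0 ᵥ* ((t⁻¹ : GL (κ ⊕ κ) F) : Matrix (κ ⊕ κ) (κ ⊕ κ) F) =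
            (1 + i) • Sum.elim (e b r) (-i • e b r) := by
          rw [htiv, Matrix.vecMul_smul, Matrix.vecMul_fromBlocks, Sum.elim_comp_inl, Sum.elim_comp_inr]
          have h2 : (1 : F) - i ≠ 0 := fun h => B.S.two_ne (by linear_combination B.S.sqi + (1 + i) * h)
          funext j
          cases j <;> simp [Matrix.vecMul_neg, Matrix.vecMul_smul, he, Pi.single_apply] <;> field_simp
        rw [hax, htu, hw, transv_smul_left _ (by
          rw [smul_dotProduct, sumElim_dotProduct_sumElim]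
          simp [hdot, hb.1])]
        congr 1
        rw [smul_smul, inv_mul_cancel₀ B.S.one_add_ne, one_smul]
      -- change the axis by a transvection of the second block
      have hstep : transv w (Sum.elim (0 : κ → F) (e c s)) ∈ H := by
        obtain ⟨r, hr⟩ : ∃ r, r = -i * s := ⟨_, rfl⟩
        have hcb : e c 1 ⬝ᵥ e b 1 = 0 := by rw [hdot, if_neg (Ne.symm hb.2)]
        obtain ⟨g, hg⟩ : ∃ g, g = transv (Sum.elim (0 : κ → F) (e b 1)) (Sum.elim (0 : κ → F) (e c 1)) := ⟨_, rfl⟩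
        have hgH : g ∈ H := hg ▸ hblk2 _ _ hcb
        have hgd : Sum.elim (0 : κ → F) (e c 1) ⬝ᵥ Sum.elim (0 : κ → F) (e b 1) = 0 := by
          rw [sumElim_dotProduct_sumElim, hcb, zero_dotProduct, zero_add]
        have hwd : ∀ r, Sum.elim (e b r) (-i • e b r) ⬝ᵥ w = 0 := fun r => by
          rw [hw, sumElim_dotProduct_sumElim]
          simp [hdot, hb.1]
        have h1 := mul_mem (mul_mem (mul_mem hgH (hmix r)) (inv_mem hgH)) (inv_mem (hmix r))
        have hgw : (g : Matrix (κ ⊕ κ) (κ ⊕ κ) F) *ᵥ w = w := by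
          rw [hg, transv_mulVec hgd, hw, sumElim_dotProduct_sumElim]
          simp [hdot, Ne.symm hac]
        have hax : Sum.elim (e b r) (-i • e b r) ᵥ* ((g⁻¹ : GL (κ ⊕ κ) F) : Matrix (κ ⊕ κ) (κ ⊕ κ) F) =
            Sum.elim (e b r) (-i • e b r) + (i * r) • Sum.elim (0 : κ → F) (e c 1) := by
          rw [hg, transv_inv hgd, transv_val (by rw [neg_dotProduct, hgd, neg_zero]), Matrix.vecMul_add,
            Matrix.vecMul_one, Matrix.vecMul_vecMulVec, sumElim_dotProduct_sumElim]
          simp [hdot]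
        rw [conj_transv g (hwd r), hgw, hax, transv_inv (hwd r), transv_mul (by
          rw [add_dotProduct, hwd, zero_add, smul_dotProduct, hw, sumElim_dotProduct_sumElim]
          simp [hdot, Ne.symm hac]) (by rw [neg_dotProduct, hwd, neg_zero]), add_neg_cancel_comm] at h1
        convert h1 using 2
        funext j
        cases j <;> simp [he, Pi.single_apply, hr, ← mul_assoc, B.S.sqi]
      have hneg : transv (Sum.elim (0 : κ → F) (-i • e a 1)) (Sum.elim (0 : κ → F) (e c s)) ∈ H :=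
        hblk2 _ _ (by rw [dotProduct_smul, hdot, if_neg (Ne.symm hac), smul_zero])
      have h := mul_mem hstep hneg
      have hd1 : Sum.elim (0 : κ → F) (e c s) ⬝ᵥ w = 0 := by
        rw [hw, sumElim_dotProduct_sumElim, zero_dotProduct, dotProduct_smul, hdot, if_neg (Ne.symm hac), smul_zero,
          add_zero]
      have hd2 : Sum.elim (0 : κ → F) (e c s) ⬝ᵥ Sum.elim (0 : κ → F) (-i • e a 1) = 0 := by
        rw [sumElim_dotProduct_sumElim, zero_dotProduct, dotProduct_smul, hdot, if_neg (Ne.symm hac), smul_zero,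
          add_zero]
      have he2 : Sum.elim (e a 1) (0 : κ → F) = w + Sum.elim (0 : κ → F) (-i • e a 1) := by
        rw [hw]
        funext j
        cases j <;> simp
      rw [he2, ← transv_add_left hd1 hd2]
      exact h
    have hall : ∀ a c : κ, ∀ s : F, transv (Sum.elim (e a 1) (0 : κ → F)) (Sum.elim (0 : κ → F) (e c s)) ∈ H := by
      intro a c s
      by_cases hac : a = c
      swap
      · exact hcross a c hac s
      subst hac
      obtain ⟨b, hb⟩ := Fintype.exists_ne_of_one_lt_card (show 1 < Fintype.card κ by omega) a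
      have hab : e b 1 ⬝ᵥ e a 1 = 0 := by rw [hdot, if_neg hb]
      obtain ⟨g, hg⟩ : ∃ g, g = transv (Sum.elim (e a 1) (0 : κ → F)) (Sum.elim (e b 1) (0 : κ → F)) := ⟨_, rfl⟩
      have hgH : g ∈ H := hg ▸ hblk1 _ _ hab
      have hgd : Sum.elim (e b 1) (0 : κ → F) ⬝ᵥ Sum.elim (e a 1) (0 : κ → F) = 0 := by
        rw [sumElim_dotProduct_sumElim, hab, zero_dotProduct, add_zero]
      have hd : Sum.elim (0 : κ → F) (e a s) ⬝ᵥ Sum.elim (e b 1) (0 : κ → F) = 0 := by
        rw [sumElim_dotProduct_sumElim, zero_dotProduct, dotProduct_zero, add_zero]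
      have h1 := mul_mem (mul_mem (mul_mem hgH (hcross b a hb s)) (inv_mem hgH)) (inv_mem (hcross b a hb s))
      have hgb : (g : Matrix (κ ⊕ κ) (κ ⊕ κ) F) *ᵥ Sum.elim (e b 1) (0 : κ → F) = Sum.elim (e b 1) (0 : κ → F) + Sum.elim (e a 1) (0 : κ → F) := by
        rw [hg, transv_mulVec hgd, sumElim_dotProduct_sumElim]
        simp [hdot]
      have hax : Sum.elim (0 : κ → F) (e a s) ᵥ* ((g⁻¹ : GL (κ ⊕ κ) F) : Matrix (κ ⊕ κ) (κ ⊕ κ) F) = Sum.elim (0 : κ → F) (e a s) := by
        rw [hg, transv_inv hgd, transv_val (by rw [neg_dotProduct, hgd, neg_zero]), Matrix.vecMul_add,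
          Matrix.vecMul_one, Matrix.vecMul_vecMulVec, sumElim_dotProduct_sumElim]
        simp
      have hda : Sum.elim (0 : κ → F) (e a s) ⬝ᵥ Sum.elim (e a 1) (0 : κ → F) = 0 := by
        rw [sumElim_dotProduct_sumElim, zero_dotProduct, dotProduct_zero, add_zero]
      rw [conj_transv g hd, hgb, hax, ← transv_add_left hd hda, transv_inv hd] at h1
      have h2 := mul_mem (mul_mem (inv_mem (hcross b a hb s)) h1) (hcross b a hb s)
      rw [transv_inv hd] at h2
      convert h2 using 1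
      rw [← transv_inv hd]
      group
    have hall' : ∀ a c : κ, ∀ s : F, transv (Sum.elim (0 : κ → F) (e a 1)) (Sum.elim (e c s) (0 : κ → F)) ∈ H := by
      intro a c s
      have hd : Sum.elim (0 : κ → F) (e c s) ⬝ᵥ Sum.elim (e a 1) (0 : κ → F) = 0 := by
        rw [sumElim_dotProduct_sumElim, zero_dotProduct, dotProduct_zero, add_zero]
      have h1 := mul_mem (mul_mem hsw (hall a c s)) (inv_mem hsw)
      rw [conj_transv _ hd, sw_mulVec] at h1
      convert h1 using 2
      · simp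
      · rw [inv_eq_of_mul_eq_one_right sw_sq, sw_val, Matrix.vecMul_fromBlocks]
        simp
    have hsingle : ∀ x y : κ ⊕ κ, x ≠ y → ∀ s : F, transv (Pi.single x 1) (Pi.single y s) ∈ H := by
      intro x y hxy s
      have hl : ∀ (a : κ) (r : F), (Pi.single (Sum.inl a) r : κ ⊕ κ → F) = Sum.elim (e a r) (0 : κ → F) := fun a r => by
        funext j; cases j <;> simp [he, Pi.single_apply]
      have hr : ∀ (a : κ) (r : F), (Pi.single (Sum.inr a) r : κ ⊕ κ → F) = Sum.elim (0 : κ → F) (e a r) := fun a r => by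
        funext j; cases j <;> simp [he, Pi.single_apply]
      rcases x with a | a <;> rcases y with c | c
      · rw [hl, hl]; exact hblk1 _ _ (by rw [hdot, if_neg]; exact fun h => hxy (by rw [h]))
      · rw [hl, hr]; exact hall a c s
      · rw [hr, hl]; exact hall' a c s
      · rw [hr, hr]; exact hblk2 _ _ (by rw [hdot, if_neg]; exact fun h => hxy (by rw [h]))
    intro x hx
    have key := CfsgLib.Classical.SL_le_of_transvections (H.comap Matrix.SpecialLinearGroup.toGL) fun a b hab s => by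
      rw [Subgroup.mem_comap, toGL_transvection hab s]
      exact hsingle a b hab s
    have h1 : (⟨(x : Matrix (κ ⊕ κ) (κ ⊕ κ) F), (mem_amb.1 hx).2⟩ : Matrix.SpecialLinearGroup (κ ⊕ κ) F) ∈
        H.comap Matrix.SpecialLinearGroup.toGL := by rw [key]; trivial
    have e' : Matrix.SpecialLinearGroup.toGL
        (⟨(x : Matrix (κ ⊕ κ) (κ ⊕ κ) F), (mem_amb.1 hx).2⟩ : Matrix.SpecialLinearGroup (κ ⊕ κ) F) = x := Units.ext rfl
    exact e' ▸ Subgroup.mem_comap.mp h1
  · obtain ⟨hτ', hb'⟩ := B.std_half hτ hb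
    have z1 : f' 0 0 = 0 := zero_left' hτ' _
    have hel : ∀ u v w z : κ → F, f (Sum.elim u v) (Sum.elim w z) = f' u w + f' v z := fun u v w z => by
      rw [B.split, Sum.elim_comp_inl, Sum.elim_comp_inl, Sum.elim_comp_inr, Sum.elim_comp_inr]
    have hmove : ∀ g ∈ H, Iso f g → ∀ v, UFull τ f H v → UFull τ f H ((g : Matrix (κ ⊕ κ) (κ ⊕ κ) F) *ᵥ v) :=
      fun g hg hgi v hv => ⟨by rw [hgi]; exact hv.1, fun c hc => by
        rw [← conj_uT hτ hgi hv.1]; exact mul_mem (mul_mem hg (hv.2 c hc)) (inv_mem hg)⟩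
    have hscale : ∀ a : F, a ≠ 0 → ∀ v, UFull τ f H (a • v) → UFull τ f H v := by
      intro a ha v hv
      have hvv : f v v = 0 := by
        have := hv.1
        rw [hτ.smul_left, smul_right' hτ, ← mul_assoc] at this
        exact (mul_eq_zero.1 this).resolve_left (mul_ne_zero ha ((map_ne_zero_iff _ τ.injective).2 ha))
      refine ⟨hvv, fun c hc => ?_⟩
      have h := hv.2 (c * (a * τ a)⁻¹) (by
        rw [map_mul, map_inv₀, map_mul, hτ.involutive, mul_comm (τ a) a]
        linear_combination (a * τ a)⁻¹ * hc)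
      convert h using 1
      refine gl_ext fun x => ?_
      rw [uT_mulVec hτ hvv, uT_mulVec hτ hv.1, smul_right' hτ, smul_smul]
      congr 2
      have := (map_ne_zero_iff _ τ.injective).2 ha
      field_simp
    have pure1 : ∀ u : κ → F, f' u u = 0 → UFull τ f H (Sum.elim u (0 : κ → F)) := by
      intro u hu
      have huu : f (Sum.elim u (0 : κ → F)) (Sum.elim u (0 : κ → F)) = 0 := by rw [hel, hu, z1, add_zero]
      refine ⟨huu, fun c hc => ?_⟩
      have h := hA _ (mem_amb.2 ⟨iso_uT hτ' hu hc, (mem_specialLinear_iff _).1 (transv_mem_specialLinear _ _)⟩ :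
        uT f' u c ∈ amb f')
      convert h using 1
      refine gl_ext fun x => ?_
      rw [uT_mulVec hτ huu, dg_mulVec, uT_mulVec hτ' hu, Units.val_one, Matrix.one_mulVec,
        B.split x, Sum.elim_comp_inl, Sum.elim_comp_inr, zero_right' hτ', add_zero]
      funext j
      cases j <;> simp
    have pure2 : ∀ u : κ → F, f' u u = 0 → UFull τ f H (Sum.elim (0 : κ → F) u) := by
      intro u hu
      have h := hmove _ hsw (fun x y => B.hf.iso _ B.sw_mem x y) _ (pure1 u hu)
      rwa [sw_mulVec, Sum.elim_comp_inl, Sum.elim_comp_inr] at h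
    have hti : Iso f t := ht ▸ (mem_amb.1 B.mixer.1.2).1
    -- both components isotropic
    have hiso : ∀ u v : κ → F, f' u u = 0 → f' v v = 0 → UFull τ f H (Sum.elim u v) := by
      intro u v hu hv
      by_cases hu0 : u = 0
      · subst hu0; exact pure2 v hv
      by_cases hv0 : v = 0
      · subst hv0; exact pure1 u hu
      have h1 := hmove t htH hti _ (pure1 u hu)
      rw [htu] at h1
      have h2 := hscale _ hc1 _ h1
      have hiu : f' (i • u) (i • u) = 0 := by rw [hτ'.smul_left, smul_right' hτ', hu, mul_zero, mul_zero]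
      obtain ⟨g, hg⟩ := CfsgLib.Classical.Unitary.exists_move_iso hτ' (by omega) (Or.inl h4) hb' hiu hv
        (smul_ne_zero B.S.i_ne hu0) hv0
      have hgA : (g : GL κ F) ∈ amb f' := mem_amb.2 (transvGroup_le hτ' g.2)
      have h3 := hmove (dg 1 (g : GL κ F)) (hD _ hgA) ((B.dg_mem_amb.2
        ⟨fun _ _ => by simp, (mem_amb.1 hgA).1, by simp [(mem_amb.1 hgA).2]⟩ : dg 1 (g : GL κ F) ∈ amb f) |>
          fun h => (mem_amb.1 h).1) _ h2
      rwa [dg_mulVec, Sum.elim_comp_inl, Sum.elim_comp_inr, Units.val_one, Matrix.one_mulVec, hg] at h3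
    obtain ⟨c, hc0, hc⟩ := exists_skew hτ.ne_refl hτ.involutive
    have hfull : ∀ x, f x x = 0 → UFull τ f H x := by
      intro x hxx
      obtain ⟨x1, x2, rfl⟩ : ∃ x1 x2, x = Sum.elim x1 x2 := ⟨_, _, (Sum.elim_comp_inl_inr x).symm⟩
      rw [hel] at hxx
      obtain ⟨α, hα⟩ : ∃ α, α = f' x1 x1 := ⟨_, rfl⟩
      by_cases hα0 : α = 0
      · exact hiso x1 x2 (hα ▸ hα0) (by linear_combination hxx - (hα.symm.trans hα0))
      have hστ : τ α = α := hα ▸ self_fixed hτ' x1
      have hpick : ∀ y : κ → F, y ≠ 0 → ∀ γ : F, ∃ w, f' w w = 0 ∧ f' y w = γ := by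
        intro y hy γ
        obtain ⟨z, hz, hzy⟩ : ∃ z, f' z z = 0 ∧ f' y z ≠ 0 := by
          obtain ⟨z0, hz0, hz00⟩ : ∃ z0 : κ → F, z0 ≠ 0 ∧ f' z0 z0 = 0 := by
            obtain ⟨a, b, hab⟩ := Fintype.exists_pair_of_one_lt_card (show 1 < Fintype.card κ by omega)
            obtain ⟨s, hs⟩ := exists_norm_eq hτ'.ne_refl hτ'.involutive (b := (-1 : F)) (by rw [map_neg, map_one])
            refine ⟨Pi.single a 1 + s • Pi.single b 1, fun h => ?_, ?_⟩
            · have := congrFun h a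
              simp [hab] at this
            · rw [hτ'.add_left, add_right' hτ', add_right' hτ', hτ'.smul_left, hτ'.smul_left, smul_right' hτ',
                smul_right' hτ', hb', hb', hb', hb', if_pos rfl, if_neg hab, if_neg hab.symm, if_pos rfl]
              linear_combination hs
          by_contra hcon
          push Not at hcon
          obtain ⟨p, hp, hpz⟩ := CfsgLib.Classical.Unitary.exists_iso_partner hτ' hz00 hz0
          by_cases hyy : f' y y = 0
          · obtain ⟨q, hq, hqy⟩ := CfsgLib.Classical.Unitary.exists_iso_partner hτ' hyy hy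
            have h1 := hcon q hq
            rw [hτ'.herm, hqy, map_one] at h1
            exact one_ne_zero h1
          obtain ⟨s, hs⟩ := exists_trace_eq hτ'.ne_refl hτ'.involutive (b := f' y y) (self_fixed hτ' y)
          have hw : f' (z0 + s • p) (z0 + s • p) = f' y y := by
            rw [hτ'.add_left, add_right' hτ', add_right' hτ', hτ'.smul_left, hτ'.smul_left, smul_right' hτ',
              smul_right' hτ', hz00, hp, hpz, hτ'.herm z0 p, hpz, map_one]
            linear_combination hs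
          obtain ⟨q, hq⟩ : ∃ q, q = z0 + s • p := ⟨_, rfl⟩
          rw [← hq] at hw
          have e1 : f' y q = 0 := by
            rw [hq, add_right' hτ', smul_right' hτ', hcon z0 hz00, hcon p hp, mul_zero, add_zero]
          have e2 : f' q y = 0 := by rw [hτ'.herm, e1, map_zero]
          obtain ⟨r, hr⟩ := exists_norm_eq hτ'.ne_refl hτ'.involutive (b := (-1 : F)) (by rw [map_neg, map_one])
          have h3 := hcon (y + r • q) (by
            rw [hτ'.add_left, add_right' hτ', add_right' hτ', hτ'.smul_left, hτ'.smul_left, smul_right' hτ',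
              smul_right' hτ', e1, e2, hw]
            linear_combination (f' y y) * hr)
          rw [add_right' hτ', smul_right' hτ', e1, mul_zero, add_zero] at h3
          exact hyy h3
        refine ⟨τ (γ / f' y z) • z, by rw [hτ'.smul_left, smul_right' hτ', hz, mul_zero, mul_zero], ?_⟩
        rw [smul_right' hτ', hτ'.involutive, div_mul_cancel₀ _ hzy]
      have hx1 : x1 ≠ 0 := fun h => hα0 (by rw [hα, h, zero_left' hτ'])
      have hx2 : x2 ≠ 0 := fun h => hα0 (by rw [h, zero_left' hτ', add_zero] at hxx; rw [hα, hxx])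
      have h2 := B.S.two_ne
      have h2s : τ (2 : F) = 2 := map_ofNat τ 2
      obtain ⟨w1, hw1, e1⟩ := hpick x1 hx1 ((α + c) / 2)
      obtain ⟨w2, hw2, e2⟩ := hpick x2 hx2 ((c - α) / 2)
      obtain ⟨W, hW⟩ : ∃ W, W = Sum.elim w1 w2 := ⟨_, rfl⟩
      obtain ⟨U, hU⟩ : ∃ U, U = Sum.elim (x1 - w1) (x2 - w2) := ⟨_, rfl⟩
      have hWf : UFull τ f H W := hW ▸ hiso _ _ hw1 hw2
      have hUf : UFull τ f H U := by
        refine hU ▸ hiso _ _ ?_ ?_
        · rw [sub_left' hτ', sub_right' hτ', sub_right' hτ', hw1, ← hα, hτ'.herm w1 x1, e1, map_div₀, map_add, hστ,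
            h2s]
          field_simp
          linear_combination -hc
        · rw [sub_left' hτ', sub_right' hτ', sub_right' hτ', hw2, hτ'.herm w2 x2, e2, map_div₀, map_sub, hστ, h2s]
          field_simp
          linear_combination -hc + 2 * (hxx : f' x1 x1 + f' x2 x2 = 0) + 2 * hα
      have hUW : f U W = c := by
        rw [hU, hW, hel, sub_left' hτ', sub_left' hτ', hw1, hw2, e1, e2, sub_zero, sub_zero]
        field_simp
        ring
      have hci : c⁻¹ + τ c⁻¹ = 0 := by
        rw [map_inv₀, eq_neg_of_add_eq_zero_right hc, inv_neg, add_neg_cancel]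
      have h := hmove _ (hWf.2 _ hci) (iso_uT hτ hWf.1 hci) _ hUf
      rw [uT_mulVec hτ hWf.1, hUW, inv_mul_cancel₀ hc0, one_smul, hU, hW] at h
      convert h using 1
      funext j
      cases j <;> simp
    intro g hg
    refine transvGroup_le_of hτ (fun v hv c hc => (hfull v hv).2 c hc) ?_
    refine CfsgLib.Classical.Unitary.mem_transvGroup_short hτ ?_ (Or.inl ?_) hb (mem_amb.1 hg).1 (mem_amb.1 hg).2
    all_goals rw [Fintype.card_sum]; omega

end Blocks

end CfsgLib.Classical22.C6Four
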