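/-
The centraliser of an involution in an overgroup: either it is large, or it normalises the group.
-/
import Cfsg.Agent.Lib.Classical22.C6Four.Kinds
import Cfsg.Agent.Lib.Classical22.C6Four.Fixed

set_option autoImplicit false
set_option maxHeartbeats 1000000

namespace CfsgLib.Classical22.C6Four

open Matrix CfsgLib.Classical22.C6Plus
open scoped MatrixGroups Classical

variable {ι : Type} [Fintype ι] [DecidableEq ι] {κ : Type} [Fintype κ] [DecidableEq κ] {F : Type*} [Field F]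

/-- Members commuting with `x` act on the first eigenspace of `x` as normalisers of the group do. -/
def HalfN (H R : Subgroup (GL ι F)) (x : GL ι F) : Prop :=
  ∀ g ∈ H, g * x = x * g → ∀ r ∈ R, r * x = x * r → ∃ r₁ ∈ R, r₁ * x = x * r₁ ∧
    ((g * r * g⁻¹ : GL ι F) : Matrix ι ι F) * (1 + (x : Matrix ι ι F)) =
      (r₁ : Matrix ι ι F) * (1 + (x : Matrix ι ι F))

/-- The first components, up to scalars. -/
noncomputable def proj (H : Subgroup (GL (κ ⊕ κ) F)) : Subgroup (GL κ F) where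
  carrier := {A | ∃ c, c ≠ 0 ∧ ∃ D, dg (scl κ c * A) D ∈ H}
  mul_mem' {A A'} := by
    rintro ⟨c, hc, D, h⟩ ⟨c', hc', D', h'⟩
    refine ⟨c * c', mul_ne_zero hc hc', D * D', ?_⟩
    have := mul_mem h h'
    rwa [dg_mul, mul_assoc (scl κ c), ← mul_assoc A, ← scl_comm hc' A, mul_assoc (scl κ c') A, ← mul_assoc,
      scl_mul hc hc'] at this
  one_mem' := ⟨1, one_ne_zero, 1, by rw [scl_one, one_mul, dg_one]; exact H.one_mem⟩
  inv_mem' {A} := by
    rintro ⟨c, hc, D, h⟩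
    refine ⟨c⁻¹, inv_ne_zero hc, D⁻¹, ?_⟩
    have := H.inv_mem h
    rwa [dg_inv, _root_.mul_inv_rev, scl_inv hc, ← scl_comm (inv_ne_zero hc)] at this

lemma conj_dg (A D a b : GL κ F) : dg A D * dg a b * (dg A D)⁻¹ = dg (A * a * A⁻¹) (D * b * D⁻¹) := by
  rw [dg_inv, dg_mul, dg_mul]

lemma one_add_dg (z : GL κ F) : (1 : Matrix (κ ⊕ κ) (κ ⊕ κ) F) + (dg z z : Matrix (κ ⊕ κ) (κ ⊕ κ) F) =
    Matrix.fromBlocks (1 + (z : Matrix κ κ F)) 0 0 (1 + (z : Matrix κ κ F)) := by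
  rw [dg_val, ← Matrix.fromBlocks_one, Matrix.fromBlocks_add, add_zero]

namespace Sign4

variable {R : Subgroup (GL ι F)} {m : ℕ} {i : F} (S : Sign4 R m i)
include S

variable [Fintype F]

lemma tA_conj' {A a : GL ι F} (ha : a * a = -1) :
    A * tA i a * A⁻¹ = tA i (A * a * A⁻¹) := by
  have h : A * a * A⁻¹ * (A * a * A⁻¹) = -1 := by
    rw [show A * a * A⁻¹ * (A * a * A⁻¹) = A * (a * a) * A⁻¹ by group, ha, mul_neg_one, neg_mul, mul_inv_cancel]
  refine Units.ext ?_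
  rw [Units.val_mul, Units.val_mul, S.tA_val ha, S.tA_val h, mul_smul_comm, smul_mul_assoc, mul_add, mul_one, add_mul,
    Units.mul_inv, Units.val_mul, Units.val_mul]

lemma T_self {a r : GL ι F} (ha : a ∈ R) (haa : a * a = -1) (hr : r ∈ R) :
    (tA i a)⁻¹ * r * tA i a = T a r ∨ (tA i a)⁻¹ * r * tA i a = -T a r := by
  obtain ⟨X, hX⟩ : ∃ X, X = tA i a * r * (tA i a)⁻¹ := ⟨_, rfl⟩
  have hXT : X = T a r := hX ▸ S.tA_conj ha haa hr
  have h2 : (tA i a)⁻¹ * r * tA i a = a⁻¹ * X * a := by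
    obtain ⟨t, ht⟩ : ∃ t, t = tA i a := ⟨_, rfl⟩
    rw [hX, ← ht]
    have ha' : a = scl ι i * (t * t) := by rw [ht, S.tA_sq haa, mul_inv_cancel_left]
    rw [ha', _root_.mul_inv_rev, show (t * t)⁻¹ * (scl ι i)⁻¹ * (t * r * t⁻¹) * (scl ι i * (t * t)) =
      (t * t)⁻¹ * ((scl ι i)⁻¹ * (t * r * t⁻¹) * (scl ι i)⁻¹⁻¹) * (t * t) by group,
      show (scl ι i)⁻¹ * (t * r * t⁻¹) * (scl ι i)⁻¹⁻¹ = t * r * t⁻¹ by
        rw [Aschbacher.commute_of_mem_scalars (inv_mem (scl_mem_scalars S.i_ne)) (t * r * t⁻¹),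
          mul_inv_cancel_right]]
    group
  rw [h2, hXT]
  have hTR : T a r ∈ R := S.T_mem ha hr
  rcases S.comm _ hTR a ha with e | e
  · left; rw [mul_assoc, e, inv_mul_cancel_left]
  · right; rw [mul_assoc, e, mul_neg, inv_mul_cancel_left]

lemma class_of_mul_one_add {u z : GL ι F} (hu : u ∈ R) (hz : z ∈ R) (hzns : z ∉ Cfsg.Geo.scalars ι F)
    (h : (u : Matrix ι ι F) * (1 + (z : Matrix ι ι F)) = 1 + (z : Matrix ι ι F)) :
    u ∈ Cfsg.Geo.scalars ι F ∨ u * z ∈ Cfsg.Geo.scalars ι F := by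
  by_contra hcon
  push Not at hcon
  rw [mul_add, mul_one, ← Units.val_mul] at h
  have h1 := congrArg Matrix.trace h
  rw [Matrix.trace_add, Matrix.trace_add, S.trace_zero hu hcon.1, S.trace_zero (R.mul_mem hu hz) hcon.2,
    S.trace_zero hz hzns, Matrix.trace_one, add_zero, add_zero] at h1
  exact S.index_ne h1.symm

end Sign4

namespace Blocks

variable [Fintype F] {R : Subgroup (GL (κ ⊕ κ) F)} {m : ℕ} {i : F} {σ : F →+* F}
  {f : (κ ⊕ κ → F) → (κ ⊕ κ → F) → F} {f' : (κ → F) → (κ → F) → F} (B : Blocks R m i σ f f')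
  {H : Subgroup (GL (κ ⊕ κ) F)}
include B

lemma iso_of_mem (hH : H ≤ amb f) {A D : GL κ F} (h : dg A D ∈ H) :
    (∀ u v, f' ((A : Matrix κ κ F) *ᵥ u) ((A : Matrix κ κ F) *ᵥ v) = f' u v) ∧
      (∀ u v, f' ((D : Matrix κ κ F) *ᵥ u) ((D : Matrix κ κ F) *ᵥ v) = f' u v) :=
  ⟨(B.dg_mem_amb.1 (hH h)).1, (B.dg_mem_amb.1 (hH h)).2.1⟩

lemma half_le : half R ≤ amb f' := B.half_sign.le_amb B.half_form

lemma swap_mem (hN : Cfsg.Geo.subgroupNormalizer R ⊓ amb f ≤ H) {A D : GL κ F} (h : dg A D ∈ H) : dg D A ∈ H := by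
  have hsw : sw ∈ H := hN ⟨Subgroup.le_normalizer B.sw_mem, B.S.le_amb B.hf B.sw_mem⟩
  have := mul_mem (mul_mem hsw h) (inv_mem hsw)
  rwa [sw_conj] at this

/-- The dichotomy. -/
theorem dichotomy (hstd : Std f) (hH : H ≤ amb f) (hN : Cfsg.Geo.subgroupNormalizer R ⊓ amb f ≤ H)
    (hIH : ∀ H' : Subgroup (GL κ F), Cfsg.Geo.subgroupNormalizer (half R) ⊓ amb f' ≤ H' → H' ≤ amb f' →
      H' ≤ Cfsg.Geo.subgroupNormalizer (half R) ∨ amb f' ≤ H') :
    (∀ A D, dg A D ∈ H → A ∈ Cfsg.Geo.subgroupNormalizer (half R)) ∨ amb f ≤ H := by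
  have S' := B.half_sign
  obtain ⟨P, hP⟩ : ∃ P, P = proj H ⊓ amb f' := ⟨_, rfl⟩
  have hlo : Cfsg.Geo.subgroupNormalizer (half R) ⊓ amb f' ≤ P := fun g hg => hP ▸ ⟨⟨1, one_ne_zero, g, by
    rw [scl_one, one_mul]
    exact B.dg_mem_of_normalises hN hg.1 (mem_amb.1 hg.2).1 (by rw [(mem_amb.1 hg.2).2, one_mul])⟩, hg.2⟩
  rcases hIH P hlo (hP ▸ inf_le_right) with hpart | hfull
  · left
    intro A D hAD
    obtain ⟨hAi, -⟩ := B.iso_of_mem hH hAD
    have hAi' := (B.iso_of_mem hH (A := A⁻¹) (D := D⁻¹) (by rw [← dg_inv]; exact inv_mem hAD)).1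
    have hmove : ∀ A D, dg A D ∈ H → (∀ u v, f' ((A : Matrix κ κ F) *ᵥ u) ((A : Matrix κ κ F) *ᵥ v) = f' u v) →
        ∀ g ∈ P, A * g * A⁻¹ ∈ P := by
      intro A D hAD hAi g hg
      rw [hP] at hg ⊢
      obtain ⟨⟨c, hc, E, hE⟩, hga⟩ := hg
      refine ⟨⟨c, hc, D * E * D⁻¹, ?_⟩, amb_conj hAi hga⟩
      have := mul_mem (mul_mem hAD hE) (inv_mem hAD)
      rwa [conj_dg, ← mul_assoc A, ← scl_comm hc A, mul_assoc (scl κ c) A, mul_assoc (scl κ c)] at this
    have hRP : half R ≤ P := fun r hr => hlo ⟨Subgroup.le_normalizer hr, B.half_le hr⟩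
    have hV := S'.le_of_fixed B.half_form (V := (half R).map (MulAut.conj A).toMonoidHom) (by
        rintro _ ⟨r, hr, rfl⟩
        exact hpart (hmove A D hAD hAi r (hRP hr))) (by
        rintro _ ⟨r, hr, rfl⟩
        rw [← map_mul]
        rcases S'.sq r hr with e | e <;> rw [e]
        · left; simp
        · right; simp) (by
        rintro _ ⟨r, hr, rfl⟩ _ ⟨r', hr', rfl⟩
        rw [← map_mul, ← map_mul]
        rcases S'.comm r hr r' hr' with e | e <;> rw [e]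
        · exact Or.inl rfl
        · right; simp) (by
        rintro g hg _ ⟨r, hr, rfl⟩
        have hg' : A⁻¹ * g * A ∈ P := by
          have := hmove A⁻¹ D⁻¹ (by rw [← dg_inv]; exact inv_mem hAD) hAi' g (hlo hg)
          rwa [inv_inv] at this
        refine ⟨(A⁻¹ * g * A) * r * (A⁻¹ * g * A)⁻¹, (Subgroup.mem_normalizer_iff.1 (hpart hg') r).1 hr, ?_⟩
        simp only [MulEquiv.coe_toMonoidHom, MulAut.conj_apply]
        group)
    haveI : Finite (GL κ F) := inferInstance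
    exact CfsgLib.Solvable.mem_normalizer_of_conj_mem fun r hr => hV ⟨r, hr, rfl⟩
  right
  refine B.amb_le hstd hN ?_
  obtain ⟨K, hK⟩ : ∃ K : Subgroup (GL κ F), ∀ A, A ∈ K ↔ dg A 1 ∈ H :=
    ⟨{ carrier := {A | dg A 1 ∈ H}
       mul_mem' := fun {a b} ha hb => by
         change dg (a * b) 1 ∈ H
         rw [show dg (a * b) 1 = dg a 1 * dg b 1 by rw [dg_mul, one_mul]]
         exact mul_mem ha hb
       one_mem' := by change dg 1 1 ∈ H; rw [dg_one]; exact one_mem H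
       inv_mem' := fun {a} ha => by
         change dg a⁻¹ 1 ∈ H
         rw [show dg a⁻¹ 1 = (dg a 1)⁻¹ by rw [dg_inv, inv_one]]
         exact inv_mem ha }, fun A => Iff.rfl⟩
  obtain ⟨r, hr, hrs⟩ := S'.exists_nonscalar
  obtain ⟨-, -, a, ha, -, haa, -, hac⟩ := S'.exists_lift hr
  have hans : a ∉ Cfsg.Geo.scalars κ F := fun h => hrs (by
    have := mul_mem h (inv_mem (S'.class_of_lift hac))
    rwa [_root_.mul_inv_rev, inv_inv, mul_inv_cancel_left] at this)
  obtain ⟨p, hp, hpa⟩ := S'.partner ha hans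
  have hle := amb_le_of_normalised (B.half_std hstd) B.four_le (K := K) (fun g hg k hk => by
      obtain ⟨c, hc, D, hD⟩ := (hP ▸ hfull hg : g ∈ proj H ⊓ amb f').1
      rw [hK] at hk ⊢
      have := mul_mem (mul_mem hD hk) (inv_mem hD)
      rwa [conj_dg, mul_one, mul_inv_cancel, _root_.mul_inv_rev, scl_inv hc,
        show scl κ c * g * k * (g⁻¹ * scl κ c⁻¹) = scl κ c * (g * k * g⁻¹) * scl κ c⁻¹ by group, scl_comm hc,
        mul_assoc, scl_mul hc (inv_ne_zero hc), mul_inv_cancel₀ hc, scl_one, mul_one] at this)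
    ((hK a).2 (hN (B.dg_one_mem ha haa hans))) (B.half_le ha) (B.half_le hp) (by
      rw [(S'.bv_eq_one hp ha).1 hpa]
      exact S'.ne_neg _)
  exact fun A hA => (hK A).1 (hle hA)

/-- From the block to the invariant formulation. -/
lemma halfN_of_norm (h : ∀ A D, dg A D ∈ H → A ∈ Cfsg.Geo.subgroupNormalizer (half R)) : HalfN H R sgn := by
  intro g hg hgx r hr hrx
  obtain ⟨A, D, rfl⟩ := eq_dg B.S.two_ne hgx
  obtain ⟨C, E, rfl⟩ := eq_dg B.S.two_ne hrx
  have hC := (Subgroup.mem_normalizer_iff.1 (h A D hg) C).1 (B.diag_cases hr).1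
  refine ⟨dg (A * C * A⁻¹) (A * C * A⁻¹), hC, dg_sgn _ _, ?_⟩
  rw [conj_dg, sgn, dg_val, dg_val, dg_val, ← Matrix.fromBlocks_one, Matrix.fromBlocks_add,
    Matrix.fromBlocks_multiply, Matrix.fromBlocks_multiply]
  simp

/-- From the invariant formulation to the block. -/
lemma norm_of_halfN (h : HalfN H R sgn) {A D : GL κ F} (hAD : dg A D ∈ H) :
    A ∈ Cfsg.Geo.subgroupNormalizer (half R) := by
  haveI : Finite (GL κ F) := inferInstance
  refine CfsgLib.Solvable.mem_normalizer_of_conj_mem fun C hC => ?_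
  obtain ⟨r1, hr1, hr1x, he⟩ := h _ hAD (dg_sgn _ _) _ hC (dg_sgn _ _)
  obtain ⟨C1, E1, rfl⟩ := eq_dg B.S.two_ne hr1x
  rw [conj_dg, sgn, dg_val, dg_val, dg_val, ← Matrix.fromBlocks_one, Matrix.fromBlocks_add,
    Matrix.fromBlocks_multiply, Matrix.fromBlocks_multiply, Matrix.fromBlocks_inj] at he
  have h1 := he.1
  simp only [Matrix.mul_zero, add_zero, Units.val_one, ← two_smul F (1 : Matrix κ κ F), mul_smul_comm, mul_one] at h1
  have e : A * C * A⁻¹ = C1 := Units.ext (smul_right_injective _ B.S.two_ne h1)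
  rw [e]
  exact (B.diag_cases hr1).1

variable (hall : ∀ z ∈ R, z * z = 1 → z ∉ Cfsg.Geo.scalars (κ ⊕ κ) F → HalfN H R z)
include hall

/-- A one-block member fixing an involution of the block is trivial on its centraliser modulo it. -/
lemma kernel_perp {k z v : GL κ F} (hk : dg k 1 ∈ H) (hkN : k ∈ Cfsg.Geo.subgroupNormalizer (half R))
    (hz : z ∈ half R) (hzz : z * z = 1) (hzns : z ∉ Cfsg.Geo.scalars κ F) (hkz : k * z = z * k) (hv : v ∈ half R)
    (hvz : v * z = z * v) :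
    v⁻¹ * (k * v * k⁻¹) ∈ Cfsg.Geo.scalars κ F ∨ v⁻¹ * (k * v * k⁻¹) * z ∈ Cfsg.Geo.scalars κ F := by
  have S' := B.half_sign
  obtain ⟨w, hw⟩ : ∃ w, w = k * v * k⁻¹ := ⟨_, rfl⟩
  have hwR : w ∈ half R := hw ▸ (Subgroup.mem_normalizer_iff.1 hkN v).1 hv
  have hz1 : ∀ u : GL κ F, (u : Matrix κ κ F) * (1 + (z : Matrix κ κ F)) ≠ 0 := fun u h => hzns (by
    have h1 := congrArg (((u⁻¹ : GL κ F) : Matrix κ κ F) * ·) h
    simp only [← mul_assoc, Units.inv_mul, one_mul, mul_zero] at h1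
    have h2 : z = -1 := Units.ext (by rw [Units.val_neg, Units.val_one]; exact (eq_neg_of_add_eq_zero_right h1))
    rw [h2]; exact S'.neg_scalar)
  obtain ⟨r1, hr1, -, he⟩ := hall (dg z z) hz (by rw [dg_mul, hzz, dg_one]) (fun h => hzns (B.dg_scalar h).1) _ hk
    (by rw [dg_mul, dg_mul, hkz, one_mul, mul_one]) (dg v v) hv (by rw [dg_mul, dg_mul, hvz])
  rw [conj_dg, one_mul, inv_one, mul_one, ← hw, one_add_dg, dg_val, Matrix.fromBlocks_multiply] at he
  simp only [Matrix.mul_zero, Matrix.zero_mul, add_zero, zero_add] at he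
  obtain ⟨C, hC, E, hE, e | e⟩ := B.elt_cases hr1
  swap
  · rw [e, Units.val_mul, dg_val, sw_val, Matrix.fromBlocks_multiply, Matrix.fromBlocks_multiply,
      Matrix.fromBlocks_inj] at he
    exact absurd (by simpa using he.1) (hz1 w)
  rw [e, dg_val, Matrix.fromBlocks_multiply, Matrix.fromBlocks_inj] at he
  simp only [Matrix.mul_zero, Matrix.zero_mul, add_zero, zero_add] at he
  obtain ⟨h1, -, -, h4⟩ := he
  obtain ⟨s, hs, hsw⟩ : ∃ s : GL κ F, (s = 1 ∨ s = -1) ∧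
      (w : Matrix κ κ F) * (1 + (z : Matrix κ κ F)) = ((v * s : GL κ F) : Matrix κ κ F) * (1 + (z : Matrix κ κ F)) := by
    rcases hE with rfl | rfl
    · exact ⟨1, Or.inl rfl, by rw [mul_one, h1, h4]⟩
    · exact ⟨-1, Or.inr rfl, by rw [mul_neg_one, Units.val_neg, neg_mul, h4, Units.val_neg, neg_mul, neg_neg, h1]⟩
  have hss : s ∈ Cfsg.Geo.scalars κ F := by rcases hs with rfl | rfl; exacts [one_mem _, S'.neg_scalar]
  have hsR : s ∈ half R := by rcases hs with rfl | rfl; exacts [(half R).one_mem, S'.neg]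
  have hu : (((v * s)⁻¹ * w : GL κ F) : Matrix κ κ F) * (1 + (z : Matrix κ κ F)) = 1 + (z : Matrix κ κ F) := by
    rw [Units.val_mul, mul_assoc, hsw, ← mul_assoc, Units.inv_mul, one_mul]
  have h := S'.class_of_mul_one_add ((half R).mul_mem ((half R).inv_mem ((half R).mul_mem hv hsR)) hwR) hz hzns hu
  have e2 : v⁻¹ * w = s * ((v * s)⁻¹ * w) := by rw [_root_.mul_inv_rev, mul_assoc, mul_inv_cancel_left]
  rw [← hw]
  rcases h with h | h
  · left; rw [e2]; exact mul_mem hss h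
  · right; rw [e2, mul_assoc]; exact mul_mem hss h

/-- A one-block member fixes every class. -/
lemma kernel_trivial (hN : Cfsg.Geo.subgroupNormalizer R ⊓ amb f ≤ H) {k v : GL κ F} (hk : dg k 1 ∈ H)
    (hkN : k ∈ Cfsg.Geo.subgroupNormalizer (half R)) (hv : v ∈ half R) (hvv : v * v = -1)
    (hvns : v ∉ Cfsg.Geo.scalars κ F) : v⁻¹ * (k * v * k⁻¹) ∈ Cfsg.Geo.scalars κ F := by
  have S' := B.half_sign
  by_contra hne
  obtain ⟨w, hw⟩ : ∃ w, w = k * v * k⁻¹ := ⟨_, rfl⟩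
  rw [← hw] at hne
  have hwR : w ∈ half R := hw ▸ (Subgroup.mem_normalizer_iff.1 hkN v).1 hv
  have hww : w * w = -1 := by
    rw [hw, show k * v * k⁻¹ * (k * v * k⁻¹) = k * (v * v) * k⁻¹ by group, hvv, mul_neg_one, neg_mul, mul_inv_cancel]
  have hwns : w ∉ Cfsg.Geo.scalars κ F := fun h => hvns (by
    have e : v = k⁻¹ * w * k := by rw [hw]; group
    rw [e, mul_assoc, Aschbacher.commute_of_mem_scalars h k, inv_mul_cancel_left]; exact h)
  obtain ⟨t, ht⟩ : ∃ t, t = tA i v := ⟨_, rfl⟩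
  obtain ⟨g, hg⟩ : ∃ g, g = tA i w * t⁻¹ := ⟨_, rfl⟩
  have htw : k * t * k⁻¹ = tA i w := by rw [ht, S'.tA_conj' hvv, hw]
  have htH : dg t t ∈ H := ht ▸ B.tA_dg_mem hN hv hvv hvns
  have hgH : dg g 1 ∈ H := by
    have := mul_mem (mul_mem (mul_mem hk htH) (inv_mem hk)) (inv_mem htH)
    rwa [conj_dg, htw, one_mul, inv_one, mul_one, dg_inv, dg_mul, mul_inv_cancel, ← hg] at this
  have hgN : g ∈ Cfsg.Geo.subgroupNormalizer (half R) :=
    hg ▸ mul_mem (S'.tA_normalises hwR hww) (inv_mem (ht ▸ S'.tA_normalises hv hvv))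
  have hact : ∀ r ∈ half R, g * r * g⁻¹ = T w (T v r) ∨ g * r * g⁻¹ = -T w (T v r) := fun r hr => by
    rw [show g * r * g⁻¹ = tA i w * (t⁻¹ * r * t) * (tA i w)⁻¹ by rw [hg]; group, ht]
    rcases S'.T_self hv hvv hr with e | e <;> rw [e]
    · exact Or.inl (S'.tA_conj hwR hww (S'.T_mem hv hr))
    · right; rw [mul_neg, neg_mul, S'.tA_conj hwR hww (S'.T_mem hv hr)]
  have hfix : ∀ z ∈ half R, bv z v = 0 → bv z w = 0 → g * z = z * g := by
    intro z hz h1 h2
    have e1 : t * z = z * t := by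
      rw [← mul_inv_eq_iff_eq_mul, ht, S'.tA_conj hv hvv hz, S'.T_comm h1]
    have e2 : tA i w * z = z * tA i w := by
      rw [← mul_inv_eq_iff_eq_mul, S'.tA_conj hwR hww hz, S'.T_comm h2]
    have e3 : t⁻¹ * z = z * t⁻¹ := by rw [inv_mul_eq_iff_eq_mul, ← mul_assoc, e1, mul_inv_cancel_right]
    rw [hg, mul_assoc, e3, ← mul_assoc, e2, mul_assoc]
  rcases S'.bv_cases v w with hvw | hvw
  · obtain ⟨z, hz⟩ : ∃ z, z = scl κ i * v := ⟨_, rfl⟩
    have hzR : z ∈ half R := hz ▸ (half R).mul_mem S'.mem_i hv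
    have hzz : z * z = 1 := by
      rw [hz, mul_assoc, ← mul_assoc v, ← scl_comm S'.i_ne v, mul_assoc (scl κ i) v, hvv, ← mul_assoc, S'.ii,
        neg_one_mul, neg_neg]
    have hzv : ∀ u : GL κ F, u ∈ half R → bv u z = bv u v := fun u hu => by
      rw [hz, S'.bv_mul' S'.mem_i hv hu, bv_symm u (scl κ i), S'.bv_i, zero_add]
    have hzns : z ∉ Cfsg.Geo.scalars κ F := fun h => hvns (by
      have := mul_mem (inv_mem (scl_mem_scalars (ι := κ) S'.i_ne)) h
      rwa [hz, inv_mul_cancel_left] at this)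
    have hwv : w * v ∉ Cfsg.Geo.scalars κ F := fun h => hne (by
      rcases S'.inv_eq hv with e | e <;> rw [e]
      · rw [bv_eq_zero.1 hvw]; exact h
      · rw [neg_mul, bv_eq_zero.1 hvw, ← neg_one_mul]; exact mul_mem S'.neg_scalar h)
    obtain ⟨u, hu, hul, huw⟩ := S'.sep [v] w hwR (fun a ha => by rw [List.mem_singleton] at ha; rw [ha]; exact hv)
      ⟨hwns, hwv⟩
    have huv : bv u v = 0 := hul v List.mem_cons_self
    have hgz : g * z = z * g := hfix z hzR (by rw [bv_symm, hzv v hv, bv_self])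
      (by rw [bv_symm, hzv w hwR, bv_symm, hvw])
    have h := B.kernel_perp hall hgH hgN hzR hzz hzns hgz hu (bv_eq_zero.1 (by rw [hzv u hu, huv]))
    have hgu : u⁻¹ * (g * u * g⁻¹) = w ∨ u⁻¹ * (g * u * g⁻¹) = -w := by
      have e := hact u hu
      rw [S'.T_comm huv, S'.T_anti huw] at e
      rcases e with e | e <;> rw [e]
      · right; rw [(S'.bv_eq_one hwR hu).1 (by rw [bv_symm]; exact huw), mul_neg, inv_mul_cancel_left]
      · left; rw [(S'.bv_eq_one hwR hu).1 (by rw [bv_symm]; exact huw), neg_neg, inv_mul_cancel_left]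
    have hwz : w * z ∉ Cfsg.Geo.scalars κ F := fun h => hwv (by
      have := mul_mem (inv_mem (scl_mem_scalars (ι := κ) S'.i_ne)) h
      rwa [hz, ← mul_assoc w, ← scl_comm S'.i_ne w, mul_assoc, inv_mul_cancel_left] at this)
    rcases hgu with e | e <;> rw [e] at h <;> rcases h with h | h
    · exact hwns h
    · exact hwz h
    · exact hwns (by rw [← neg_neg w, ← neg_one_mul]; exact mul_mem S'.neg_scalar h)
    · exact hwz (by rw [← neg_neg (w * z), ← neg_one_mul, ← neg_mul]; exact mul_mem S'.neg_scalar h)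
  -- anticommuting
  obtain ⟨r, hr, hr0, hr1, hr2, hr3⟩ := S'.exists_outside v w
  have hb1 : bv w v = 1 := by rw [bv_symm]; exact hvw
  obtain ⟨y0, hy0, hy0s, hy0v, hy0w⟩ : ∃ y ∈ half R, y ∉ Cfsg.Geo.scalars κ F ∧ bv y v = 0 ∧ bv y w = 0 := by
    have hback : ∀ a ∈ half R, r * a ∈ Cfsg.Geo.scalars κ F → a⁻¹ * r ∈ Cfsg.Geo.scalars κ F := fun a ha h => by
      rcases S'.inv_eq ha with e | e <;> rw [e] <;> rcases S'.comm a ha r hr with e' | e'
      · rw [e']; exact h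
      · rw [e', ← neg_one_mul]; exact mul_mem S'.neg_scalar h
      · rw [neg_mul, e', ← neg_one_mul]; exact mul_mem S'.neg_scalar h
      · rw [neg_mul, e', neg_neg]; exact h
    rcases S'.bv_cases r v with h1 | h1 <;> rcases S'.bv_cases r w with h2 | h2
    · exact ⟨r, hr, hr0, h1, h2⟩
    · exact ⟨r * v, (half R).mul_mem hr hv, fun h => hr1 (hback v hv h),
        by rw [S'.bv_mul hr hv hv, h1, bv_self, add_zero], by rw [S'.bv_mul hr hv hwR, h2, hvw, zmod_self]⟩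
    · exact ⟨r * w, (half R).mul_mem hr hwR, fun h => hr2 (hback w hwR h),
        by rw [S'.bv_mul hr hwR hv, h1, hb1, zmod_self], by rw [S'.bv_mul hr hwR hwR, h2, bv_self, add_zero]⟩
    · exact ⟨r * (v * w), (half R).mul_mem hr ((half R).mul_mem hv hwR),
        fun h => hr3 (hback _ ((half R).mul_mem hv hwR) h),
        by rw [S'.bv_mul hr ((half R).mul_mem hv hwR) hv, S'.bv_mul hv hwR hv, h1, bv_self, hb1, zero_add, zmod_self],
        by rw [S'.bv_mul hr ((half R).mul_mem hv hwR) hwR, S'.bv_mul hv hwR hwR, h2, bv_self, hvw, add_zero, zmod_self]⟩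
  obtain ⟨y, hy, -, -, hyy, -, hyc, -⟩ := S'.exists_lift hy0
  have hyb : ∀ u ∈ half R, bv y u = bv y0 u := fun u hu => by
    rcases hyc with rfl | rfl
    · rfl
    · rw [S'.bv_mul S'.mem_i hy0 hu, S'.bv_i, zero_add]
  have hyns : y ∉ Cfsg.Geo.scalars κ F := fun h => hy0s (by
    have := mul_mem h (inv_mem (S'.class_of_lift hyc))
    rwa [_root_.mul_inv_rev, inv_inv, mul_inv_cancel_left] at this)
  have hyv : bv y v = 0 := (hyb v hv).trans hy0v
  have hyw : bv y w = 0 := (hyb w hwR).trans hy0w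
  have hv' : ∀ a, a ∈ half R → bv a w = 1 → a ∉ Cfsg.Geo.scalars κ F := fun a _ h hs =>
    one_ne_zero (h.symm.trans (S'.bv_scalar hs w))
  obtain ⟨u, hu, hul, huv⟩ := S'.sep [y, w] v hv (fun a ha => by
    rcases List.mem_cons.1 ha with rfl | ha
    · exact hy
    · rw [List.mem_singleton] at ha; rw [ha]; exact hwR)
    ⟨⟨hvns, hv' _ ((half R).mul_mem hv hwR) (by rw [S'.bv_mul hv hwR hwR, hvw, bv_self, add_zero])⟩,
      hv' _ ((half R).mul_mem hv hy) (by rw [S'.bv_mul hv hy hwR, hvw, hyw, add_zero]),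
      hv' _ ((half R).mul_mem ((half R).mul_mem hv hy) hwR)
        (by rw [S'.bv_mul ((half R).mul_mem hv hy) hwR hwR, S'.bv_mul hv hy hwR, hvw, hyw, bv_self, add_zero, add_zero])⟩
  have huy : bv u y = 0 := hul y List.mem_cons_self
  have huw : bv u w = 0 := hul w (List.mem_cons_of_mem _ List.mem_cons_self)
  have h := B.kernel_perp hall hgH hgN hy hyy hyns (hfix y hy hyv hyw) hu (bv_eq_zero.1 huy)
  have hvuw : bv (v * u) w = 1 := by rw [S'.bv_mul hv hu hwR, hvw, huw, add_zero]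
  have huwv : bv u (w * v) = 1 := by rw [S'.bv_mul' hwR hv hu, huw, huv, zero_add]
  have hwvR : w * v ∈ half R := (half R).mul_mem hwR hv
  have hgu : u⁻¹ * (g * u * g⁻¹) = w * v ∨ u⁻¹ * (g * u * g⁻¹) = -(w * v) := by
    have e := hact u hu
    rw [S'.T_anti huv, S'.T_anti hvuw, ← mul_assoc] at e
    rcases e with e | e <;> rw [e]
    · right; rw [(S'.bv_eq_one hwvR hu).1 (by rw [bv_symm]; exact huwv), mul_neg, inv_mul_cancel_left]
    · left; rw [(S'.bv_eq_one hwvR hu).1 (by rw [bv_symm]; exact huwv), neg_neg, inv_mul_cancel_left]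
  have hb : bv (w * v) v = 1 := by rw [S'.bv_mul hwR hv hv, hb1, bv_self, add_zero]
  have hby : bv (w * v * y) v = 1 := by rw [S'.bv_mul hwvR hy hv, hb, hyv, add_zero]
  have hns1 : ∀ a, bv a v = 1 → a ∉ Cfsg.Geo.scalars κ F := fun a h hs =>
    one_ne_zero (h.symm.trans (S'.bv_scalar hs v))
  have hneg : ∀ a : GL κ F, -a ∈ Cfsg.Geo.scalars κ F → a ∈ Cfsg.Geo.scalars κ F := fun a h => by
    rw [← neg_neg a, ← neg_one_mul]; exact mul_mem S'.neg_scalar h
  rcases hgu with e | e <;> rw [e] at h <;> rcases h with h | h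
  · exact hns1 _ hb h
  · exact hns1 _ hby h
  · exact hns1 _ hb (hneg _ h)
  · rw [neg_mul] at h; exact hns1 _ hby (hneg _ h)

/-- The centraliser of the sign change normalises. -/
theorem centraliser_normalises (hH : H ≤ amb f) (hN : Cfsg.Geo.subgroupNormalizer R ⊓ amb f ≤ H) {A D : GL κ F}
    (hAD : dg A D ∈ H) : dg A D ∈ Cfsg.Geo.subgroupNormalizer R := by
  haveI : Finite (GL (κ ⊕ κ) F) := inferInstance
  haveI : Finite (GL κ F) := inferInstance
  have S' := B.half_sign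
  have hsgn : sgn ∉ Cfsg.Geo.scalars (κ ⊕ κ) F := fun h => B.ne_neg 1 (B.dg_scalar h).2
  have hnorm : ∀ {A D : GL κ F}, dg A D ∈ H → A ∈ Cfsg.Geo.subgroupNormalizer (half R) := fun h =>
    B.norm_of_halfN (hall sgn B.sgn_mem sgn_sq hsgn) h
  have hAN := hnorm hAD
  have hDN := hnorm (B.swap_mem hN hAD)
  -- the two halves act alike
  have hsame : ∀ a ∈ half R, a * a = -1 → a ∉ Cfsg.Geo.scalars κ F →
      (D * a * D⁻¹)⁻¹ * (A * a * A⁻¹) ∈ Cfsg.Geo.scalars κ F := by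
    intro a ha haa hans
    obtain ⟨a1, ha1⟩ : ∃ a1, a1 = A * a * A⁻¹ := ⟨_, rfl⟩
    obtain ⟨a2, ha2⟩ : ∃ a2, a2 = D * a * D⁻¹ := ⟨_, rfl⟩
    rw [← ha1, ← ha2]
    have hR1 : a1 ∈ half R := ha1 ▸ (Subgroup.mem_normalizer_iff.1 hAN a).1 ha
    have hR2 : a2 ∈ half R := ha2 ▸ (Subgroup.mem_normalizer_iff.1 hDN a).1 ha
    have hsq1 : a1 * a1 = -1 := by
      rw [ha1, show A * a * A⁻¹ * (A * a * A⁻¹) = A * (a * a) * A⁻¹ by group, haa, mul_neg_one, neg_mul, mul_inv_cancel]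
    have hsq2 : a2 * a2 = -1 := by
      rw [ha2, show D * a * D⁻¹ * (D * a * D⁻¹) = D * (a * a) * D⁻¹ by group, haa, mul_neg_one, neg_mul, mul_inv_cancel]
    have hcs : ∀ (E a' : GL κ F), a' = E * a * E⁻¹ → a' ∉ Cfsg.Geo.scalars κ F := fun E a' he h => hans (by
      have e : a = E⁻¹ * a' * E := by rw [he]; group
      rw [e, mul_assoc, Aschbacher.commute_of_mem_scalars h E, inv_mul_cancel_left]; exact h)
    by_contra hne
    obtain ⟨g, hg⟩ : ∃ g, g = (tA i a2)⁻¹ * tA i a1 := ⟨_, rfl⟩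
    have hgH : dg g 1 ∈ H := by
      have h2 := B.tA_dg_mem hN hR2 hsq2 (hcs D a2 ha2)
      have := mul_mem (inv_mem h2) (mul_mem (mul_mem hAD (B.tA_dg_mem hN ha haa hans)) (inv_mem hAD))
      rwa [conj_dg, S'.tA_conj' haa, S'.tA_conj' haa, ← ha1, ← ha2, dg_inv, dg_mul, inv_mul_cancel, ← hg] at this
    have hgN : g ∈ Cfsg.Geo.subgroupNormalizer (half R) :=
      hg ▸ mul_mem (inv_mem (S'.tA_normalises hR2 hsq2)) (S'.tA_normalises hR1 hsq1)
    have hind : a1 * a2 ∉ Cfsg.Geo.scalars κ F := fun h => hne (by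
      rcases S'.inv_eq hR2 with e | e <;> rcases S'.comm a2 hR2 a1 hR1 with e' | e' <;> rw [e]
      · rw [e']; exact h
      · rw [e', ← neg_one_mul]; exact mul_mem S'.neg_scalar h
      · rw [neg_mul, e', ← neg_one_mul]; exact mul_mem S'.neg_scalar h
      · rw [neg_mul, e', neg_neg]; exact h)
    obtain ⟨r, hr, hrl, hr1⟩ := S'.sep [a2] a1 hR1 (fun b hb => by rw [List.mem_singleton] at hb; rw [hb]; exact hR2)
      ⟨hcs A a1 ha1, hind⟩
    have hr2 : bv r a2 = 0 := hrl _ List.mem_cons_self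
    have hT1R : a1 * r ∈ half R := (half R).mul_mem hR1 hr
    have hrns : r ∉ Cfsg.Geo.scalars κ F := fun h => one_ne_zero (hr1.symm.trans (S'.bv_scalar h a1))
    obtain ⟨-, -, r', hr'R, -, hr's, -, hr'c⟩ := S'.exists_lift hr
    have hfixr : r⁻¹ * (g * r * g⁻¹) ∈ Cfsg.Geo.scalars κ F := by
      have h1 := B.kernel_trivial hall hN hgH hgN hr'R hr's (fun h => hrns (by
        have := mul_mem h (inv_mem (S'.class_of_lift hr'c))
        rwa [_root_.mul_inv_rev, inv_inv, mul_inv_cancel_left] at this))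
      rcases hr'c with rfl | rfl
      · exact h1
      · rw [← mul_assoc g, ← scl_comm S'.i_ne g, mul_assoc (scl κ i) g, mul_assoc (scl κ i) (g * r),
          _root_.mul_inv_rev, mul_assoc r⁻¹, inv_mul_cancel_left] at h1
        exact h1
    have he : g * r * g⁻¹ = (tA i a2)⁻¹ * (a1 * r) * tA i a2 := by
      rw [← S'.T_anti hr1, ← S'.tA_conj hR1 hsq1 hr, hg]
      group
    have hba : bv (r⁻¹ * (g * r * g⁻¹)) r = 1 := by
      have hTR : T a2 (a1 * r) ∈ half R := S'.T_mem hR2 hT1R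
      have hb : bv (r⁻¹ * T a2 (a1 * r)) r = 1 := by
        rw [S'.bv_mul ((half R).inv_mem hr) hTR hr, S'.bv_inv hr, bv_self, zero_add]
        unfold T
        split_ifs
        · rw [S'.bv_mul hR1 hr hr, bv_self, add_zero, bv_symm, hr1]
        · rw [S'.bv_mul hR2 hT1R hr, S'.bv_mul hR1 hr hr, bv_self, add_zero, bv_symm a1, hr1, bv_symm a2, hr2, zero_add]
      rw [he]
      rcases S'.T_self hR2 hsq2 hT1R with e | e <;> rw [e]
      · exact hb
      · rw [mul_neg, bv_neg, hb]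
    exact zero_ne_one ((S'.bv_scalar hfixr r).symm.trans hba)
  -- so they differ by a scalar and an element of the block
  obtain ⟨u, hu, huA⟩ := S'.mem_of_fix (g := D⁻¹ * A) fun r hr => by
    by_cases hrs : r ∈ Cfsg.Geo.scalars κ F
    · rw [scalar_conj hrs, inv_mul_cancel]; exact one_mem _
    obtain ⟨-, -, a, ha, -, haa, -, hac⟩ := S'.exists_lift hr
    have hans : a ∉ Cfsg.Geo.scalars κ F := fun h => hrs (by
      have := mul_mem h (inv_mem (S'.class_of_lift hac))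
      rwa [_root_.mul_inv_rev, inv_inv, mul_inv_cancel_left] at this)
    obtain ⟨c, hc, hce⟩ := exists_scl (hsame a ha haa hans)
    have h1 : A * a * A⁻¹ = D * a * D⁻¹ * scl κ c := by rw [← hce, mul_inv_cancel_left]
    have h2 : D⁻¹ * A * a * (D⁻¹ * A)⁻¹ = a * scl κ c := by
      rw [show D⁻¹ * A * a * (D⁻¹ * A)⁻¹ = D⁻¹ * (A * a * A⁻¹) * D by group, h1,
        show D⁻¹ * (D * a * D⁻¹ * scl κ c) * D = a * (D⁻¹ * scl κ c * D) by group]
      congr 1
      rw [mul_assoc, scl_comm hc, inv_mul_cancel_left]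
    obtain ⟨e, he, hee⟩ := exists_scl (S'.class_of_lift hac)
    have hra : a = r * scl κ e := by rw [← hee, mul_inv_cancel_left]
    obtain ⟨δ, hδ⟩ : ∃ δ, δ = D⁻¹ * A := ⟨_, rfl⟩
    rw [← hδ] at h2 ⊢
    have h3 : δ * r * δ⁻¹ = r * scl κ c := by
      have h4 : δ * a * δ⁻¹ = δ * r * δ⁻¹ * scl κ e := by
        rw [hra, ← mul_assoc, mul_assoc _ (scl κ e), scl_comm he, ← mul_assoc]
      rw [h4, hra, mul_assoc r, scl_comm he, ← mul_assoc] at h2
      exact mul_right_cancel h2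
    rw [h3, _root_.mul_inv_rev, mul_assoc, inv_mul_cancel, mul_one]
    exact inv_mem (scl_mem_scalars hc)
  obtain ⟨μ₀, hμ₀, hμ₀e⟩ := exists_scl huA
  obtain ⟨a, μ, hμ, haN, hAeq⟩ : ∃ (a : GL κ F) (μ : F), μ ≠ 0 ∧
      dg a 1 ∈ Cfsg.Geo.subgroupNormalizer R ⊓ amb f ∧ A = D * (scl κ μ * a) := by
    have hA : A = D * (u * scl κ μ₀) := by rw [← hμ₀e, mul_inv_cancel_left, mul_inv_cancel_left]
    by_cases hus : u ∈ Cfsg.Geo.scalars κ F
    · obtain ⟨c, hc, rfl⟩ := exists_scl hus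
      exact ⟨1, c * μ₀, mul_ne_zero hc hμ₀, by rw [dg_one]; exact one_mem _, by rw [hA, mul_one, scl_mul hc hμ₀]⟩
    obtain ⟨-, -, a, ha, -, haa, -, hac⟩ := S'.exists_lift hu
    have hans : a ∉ Cfsg.Geo.scalars κ F := fun h => hus (by
      have := mul_mem h (inv_mem (S'.class_of_lift hac))
      rwa [_root_.mul_inv_rev, inv_inv, mul_inv_cancel_left] at this)
    rcases hac with rfl | rfl
    · exact ⟨a, μ₀, hμ₀, B.dg_one_mem ha haa hans, by rw [hA, scl_comm hμ₀]⟩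
    · refine ⟨scl κ i * u, μ₀ * i⁻¹, mul_ne_zero hμ₀ (inv_ne_zero S'.i_ne), B.dg_one_mem ha haa hans, ?_⟩
      rw [hA, ← scl_mul hμ₀ (inv_ne_zero S'.i_ne), ← scl_inv S'.i_ne, mul_assoc (scl κ μ₀), inv_mul_cancel_left,
        scl_comm hμ₀]
  obtain ⟨c1, hc1⟩ : ∃ c1, c1 = dg (D * scl κ μ) D := ⟨_, rfl⟩
  have hc : dg A D = c1 * dg a 1 := by rw [hc1, dg_mul, mul_one, hAeq, mul_assoc]
  have hc1H : c1 ∈ H := by
    have := mul_mem hAD (inv_mem (hN haN))
    rwa [hc, mul_inv_cancel_right] at this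
  suffices hμ4 : scl κ μ⁻¹ = scl κ μ ∨ scl κ μ⁻¹ = -scl κ μ by
    rw [hc]
    refine mul_mem ?_ haN.1
    have hμR : scl κ μ ∈ half R := S'.scl_mem_of_sq hμ (by
      rw [← scl_inv hμ] at hμ4
      rcases hμ4 with e | e
      · left
        calc scl κ μ * scl κ μ = (scl κ μ)⁻¹ * scl κ μ := by rw [e]
          _ = 1 := inv_mul_cancel _
      · right
        calc scl κ μ * scl κ μ = -((-scl κ μ) * scl κ μ) := by rw [neg_mul, neg_neg]
          _ = -((scl κ μ)⁻¹ * scl κ μ) := by rw [e]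
          _ = -1 := by rw [inv_mul_cancel])
    rw [show c1 = dg D D * dg (scl κ μ) 1 by rw [hc1, dg_mul, mul_one]]
    refine mul_mem (B.dg_normalises hDN) (CfsgLib.Solvable.mem_normalizer_of_conj_mem fun r hr => ?_)
    obtain ⟨C, hC, E, hE, e⟩ := B.elt_cases hr
    have hd : dg (scl κ μ) 1 * dg C E * (dg (scl κ μ) 1)⁻¹ = dg C E := by
      rw [conj_dg, one_mul, inv_one, mul_one, scl_comm hμ, mul_inv_cancel_right]
    rcases e with rfl | rfl
    · rw [hd]; exact B.diag_mem hC hE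
    · have hs : dg (scl κ μ) 1 * sw * (dg (scl κ μ) 1)⁻¹ = dg (scl κ μ) (scl κ μ⁻¹) * sw := by
        rw [dg_inv, inv_one, mul_assoc, sw_dg, ← mul_assoc, dg_mul, mul_one, one_mul, scl_inv hμ]
      rw [show dg (scl κ μ) 1 * (dg C E * sw) * (dg (scl κ μ) 1)⁻¹ =
        (dg (scl κ μ) 1 * dg C E * (dg (scl κ μ) 1)⁻¹) * (dg (scl κ μ) 1 * sw * (dg (scl κ μ) 1)⁻¹) by group, hd, hs]
      exact R.mul_mem (B.diag_mem hC hE) (R.mul_mem (B.diag_mem hμR hμ4) B.sw_mem)
  -- the scalar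
  obtain ⟨z0, hz0, hz0s⟩ := S'.exists_nonscalar
  obtain ⟨z, hz, -, -, hzz, -, hzc, -⟩ := S'.exists_lift hz0
  have hzns : z ∉ Cfsg.Geo.scalars κ F := fun h => hz0s (by
    have := mul_mem h (inv_mem (S'.class_of_lift hzc))
    rwa [_root_.mul_inv_rev, inv_inv, mul_inv_cancel_left] at this)
  obtain ⟨z', hz'⟩ : ∃ z', z' = D * z * D⁻¹ := ⟨_, rfl⟩
  have hz'R : z' ∈ half R := hz' ▸ (Subgroup.mem_normalizer_iff.1 hDN z).1 hz
  have hz'ns : z' ∉ Cfsg.Geo.scalars κ F := fun h => hzns (by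
    have e : z = D⁻¹ * z' * D := by rw [hz']; group
    rw [e, mul_assoc, Aschbacher.commute_of_mem_scalars h D, inv_mul_cancel_left]; exact h)
  obtain ⟨g0, hg0, hg0z, hg0a⟩ := S'.exists_move hz'R hz hz'ns hzns
  have hg0H : dg g0 g0 ∈ H := B.dg_mem_of_normalises hN hg0 (mem_amb.1 (hg0a σ f' B.half_form)).1
    (by rw [(mem_amb.1 (hg0a σ f' B.half_form)).2, one_mul])
  obtain ⟨g, hgH, hgz⟩ : ∃ g, dg g g ∈ H ∧ g * z' * g⁻¹ = z := by
    obtain ⟨X, hX⟩ : ∃ X, X = g0 * z' * g0⁻¹ := ⟨_, rfl⟩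
    have hXX : X * X = 1 := by
      rw [hX, hz', show g0 * (D * z * D⁻¹) * g0⁻¹ * (g0 * (D * z * D⁻¹) * g0⁻¹) =
        g0 * D * (z * z) * D⁻¹ * g0⁻¹ by group, hzz]
      group
    rw [← hX] at hg0z
    obtain ⟨e, he, hee⟩ := exists_scl hg0z
    have hzX : z = X * scl κ e := by rw [← hee, mul_inv_cancel_left]
    have he2 : scl κ e * scl κ e = 1 := by
      have h := hzz
      rw [hzX, mul_assoc X, ← mul_assoc (scl κ e), scl_comm he X, mul_assoc X (scl κ e), ← mul_assoc, hXX, one_mul] at h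
      exact h
    obtain ⟨j⟩ := B.nonempty
    have h4 := congrArg Units.val he2
    rw [Units.val_mul, scl_val he, smul_mul_smul_comm, one_mul, Units.val_one] at h4
    rcases mul_self_eq_one_iff.1 (show e * e = 1 by simpa using congrFun (congrFun h4 j) j) with rfl | rfl
    · refine ⟨g0, hg0H, ?_⟩
      rw [← hX, hzX, scl_one, mul_one]
    · obtain ⟨p, hp, hpz⟩ := S'.partner hz hzns
      have hpH : dg p p ∈ H := hN ⟨Subgroup.le_normalizer hp, B.S.le_amb B.hf hp⟩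
      have hXz : X = -z := by
        rw [hzX, show scl κ (-1 : F) = -1 from Units.ext (by
          rw [scl_val he, neg_one_smul, Units.val_neg, Units.val_one]), mul_neg_one, neg_neg]
      refine ⟨p * g0, by rw [← dg_mul]; exact mul_mem hpH hg0H, ?_⟩
      rw [show p * g0 * z' * (p * g0)⁻¹ = p * (g0 * z' * g0⁻¹) * p⁻¹ by group, ← hX, hXz, mul_neg, neg_mul,
        (S'.bv_eq_one hp hz).1 hpz, neg_mul, mul_inv_cancel_right, neg_neg]
  obtain ⟨c2, hc2⟩ : ∃ c2, c2 = dg g g * c1 := ⟨_, rfl⟩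
  have hc2H : c2 ∈ H := hc2 ▸ mul_mem hgH hc1H
  have hc2v : c2 = dg (g * D * scl κ μ) (g * D) := by rw [hc2, hc1, dg_mul, mul_assoc]
  have hgD : g * D * z = z * (g * D) := by
    rw [← mul_inv_eq_iff_eq_mul, show g * D * z * (g * D)⁻¹ = g * (D * z * D⁻¹) * g⁻¹ by group, ← hz', hgz]
  have hc2Z : c2 * dg z z = dg z z * c2 := by
    rw [hc2v, dg_mul, dg_mul, hgD, mul_assoc _ (scl κ μ), scl_comm hμ z, ← mul_assoc, hgD, mul_assoc z]
  obtain ⟨r1, hr1, -, he⟩ := hall (dg z z) hz (by rw [dg_mul, hzz, dg_one]) (fun h => hzns (B.dg_scalar h).1)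
    c2 hc2H hc2Z sw B.sw_mem (by rw [sw_dg])
  have hval : c2 * sw * c2⁻¹ = dg (scl κ μ) (scl κ μ⁻¹) * sw := by
    rw [hc2v, dg_inv, mul_assoc, sw_dg, ← mul_assoc, dg_mul, ← scl_inv hμ]
    congr 2
    · rw [← scl_comm hμ (g * D), mul_inv_cancel_right]
    · rw [_root_.mul_inv_rev, ← mul_assoc, scalar_conj (inv_mem (scl_mem_scalars hμ)) (g * D)]
  rw [hval, one_add_dg, Units.val_mul, dg_val, sw_val, Matrix.fromBlocks_multiply, Matrix.fromBlocks_multiply] at he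
  simp only [Matrix.mul_zero, Matrix.zero_mul, add_zero, zero_add, Matrix.mul_one] at he
  have hz1 : ∀ u : GL κ F, (u : Matrix κ κ F) * (1 + (z : Matrix κ κ F)) ≠ 0 := fun u h => hzns (by
    have h1 := congrArg (((u⁻¹ : GL κ F) : Matrix κ κ F) * ·) h
    simp only [← mul_assoc, Units.inv_mul, one_mul, mul_zero] at h1
    have h2 : z = -1 := Units.ext (by rw [Units.val_neg, Units.val_one]; exact (eq_neg_of_add_eq_zero_right h1))
    rw [h2]; exact S'.neg_scalar)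
  obtain ⟨C, -, E, hE, e | e⟩ := B.elt_cases hr1
  · rw [e, dg_val, Matrix.fromBlocks_multiply, Matrix.fromBlocks_inj] at he
    exact absurd (by simpa using he.2.1) (hz1 (scl κ μ))
  rw [e, Units.val_mul, dg_val, sw_val, Matrix.fromBlocks_multiply, Matrix.fromBlocks_multiply,
    Matrix.fromBlocks_inj] at he
  simp only [Matrix.mul_zero, Matrix.zero_mul, add_zero, zero_add, Matrix.mul_one] at he
  obtain ⟨-, h12, h21, -⟩ := he
  rw [scl_val hμ, smul_mul_assoc, one_mul] at h12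
  rw [scl_val (inv_ne_zero hμ), smul_mul_assoc, one_mul] at h21
  have hz0' : (1 : Matrix κ κ F) + (z : Matrix κ κ F) ≠ 0 := fun h => hz1 1 (by rw [h, mul_zero])
  rcases hE with rfl | rfl
  · left
    rw [smul_left_injective F hz0' (h21.trans h12.symm)]
  · right
    rw [Units.val_neg, neg_mul, ← h12, ← neg_smul] at h21
    rw [smul_left_injective F hz0' h21]
    exact Units.ext (by rw [scl_val (neg_ne_zero.2 hμ), Units.val_neg, scl_val hμ, neg_smul])

end Blocks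

end CfsgLib.Classical22.C6Four
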