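/-
Every involution of the group gives coordinates in two blocks, again with the zero or the standard Hermitian form.
-/
import Cfsg.Agent.Lib.Classical22.C6Four.Kinds
import Cfsg.Agent.S0755

set_option autoImplicit false
set_option maxHeartbeats 800000

namespace CfsgLib.Classical22.C6Four

open Matrix CfsgLib.Transvec.Unitary
open scoped MatrixGroups Classical

variable {ι : Type} [Fintype ι] [DecidableEq ι] {κ : Type} [Fintype κ] [DecidableEq κ] {F : Type*} [Field F]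
  {P : Matrix ι κ F} {P' : Matrix κ ι F}

/-- The form in new coordinates. -/
def pull (P : Matrix ι κ F) (f : (ι → F) → (ι → F) → F) (u v : κ → F) : F := f (P *ᵥ u) (P *ᵥ v)

lemma Chart.pull_map (h : Chart P P') (f : (ι → F) → (ι → F) → F) (g : GL ι F) (u v : κ → F) :
    pull P f ((h.map g : Matrix κ κ F) *ᵥ u) ((h.map g : Matrix κ κ F) *ᵥ v) =
      f ((g : Matrix ι ι F) *ᵥ (P *ᵥ u)) ((g : Matrix ι ι F) *ᵥ (P *ᵥ v)) := by
  rw [pull, h.mulVec, h.mulVec]

lemma Chart.sign4 (h : Chart P P') {R : Subgroup (GL ι F)} {m : ℕ} {i : F} (S : Sign4 R m i) :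
    Sign4 (R.map h.map.toMonoidHom) m i where
  nonempty := by
    by_contra hc
    rw [not_nonempty_iff] at hc
    obtain ⟨j⟩ := S.nonempty
    have := congrFun (congrFun h.left j) j
    rw [Matrix.mul_apply] at this
    simp at this
  two_ne := S.two_ne
  sqi := S.sqi
  mem_i := ⟨_, S.mem_i, h.map_scl S.i_ne⟩
  sq := by
    rintro _ ⟨a, ha, rfl⟩
    rcases S.sq a ha with e | e
    · left; rw [MulEquiv.coe_toMonoidHom, ← map_mul, e, map_one]
    · right; rw [MulEquiv.coe_toMonoidHom, ← map_mul, e, h.map_neg, map_one]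
  comm := by
    rintro _ ⟨a, ha, rfl⟩ _ ⟨b, hb, rfl⟩
    rcases S.comm a ha b hb with e | e
    · left; rw [MulEquiv.coe_toMonoidHom, ← map_mul, e, map_mul]
    · right; rw [MulEquiv.coe_toMonoidHom, ← map_mul, e, h.map_neg, map_mul]
  irr := by
    refine ⟨fun W hW => ?_, fun M hM => ?_⟩
    · rcases S.irr.1 (W.map (Matrix.toLin' P)) (by
        rintro _ ⟨r, hr, rfl⟩
        rintro _ ⟨_, ⟨w, hw, rfl⟩, rfl⟩
        refine ⟨(h.map r : Matrix κ κ F) *ᵥ w, ?_, ?_⟩
        · have := hW _ ⟨_, ⟨r, hr, rfl⟩, rfl⟩ (Submodule.mem_map_of_mem hw)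
          rwa [Matrix.toLin'_apply] at this
        · rw [Matrix.toLin'_apply, Matrix.toLin'_apply, Matrix.toLin'_apply, h.mulVec]) with e | e
      · left
        refine (Submodule.eq_bot_iff _).2 fun w hw => ?_
        have h1 := Submodule.mem_map_of_mem (f := Matrix.toLin' P) hw
        rw [e, Submodule.mem_bot, Matrix.toLin'_apply] at h1
        have h2 := congrArg (P' *ᵥ ·) h1
        simpa [Matrix.mulVec_mulVec, h.right] using h2
      · right
        refine eq_top_iff.2 fun w _ => ?_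
        obtain ⟨v, hv, hvw⟩ : P *ᵥ w ∈ W.map (Matrix.toLin' P) := e ▸ Submodule.mem_top
        rw [Matrix.toLin'_apply] at hvw
        have h2 := congrArg (P' *ᵥ ·) hvw
        simp only [Matrix.mulVec_mulVec, h.right, Matrix.one_mulVec] at h2
        exact h2 ▸ hv
    · obtain ⟨c, hc⟩ := S.irr.2 (P * M * P') (by
        rintro _ ⟨r, hr, rfl⟩
        have h1 := hM _ ⟨_, ⟨r, hr, rfl⟩, rfl⟩
        simp only [MulEquiv.coe_toMonoidHom, h.map_val] at h1
        have h2 := congrArg (fun X => P * X * P') h1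
        simp only [← Matrix.mul_assoc, h.left, Matrix.one_mul] at h2
        rw [Matrix.mul_assoc _ P P', h.left, Matrix.mul_one] at h2
        rw [h2]
        simp only [← Matrix.mul_assoc])
      refine ⟨c, ?_⟩
      have h2 := congrArg (fun X => P' * X * P) hc
      simp only [← Matrix.mul_assoc, h.right, Matrix.one_mul, Matrix.mul_smul, Matrix.mul_one, Matrix.smul_mul] at h2
      rwa [Matrix.mul_assoc M, h.right, Matrix.mul_one] at h2
  card := by
    rw [← S.card]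
    exact (Nat.card_congr (R.equivMapOfInjective h.map.toMonoidHom h.map.injective).toEquiv).symm
  two_le := S.two_le

lemma Chart.form (h : Chart P P') {R : Subgroup (GL ι F)} {i : F} {σ : F →+* F} {f : (ι → F) → (ι → F) → F}
    (hf : Form R i σ f) : Form (R.map h.map.toMonoidHom) i σ (pull P f) where
  add_left u v w := by simp only [pull, Matrix.mulVec_add, hf.add_left]
  add_right u v w := by simp only [pull, Matrix.mulVec_add, hf.add_right]
  smul_left c u v := by simp only [pull, Matrix.mulVec_smul, hf.smul_left]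
  smul_right c u v := by simp only [pull, Matrix.mulVec_smul, hf.smul_right]
  iso := by
    rintro _ ⟨r, hr, rfl⟩ u v
    rw [MulEquiv.coe_toMonoidHom, h.pull_map, hf.iso r hr]
    rfl
  unit u v := hf.unit _ _

variable [Fintype F]

lemma Chart.map_mem_amb (h : Chart P P') {f : (ι → F) → (ι → F) → F} {g : GL ι F} :
    h.map g ∈ amb (pull P f) ↔ g ∈ amb f := by
  rw [mem_amb, mem_amb, h.det_map]
  refine and_congr_left fun _ => ⟨fun e u v => ?_, fun e u v => ?_⟩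
  · have := e (P' *ᵥ u) (P' *ᵥ v)
    rw [h.pull_map, pull] at this
    simpa [Matrix.mulVec_mulVec, h.left] using this
  · rw [h.pull_map, e]
    rfl

lemma Chart.map_normalizer (h : Chart P P') {R : Subgroup (GL ι F)} {g : GL ι F} :
    h.map g ∈ Cfsg.Geo.subgroupNormalizer (R.map h.map.toMonoidHom) ↔ g ∈ Cfsg.Geo.subgroupNormalizer R := by
  haveI : Finite (GL κ F) := inferInstance
  refine ⟨fun hg => Subgroup.mem_normalizer_iff.2 fun r => ?_, fun hg =>
    CfsgLib.Solvable.mem_normalizer_of_conj_mem ?_⟩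
  · have e : ∀ u, h.map u ∈ R.map h.map.toMonoidHom ↔ u ∈ R := fun u =>
      Subgroup.mem_map_iff_mem (f := h.map.toMonoidHom) h.map.injective
    rw [← e r, ← e (g * r * g⁻¹), map_mul, map_mul, map_inv]
    exact Subgroup.mem_normalizer_iff.1 hg (h.map r)
  · rintro _ ⟨r, hr, rfl⟩
    exact ⟨_, (Subgroup.mem_normalizer_iff.1 hg r).1 hr, by simp⟩

/-- An orthonormal basis of a Hermitian form. -/
lemma exists_orthonormal {d : ℕ} {τ : F ≃+* F} {g : (Fin d → F) → (Fin d → F) → F}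
    (hg : Cfsg.Geo.IsUnitaryForm τ g) :
    ∃ Q : GL (Fin d) F, ∀ a b, g ((Q : Matrix (Fin d) (Fin d) F) *ᵥ Pi.single a 1)
      ((Q : Matrix (Fin d) (Fin d) F) *ᵥ Pi.single b 1) = if a = b then 1 else 0 := by
  obtain ⟨B, hB⟩ : ∃ B : (Fin d → F) →ₛₗ[τ.toRingHom] (Fin d → F) →ₗ[F] F, ∀ u v, B u v = g v u :=
    ⟨LinearMap.mk₂'ₛₗ _ _ (fun u v => g v u) (fun u u' v => add_right' hg v u u') (fun c u v => smul_right' hg c v u)
      (fun u v v' => hg.add_left v v' u) (fun c u v => hg.smul_left c v u), fun u v => rfl⟩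
  have hne : τ.toRingHom ≠ RingHom.id F := fun h => hg.ne_refl (RingEquiv.ext fun a => RingHom.congr_fun h a)
  obtain ⟨b, hb⟩ := Cfsg.Agent.S0755.result τ.toRingHom hne hg.involutive B
    ⟨fun u v => by rw [hB, hB]; exact (hg.herm u v).symm⟩
    ⟨fun u hu => by
      by_contra h
      obtain ⟨⟨x, hx⟩, -⟩ := hg.nondegenerate u h
      exact hx ((hB u x).symm.trans (hu x)),
    fun v hv => by
      by_contra h
      obtain ⟨-, ⟨x, hx⟩⟩ := hg.nondegenerate v h
      exact hx ((hB x v).symm.trans (hv x))⟩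
  have hd : Module.finrank F (Fin d → F) = d := Module.finrank_fin_fun F
  let b' := b.reindex (finCongr hd)
  let E : (Fin d → F) ≃ₗ[F] (Fin d → F) := b'.equivFun.symm
  refine ⟨⟨LinearMap.toMatrix' E.toLinearMap, LinearMap.toMatrix' E.symm.toLinearMap,
    by rw [← LinearMap.toMatrix'_comp, LinearEquiv.comp_coe, LinearEquiv.symm_trans_self,
      LinearEquiv.refl_toLinearMap, LinearMap.toMatrix'_id],
    by rw [← LinearMap.toMatrix'_comp, LinearEquiv.comp_coe, LinearEquiv.self_trans_symm,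
      LinearEquiv.refl_toLinearMap, LinearMap.toMatrix'_id]⟩, fun a a' => ?_⟩
  have hE : ∀ a, E (Pi.single a 1) = b (Fin.cast hd.symm a) := fun a => by
    simp [E, b', Module.Basis.equivFun_symm_apply, Pi.single_apply]
  change g (LinearMap.toMatrix' E.toLinearMap *ᵥ Pi.single a 1) (LinearMap.toMatrix' E.toLinearMap *ᵥ Pi.single a' 1) = _
  rw [LinearMap.toMatrix'_mulVec, LinearMap.toMatrix'_mulVec, LinearEquiv.coe_coe, hE, hE, ← hB, hb]
  by_cases h : a = a'
  · subst h; simp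
  · rw [if_neg h, if_neg]
    intro h'
    exact h (Fin.cast_injective _ h'.symm)

/-- Coordinates in two blocks at an involution. -/
theorem exists_blocks {R : Subgroup (GL ι F)} {m : ℕ} {i : F} (S : Sign4 R m i) (h3 : 3 ≤ m) {σ : F →+* F}
    {f : (ι → F) → (ι → F) → F} (hf : Form R i σ f) (hstd : Std f) {x : GL ι F} (hx : x ∈ R) (hxx : x * x = 1)
    (hns : x ∉ Cfsg.Geo.scalars ι F) :
    ∃ (d : ℕ) (P : Matrix ι (Fin d ⊕ Fin d) F) (P' : Matrix (Fin d ⊕ Fin d) ι F) (h : Chart P P')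
      (f' : (Fin d → F) → (Fin d → F) → F),
      Blocks (R.map h.map.toMonoidHom) m i σ (pull P f) f' ∧ Std (pull P f) ∧ h.map x = sgn := by
  obtain ⟨w, hw, hwx⟩ := S.partner hx hns
  obtain ⟨y, hy, -, -, hyy, -, hyw, -⟩ := S.exists_lift hw
  have hyx : CfsgLib.Classical22.C6Plus.bv y x = 1 := by
    rcases hyw with rfl | rfl
    · exact hwx
    · rw [S.bv_mul S.mem_i hw hx, S.bv_i, zero_add, hwx]
  obtain ⟨d, P, P', h, -, hX, hY⟩ := exists_chart S.two_ne hxx hyy (by rw [(S.bv_eq_one hy hx).1 hyx, neg_neg])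
  obtain ⟨g', hg'⟩ : ∃ g' : (Fin d → F) → (Fin d → F) → F,
      ∀ u v, g' u v = pull P f (Sum.elim u 0) (Sum.elim v 0) := ⟨_, fun _ _ => rfl⟩
  have hX' : h.map x = sgn := Units.ext (by rw [hX, sgn, dg_val]; simp)
  have hY' : h.map y = sw := Units.ext (by rw [hY, sw_val])
  have hF := h.form hf
  have hxm : (sgn : GL (Fin d ⊕ Fin d) F) ∈ R.map h.map.toMonoidHom := ⟨x, hx, hX'⟩
  have hym : (sw : GL (Fin d ⊕ Fin d) F) ∈ R.map h.map.toMonoidHom := ⟨y, hy, hY'⟩
  obtain ⟨f2, hf2⟩ : ∃ f2, f2 = pull P f := ⟨_, rfl⟩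
  rw [← hf2] at hF hg'
  have hsplit : ∀ u v, f2 u v = g' (u ∘ Sum.inl) (v ∘ Sum.inl) + g' (u ∘ Sum.inr) (v ∘ Sum.inr) := by
    intro u v
    have hu : ∀ w : Fin d ⊕ Fin d → F, w = Sum.elim (w ∘ Sum.inl) (0 : Fin d → F) + Sum.elim (0 : Fin d → F) (w ∘ Sum.inr) := fun w => by
      funext j; cases j <;> simp
    have hcr : ∀ a b : Fin d → F, f2 (Sum.elim a 0) (Sum.elim 0 b) = 0 ∧ f2 (Sum.elim 0 b) (Sum.elim a 0) = 0 := by
      intro a b
      have hs1 : ((sgn : GL (Fin d ⊕ Fin d) F) : Matrix (Fin d ⊕ Fin d) (Fin d ⊕ Fin d) F) *ᵥ Sum.elim a (0 : Fin d → F) = Sum.elim a 0 := by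
        rw [sgn, dg_mulVec]; simp
      have hs2 : ((sgn : GL (Fin d ⊕ Fin d) F) : Matrix (Fin d ⊕ Fin d) (Fin d ⊕ Fin d) F) *ᵥ Sum.elim (0 : Fin d → F) b =
          (-1 : F) • Sum.elim (0 : Fin d → F) b := by
        rw [sgn, dg_mulVec]
        funext j; cases j <;> simp [Matrix.neg_mulVec]
      have e1 := hF.iso _ hxm (Sum.elim a 0) (Sum.elim 0 b)
      have e2 := hF.iso _ hxm (Sum.elim 0 b) (Sum.elim a 0)
      rw [hs1, hs2, hF.smul_right, map_neg, map_one, neg_one_mul] at e1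
      rw [hs1, hs2, hF.smul_left, neg_one_mul] at e2
      exact ⟨CfsgLib.Classical22.C6Plus.two_smul_eq_zero S.two_ne e1.symm,
        CfsgLib.Classical22.C6Plus.two_smul_eq_zero S.two_ne e2.symm⟩
    have hsw : ∀ a b : Fin d → F, f2 (Sum.elim 0 a) (Sum.elim 0 b) = g' a b := fun a b => by
      rw [hg', ← hF.iso _ hym, sw_mulVec, sw_mulVec]
      simp
    conv_lhs => rw [hu u, hu v]
    rw [hF.add_left, hF.add_right, hF.add_right, (hcr _ _).1, (hcr _ _).2, hsw, ← hg' (u ∘ Sum.inl) (v ∘ Sum.inl)]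
    ring
  rcases hstd with h0 | ⟨τ, hτ, -⟩
  · exact ⟨d, P, P', h, g', ⟨h.sign4 S, h3, hf2 ▸ hF, hxm, hym, hf2 ▸ hsplit⟩,
      Or.inl fun u v => h0 _ _, hX'⟩
  have hgu : Cfsg.Geo.IsUnitaryForm τ g' := by
    have hPi : ∀ u, P *ᵥ u = 0 → u = 0 := fun u hu => by
      have := congrArg (P' *ᵥ ·) hu
      simpa [Matrix.mulVec_mulVec, h.right] using this
    refine ⟨hτ.ne_refl, hτ.involutive, fun a b c => ?_, fun s a b => ?_, fun a b => ?_, fun v hv => ?_⟩
    · rw [hg', hg', hg', ← hF.add_left]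
      congr 1
      funext j; cases j <;> simp
    · rw [hg', hg', ← hF.smul_left]
      congr 1
      funext j; cases j <;> simp
    · rw [hg', hg', hf2]
      exact hτ.herm _ _
    · obtain ⟨⟨z, hz⟩, ⟨z', hz'⟩⟩ := hτ.nondegenerate (P *ᵥ Sum.elim v 0) fun e => hv (by
        rw [← Sum.elim_comp_inl v (0 : Fin d → F), hPi _ e]; rfl)
      have hpz : ∀ z, P *ᵥ (P' *ᵥ z) = z := fun z => by rw [Matrix.mulVec_mulVec, h.left, Matrix.one_mulVec]
      have h00 : ∀ w, g' 0 w = 0 ∧ g' w 0 = 0 := fun w => by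
        have e1 := hF.smul_left 0 (Sum.elim (0 : Fin d → F) 0) (Sum.elim w 0)
        have e2 := hF.smul_right 0 (Sum.elim w 0) (Sum.elim (0 : Fin d → F) 0)
        rw [zero_mul, zero_smul] at e1
        rw [map_zero, zero_mul, zero_smul] at e2
        rw [hg', hg', Sum.elim_zero_zero]
        exact ⟨e1, e2⟩
      refine ⟨⟨(P' *ᵥ z) ∘ Sum.inl, ?_⟩, ⟨(P' *ᵥ z') ∘ Sum.inl, ?_⟩⟩
      · have := hsplit (P' *ᵥ z) (Sum.elim v 0)
        rw [Sum.elim_comp_inl, Sum.elim_comp_inr, (h00 _).2, add_zero] at this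
        rw [← this, hf2, pull, hpz]
        exact hz
      · have := hsplit (Sum.elim v 0) (P' *ᵥ z')
        rw [Sum.elim_comp_inl, Sum.elim_comp_inr, (h00 _).1, add_zero] at this
        rw [← this, hf2, pull, hpz]
        exact hz'
  obtain ⟨Q, hQ⟩ := exists_orthonormal hgu
  obtain ⟨M, hM⟩ : ∃ M, M = (dg Q Q : Matrix (Fin d ⊕ Fin d) (Fin d ⊕ Fin d) F) := ⟨_, rfl⟩
  obtain ⟨N, hNdef⟩ : ∃ N, N = (((dg Q Q)⁻¹ : GL (Fin d ⊕ Fin d) F) : Matrix (Fin d ⊕ Fin d) (Fin d ⊕ Fin d) F) :=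
    ⟨_, rfl⟩
  have hMN : M * N = 1 := by rw [hM, hNdef, Units.mul_inv]
  have hNM : N * M = 1 := by rw [hM, hNdef, Units.inv_mul]
  have h' : Chart (P * M) (N * P') :=
    ⟨by rw [Matrix.mul_assoc, ← Matrix.mul_assoc M, hMN, Matrix.one_mul, h.left],
     by rw [Matrix.mul_assoc, ← Matrix.mul_assoc P', h.right, Matrix.one_mul, hNM]⟩
  have hmap : ∀ g, h'.map g = (dg Q Q)⁻¹ * h.map g * dg Q Q := fun g => Units.ext (by
    rw [Units.val_mul, Units.val_mul, ← hM, ← hNdef, h.map_val, h'.map_val]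
    simp only [Matrix.mul_assoc])
  have hX2 : h'.map x = sgn := by rw [hmap, hX', mul_assoc, ← dg_sgn, inv_mul_cancel_left]
  have hY2 : h'.map y = sw := by rw [hmap, hY', mul_assoc, sw_dg, inv_mul_cancel_left]
  obtain ⟨g2, hg2⟩ : ∃ g2 : (Fin d → F) → (Fin d → F) → F, ∀ u v,
      g2 u v = g' ((Q : Matrix (Fin d) (Fin d) F) *ᵥ u) ((Q : Matrix (Fin d) (Fin d) F) *ᵥ v) := ⟨_, fun _ _ => rfl⟩
  have hpull : ∀ u v, pull (P * M) f u v =
      f2 ((dg Q Q : Matrix (Fin d ⊕ Fin d) (Fin d ⊕ Fin d) F) *ᵥ u)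
        ((dg Q Q : Matrix (Fin d ⊕ Fin d) (Fin d ⊕ Fin d) F) *ᵥ v) := fun u v => by
    rw [hf2, pull, pull, ← hM, ← Matrix.mulVec_mulVec, ← Matrix.mulVec_mulVec]
  have hsplit2 : ∀ u v, pull (P * M) f u v =
      g2 (u ∘ Sum.inl) (v ∘ Sum.inl) + g2 (u ∘ Sum.inr) (v ∘ Sum.inr) := fun u v => by
    rw [hpull, hsplit, dg_mulVec, dg_mulVec, hg2, hg2, Sum.elim_comp_inl, Sum.elim_comp_inl, Sum.elim_comp_inr,
      Sum.elim_comp_inr]
  refine ⟨d, _, _, h', g2, ⟨h'.sign4 S, h3, h'.form hf, ⟨x, hx, hX2⟩, ⟨y, hy, hY2⟩, hsplit2⟩,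
    Or.inr ⟨τ, ?_, fun a b => ?_⟩, hX2⟩
  · refine ⟨hτ.ne_refl, hτ.involutive, (h'.form hf).add_left, (h'.form hf).smul_left, fun u v => hτ.herm _ _,
      fun v hv => ?_⟩
    obtain ⟨⟨z, hz⟩, ⟨z', hz'⟩⟩ := hτ.nondegenerate ((P * M) *ᵥ v) fun e => hv (by
      have := congrArg ((N * P') *ᵥ ·) e
      simpa [Matrix.mulVec_mulVec, h'.right] using this)
    refine ⟨⟨(N * P') *ᵥ z, ?_⟩,
      ⟨(N * P') *ᵥ z', ?_⟩⟩ <;>
      simp only [pull, Matrix.mulVec_mulVec, h'.left, Matrix.one_mulVec]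
    exacts [hz, hz']
  · rw [hsplit2]
    have h00 : g2 0 0 = 0 := by
      rw [hg2, Matrix.mulVec_zero]
      exact zero_left' hgu _
    have h01 : ∀ w, g2 0 w = 0 ∧ g2 w 0 = 0 := fun w => by
      rw [hg2, hg2, Matrix.mulVec_zero]
      exact ⟨zero_left' hgu _, zero_right' hgu _⟩
    have hl : ∀ a : Fin d, (Pi.single (Sum.inl a) 1 : Fin d ⊕ Fin d → F) ∘ Sum.inl = Pi.single a 1 ∧
        (Pi.single (Sum.inl a) 1 : Fin d ⊕ Fin d → F) ∘ Sum.inr = 0 := fun a =>
      ⟨funext fun j => by simp [Pi.single_apply], funext fun j => by simp [Pi.single_apply]⟩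
    have hr : ∀ a : Fin d, (Pi.single (Sum.inr a) 1 : Fin d ⊕ Fin d → F) ∘ Sum.inr = Pi.single a 1 ∧
        (Pi.single (Sum.inr a) 1 : Fin d ⊕ Fin d → F) ∘ Sum.inl = 0 := fun a =>
      ⟨funext fun j => by simp [Pi.single_apply], funext fun j => by simp [Pi.single_apply]⟩
    rcases a with a | a <;> rcases b with b | b
    · rw [(hl a).1, (hl a).2, (hl b).1, (hl b).2, h00, add_zero, hg2, hQ]; simp
    · rw [(hl a).1, (hl a).2, (hr b).1, (hr b).2, (h01 _).1, (h01 _).2, add_zero, if_neg Sum.inl_ne_inr]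
    · rw [(hr a).1, (hr a).2, (hl b).1, (hl b).2, (h01 _).1, (h01 _).2, add_zero, if_neg Sum.inr_ne_inl]
    · rw [(hr a).1, (hr a).2, (hr b).1, (hr b).2, h00, zero_add, hg2, hQ]; simp

end CfsgLib.Classical22.C6Four
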