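/-
The normaliser is maximal in the group of the form, by induction on the rank from rank two.
-/
import Cfsg.Agent.Lib.Classical22.C6Four.Step
import Cfsg.Agent.Lib.Classical22.C6Four.Transport

set_option autoImplicit false
set_option maxHeartbeats 800000

namespace CfsgLib.Classical22.C6Four

open Matrix CfsgLib.Classical22.C6Plus
open scoped MatrixGroups Classical

variable {ι : Type} [Fintype ι] [DecidableEq ι] {κ : Type} [Fintype κ] [DecidableEq κ] {F : Type*} [Field F]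
  {P : Matrix ι κ F} {P' : Matrix κ ι F}

lemma HalfN.conj {H R : Subgroup (GL ι F)} {x n : GL ι F} (h : HalfN H R x) (hnH : n ∈ H)
    (hn : n ∈ Cfsg.Geo.subgroupNormalizer R) : HalfN H R (n * x * n⁻¹) := by
  intro g hg hgx r hr hrx
  have hback : ∀ u : GL ι F, u * (n * x * n⁻¹) = (n * x * n⁻¹) * u → n⁻¹ * u * n * x = x * (n⁻¹ * u * n) :=
    fun u hu => by
      calc n⁻¹ * u * n * x = n⁻¹ * (u * (n * x * n⁻¹)) * n := by group
        _ = n⁻¹ * ((n * x * n⁻¹) * u) * n := by rw [hu]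
        _ = x * (n⁻¹ * u * n) := by group
  have hrR : n⁻¹ * r * n ∈ R := by
    have := (Subgroup.mem_normalizer_iff.1 (inv_mem hn) r).1 hr
    rwa [inv_inv] at this
  obtain ⟨r1, hr1, hr1x, he⟩ := h _ (mul_mem (mul_mem (inv_mem hnH) hg) hnH) (hback g hgx) _ hrR (hback r hrx)
  refine ⟨n * r1 * n⁻¹, (Subgroup.mem_normalizer_iff.1 hn r1).1 hr1, ?_, ?_⟩
  · calc n * r1 * n⁻¹ * (n * x * n⁻¹) = n * (r1 * x) * n⁻¹ := by group
      _ = n * (x * r1) * n⁻¹ := by rw [hr1x]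
      _ = n * x * n⁻¹ * (n * r1 * n⁻¹) := by group
  have hx : (1 : Matrix ι ι F) + ((n * x * n⁻¹ : GL ι F) : Matrix ι ι F) =
      (n : Matrix ι ι F) * (1 + (x : Matrix ι ι F)) * ((n⁻¹ : GL ι F) : Matrix ι ι F) := by
    rw [mul_add, mul_one, add_mul, Units.mul_inv, Units.val_mul, Units.val_mul]
  have e1 : g * r * g⁻¹ = n * (n⁻¹ * g * n * (n⁻¹ * r * n) * (n⁻¹ * g * n)⁻¹) * n⁻¹ := by group
  obtain ⟨G, hG⟩ : ∃ G, G = n⁻¹ * g * n * (n⁻¹ * r * n) * (n⁻¹ * g * n)⁻¹ := ⟨_, rfl⟩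
  rw [← hG] at he e1
  rw [hx, e1]
  simp only [Units.val_mul, mul_assoc, Units.inv_mul_cancel_left]
  rw [← mul_assoc (G : Matrix ι ι F), he, mul_assoc]

lemma Chart.halfN_map (h : Chart P P') {H R : Subgroup (GL ι F)} {x : GL ι F} :
    HalfN (H.map h.map.toMonoidHom) (R.map h.map.toMonoidHom) (h.map x) ↔ HalfN H R x := by
  have hval : ∀ a : GL ι F, (h.map a : Matrix κ κ F) * (1 + (h.map x : Matrix κ κ F)) =
      P' * ((a : Matrix ι ι F) * (1 + (x : Matrix ι ι F))) * P := fun a => by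
    rw [h.map_val, h.map_val, Matrix.mul_add, Matrix.mul_one, Matrix.mul_add, Matrix.mul_one, Matrix.mul_add,
      Matrix.add_mul]
    congr 1
    rw [← h.map_val, ← h.map_val, ← Units.val_mul, ← map_mul, h.map_val, Units.val_mul]
  refine ⟨fun hh g hg hgx r hr hrx => ?_, fun hh => ?_⟩
  · obtain ⟨_, ⟨r1, hr1, rfl⟩, hr1x, he⟩ := hh (h.map g) ⟨g, hg, rfl⟩ (by rw [← map_mul, hgx, map_mul]) (h.map r)
      ⟨r, hr, rfl⟩ (by rw [← map_mul, hrx, map_mul])
    rw [MulEquiv.coe_toMonoidHom, ← map_mul, ← map_mul] at hr1x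
    refine ⟨r1, hr1, h.map.injective hr1x, ?_⟩
    rw [MulEquiv.coe_toMonoidHom, ← map_inv, ← map_mul, ← map_mul, hval, hval] at he
    have h2 := congrArg (fun X => P * X * P') he
    simpa only [← Matrix.mul_assoc, h.left, Matrix.one_mul, Matrix.mul_assoc _ P P', Matrix.mul_one] using h2
  · rintro _ ⟨g, hg, rfl⟩ hgx _ ⟨r, hr, rfl⟩ hrx
    rw [MulEquiv.coe_toMonoidHom, ← map_mul, ← map_mul] at hgx hrx
    obtain ⟨r1, hr1, hr1x, he⟩ := hh g hg (h.map.injective hgx) r hr (h.map.injective hrx)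
    refine ⟨h.map r1, ⟨r1, hr1, rfl⟩, by rw [← map_mul, hr1x, map_mul], ?_⟩
    rw [MulEquiv.coe_toMonoidHom, ← map_inv, ← map_mul, ← map_mul, hval, hval, he]

lemma Chart.scalar_map (h : Chart P P') {g : GL ι F} (hg : g ∈ Cfsg.Geo.scalars ι F) :
    h.map g ∈ Cfsg.Geo.scalars κ F := by
  obtain ⟨c, hc, rfl⟩ := exists_scl hg
  rw [h.map_scl hc]; exact scl_mem_scalars hc

variable [Fintype F]

/-- The base of the induction. -/
def BaseCase (lin : Prop) (i : F) (σ : F →+* F) : Prop :=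
  ∀ (n : ℕ) (R : Subgroup (GL (Fin n) F)) (f : (Fin n → F) → (Fin n → F) → F), Sign4 R 2 i → Form R i σ f → Std f →
    ((∀ u v, f u v = 0) ↔ lin) → ∀ H : Subgroup (GL (Fin n) F), Cfsg.Geo.subgroupNormalizer R ⊓ amb f ≤ H → H ≤ amb f →
      H ≤ Cfsg.Geo.subgroupNormalizer R ∨ amb f ≤ H

/-- One step of the induction, for any index set. -/
theorem step {m : ℕ} {lin : Prop} {i : F} {σ : F →+* F} (h3 : 3 ≤ m)
    (ih : ∀ (n : ℕ) (R : Subgroup (GL (Fin n) F)) (f : (Fin n → F) → (Fin n → F) → F),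
      Sign4 R (m - 1) i → Form R i σ f → Std f → ((∀ u v, f u v = 0) ↔ lin) → ∀ H : Subgroup (GL (Fin n) F),
      Cfsg.Geo.subgroupNormalizer R ⊓ amb f ≤ H → H ≤ amb f → H ≤ Cfsg.Geo.subgroupNormalizer R ∨ amb f ≤ H)
    {R : Subgroup (GL ι F)} {f : (ι → F) → (ι → F) → F} (S : Sign4 R m i) (hf : Form R i σ f) (hstd : Std f)
    (hlin : (∀ u v, f u v = 0) ↔ lin) {H : Subgroup (GL ι F)} (hN : Cfsg.Geo.subgroupNormalizer R ⊓ amb f ≤ H) (hH : H ≤ amb f) :
    H ≤ Cfsg.Geo.subgroupNormalizer R ∨ amb f ≤ H := by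
  have hmapN : ∀ {d : ℕ} {Q : Matrix ι (Fin d ⊕ Fin d) F} {Q' : Matrix (Fin d ⊕ Fin d) ι F} (h : Chart Q Q'),
      Cfsg.Geo.subgroupNormalizer (R.map h.map.toMonoidHom) ⊓ amb (pull Q f) ≤ H.map h.map.toMonoidHom ∧
        H.map h.map.toMonoidHom ≤ amb (pull Q f) := by
    intro d Q Q' h
    refine ⟨fun g hg => ?_, ?_⟩
    · obtain ⟨g0, rfl⟩ := h.map.surjective g
      exact ⟨g0, hN ⟨h.map_normalizer.1 hg.1, h.map_mem_amb.1 hg.2⟩, rfl⟩
    · rintro _ ⟨g, hg, rfl⟩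
      exact h.map_mem_amb.2 (hH hg)
  obtain ⟨r, hr, hrs⟩ := S.exists_nonscalar
  obtain ⟨x0, hx0, -, -, hx00, -, hx0c, -⟩ := S.exists_lift hr
  have hx0s : x0 ∉ Cfsg.Geo.scalars ι F := fun h => hrs (by
    have := mul_mem h (inv_mem (S.class_of_lift hx0c))
    rwa [_root_.mul_inv_rev, inv_inv, mul_inv_cancel_left] at this)
  obtain ⟨d, Q, Q', h, f', B, hstd', hsgn⟩ := exists_blocks S h3 hf hstd hx0 hx00 hx0s
  have hzero : (∀ u v, f' u v = 0) → ∀ u v, f u v = 0 := fun h0 u v => by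
    have h1 := B.split (Q' *ᵥ u) (Q' *ᵥ v)
    rwa [h0, h0, add_zero, pull, Matrix.mulVec_mulVec, Matrix.mulVec_mulVec, h.left, Matrix.one_mulVec,
      Matrix.one_mulVec] at h1
  rcases B.dichotomy hstd' (hmapN h).2 (hmapN h).1
      (fun H' a b => ih d _ f' B.half_sign B.half_form (B.half_std hstd') (Iff.trans ⟨hzero,
        fun h0 u v => B.zero_half (fun x y => h0 _ _) u v⟩ hlin) H' a b) with hpart | hfull
  swap
  · right
    intro g hg
    obtain ⟨g0, hg0, he⟩ := hfull (h.map_mem_amb.2 hg)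
    exact h.map.injective he ▸ hg0
  left
  have hbase : HalfN H R x0 := h.halfN_map.1 (hsgn ▸ B.halfN_of_norm hpart)
  have hall : ∀ x ∈ R, x * x = 1 → x ∉ Cfsg.Geo.scalars ι F → HalfN H R x := by
    intro x hx hxx hxs
    obtain ⟨n, hn, hnx, hnamb⟩ := S.exists_move hx0 hx hx0s hxs
    have hnH : n ∈ H := hN ⟨hn, hnamb σ f hf⟩
    obtain ⟨c, hc, hce⟩ := exists_scl hnx
    obtain ⟨X, hX⟩ : ∃ X, X = n * x0 * n⁻¹ := ⟨_, rfl⟩
    rw [← hX] at hce
    have hxX : x = X * scl ι c := by rw [← hce, mul_inv_cancel_left]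
    have hXX : X * X = 1 := by
      rw [hX, show n * x0 * n⁻¹ * (n * x0 * n⁻¹) = n * (x0 * x0) * n⁻¹ by group, hx00, mul_one, mul_inv_cancel]
    have hc2 : scl ι c * scl ι c = 1 := by
      have h' := hxx
      rw [hxX, mul_assoc X, ← mul_assoc (scl ι c), scl_comm hc X, mul_assoc X (scl ι c), ← mul_assoc, hXX, one_mul] at h'
      exact h'
    obtain ⟨j⟩ := S.nonempty
    have h4 := congrArg Units.val hc2
    rw [Units.val_mul, scl_val hc, smul_mul_smul_comm, one_mul, Units.val_one] at h4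
    have hH0 : HalfN H R X := hX ▸ hbase.conj hnH hn
    rcases mul_self_eq_one_iff.1 (show c * c = 1 by simpa using congrFun (congrFun h4 j) j) with rfl | rfl
    · rw [hxX, scl_one, mul_one]; exact hH0
    · obtain ⟨p, hp, hpx⟩ := S.partner hx hxs
      have hXR : X ∈ R := hX ▸ (Subgroup.mem_normalizer_iff.1 hn x0).1 hx0
      have hxneg : x = -X := by
        rw [hxX, show scl ι (-1 : F) = -1 from Units.ext (by
          rw [scl_val hc, neg_one_smul, Units.val_neg, Units.val_one]), mul_neg_one]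
      have hpX : p * X * p⁻¹ = x := by
        rw [hxneg, show X = -x by rw [hxneg, neg_neg], mul_neg, neg_mul, (S.bv_eq_one hp hx).1 hpx, neg_mul,
          mul_inv_cancel_right]
      rw [← hpX]
      exact hH0.conj (hN ⟨Subgroup.le_normalizer hp, S.le_amb hf hp⟩) (Subgroup.le_normalizer hp)
  refine S.normalises_of_centralisers h3 hf hH hN fun x hx hxx hxs g hg hgx => ?_
  obtain ⟨d, Q, Q', h, f', B, -, hsgn⟩ := exists_blocks S h3 hf hstd hx hxx hxs
  obtain ⟨A, D, hAD⟩ := eq_dg S.two_ne (g := h.map g) (by rw [← hsgn, ← map_mul, hgx, map_mul])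
  refine h.map_normalizer.1 (hAD ▸ B.centraliser_normalises ?_ (hmapN h).2 (hmapN h).1 (hAD ▸ ⟨g, hg, rfl⟩))
  rintro _ ⟨z, hz, rfl⟩ hzz hzs
  rw [MulEquiv.coe_toMonoidHom, ← map_mul, ← map_one h.map] at hzz
  exact h.halfN_map.2 (hall z hz (h.map.injective hzz) fun e => hzs (h.scalar_map e))

/-- Overgroups of the normaliser in the group of the form. -/
theorem normaliser_or_full {lin : Prop} {i : F} {σ : F →+* F} (hbase : BaseCase lin i σ) :
    ∀ (m n : ℕ) (R : Subgroup (GL (Fin n) F)) (f : (Fin n → F) → (Fin n → F) → F), Sign4 R m i → Form R i σ f →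
      Std f → ((∀ u v, f u v = 0) ↔ lin) → ∀ H : Subgroup (GL (Fin n) F), Cfsg.Geo.subgroupNormalizer R ⊓ amb f ≤ H → H ≤ amb f →
        H ≤ Cfsg.Geo.subgroupNormalizer R ∨ amb f ≤ H := by
  intro m
  induction m with
  | zero => intro n R f S; exact absurd S.two_le (by norm_num)
  | succ m ih =>
    intro n R f S hf hstd hlin H hN hH
    by_cases h3 : 3 ≤ m + 1
    · exact step h3 (fun n' R' f' S' => ih n' R' f' (by rwa [Nat.add_sub_cancel] at S')) S hf hstd hlin hN hH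
    · have h2 : m + 1 = 2 := by have := S.two_le; omega
      exact hbase n R f (h2 ▸ S) hf hstd hlin H hN hH

end CfsgLib.Classical22.C6Four
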