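/-
The data of the statements: groups of symplectic type with centre of order four, and conversely.
-/
import Cfsg.Agent.Lib.Classical22.C6Four.Main
import Cfsg.Agent.Lib.Local.SymplecticFour
import Cfsg.Agent.Lib.Classical22.SympTypeFour.Classes

set_option autoImplicit false
set_option maxHeartbeats 800000

namespace CfsgLib.Classical22.C6Four

open Matrix CfsgLib.Classical22.C6Plus
open scoped MatrixGroups Classical

variable {ι : Type} [Fintype ι] [DecidableEq ι] {F : Type*} [Field F] [Fintype F]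

/-- Groups of symplectic type with centre of order four give the signs and the root of minus one. -/
theorem exists_sign4 {R : Subgroup (GL ι F)} {m : ℕ} (hne : Nonempty ι) (h2 : (2 : F) ≠ 0)
    (hS : Cfsg.Geo.IsSymplecticTypeGroup 2 R) (hirr : Cfsg.Geo.ActsAbsolutelyIrreducibly (Cfsg.Geo.matrixSet R))
    (hZ : Nat.card (Subgroup.center R) = 4) (hcard : Nat.card R = 2 ^ (2 + 2 * m)) (hm : 2 ≤ m) :
    ∃ i, Sign4 R m i := by
  classical
  haveI : Fact (Nat.Prime 2) := ⟨Nat.prime_two⟩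
  haveI := hS.cyclic_of_characteristic (Subgroup.center R) inferInstance inferInstance
  obtain ⟨g, hg⟩ := IsCyclic.exists_ofOrder_eq_natCard (α := Subgroup.center R)
  rw [hZ] at hg
  obtain ⟨c, hc'⟩ := hirr.2 ((g : R) : GL ι F) (by
    rintro _ ⟨a, ha, rfl⟩
    exact (congrArg Units.val (congrArg Subtype.val (Subgroup.mem_center_iff.1 g.2 ⟨a, ha⟩))).symm)
  obtain ⟨z, hzdef⟩ : ∃ z, z = ((g : R) : GL ι F) := ⟨_, rfl⟩
  rw [← hzdef] at hc'
  have hc0 : c ≠ 0 := fun h => by
    rw [h, zero_smul] at hc'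
    exact z.ne_zero hc'
  have hzc : z = scl ι c := Units.ext (by rw [hc', scl_val hc0])
  have hzR : z ∈ R := hzdef ▸ (g : R).2
  have hzo : orderOf z = 4 := by rw [hzdef, Subgroup.orderOf_coe, Subgroup.orderOf_coe, hg]
  obtain ⟨j⟩ := hne
  have hinj : ∀ {a b : F}, a • (1 : Matrix ι ι F) = b • 1 → a = b := fun {a b} h => by
    simpa using congrFun (congrFun h j) j
  have hz4 : z ^ 4 = 1 := by
    have h := pow_orderOf_eq_one z
    rwa [hzo] at h
  have hval : ∀ n : ℕ, ((z ^ n : GL ι F) : Matrix ι ι F) = c ^ n • 1 := fun n => by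
    rw [Units.val_pow_eq_pow_val, hc', smul_pow, one_pow]
  have hc4 : c ^ 4 = 1 := hinj (by rw [← hval, hz4, Units.val_one, one_smul])
  have hc2 : c * c = -1 := by
    rcases mul_self_eq_one_iff.1 (show c ^ 2 * c ^ 2 = 1 by rw [← pow_add]; exact hc4) with h | h
    · exfalso
      have := Nat.le_of_dvd two_pos (orderOf_dvd_of_pow_eq_one
        (Units.ext (by rw [hval, h, one_smul, Units.val_one]) : z ^ 2 = 1))
      omega
    · rw [← pow_two]; exact h
  have hzz : z * z = -1 := Units.ext (by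
    rw [Units.val_mul, hc', smul_mul_smul_comm, one_mul, hc2, neg_one_smul, Units.val_neg, Units.val_one])
  have hneg : (-1 : GL ι F) ∈ R := hzz ▸ mul_mem hzR hzR
  have h4 : ∀ q : R, q ^ 4 = 1 := fun q => by
    have h := Monoid.pow_exponent_eq_one q
    rwa [hS.exponent_eq, show 2 * Nat.gcd 2 2 = 4 from rfl] at h
  have hzc' : (⟨-1, hneg⟩ : R) ∈ Subgroup.center R := Subgroup.mem_center_iff.2 fun y => Subtype.ext (by
    rw [Subgroup.coe_mul, Subgroup.coe_mul, neg_one_mul, mul_neg_one])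
  haveI : Nonempty ι := ⟨j⟩
  have h11 : (-1 : GL ι F) ≠ 1 := fun h => h2 (by
    have := hinj (a := (-1 : F)) (b := 1) (by
      rw [neg_one_smul, one_smul]; simpa using congrArg Units.val h)
    linear_combination -this)
  obtain ⟨hcm, hsq, -⟩ := CfsgLib.Local.symplectic_four (Q := R) ⟨hS.pGroup, hS.cyclic_of_characteristic⟩ h4 hzc'
    (Subtype.ext (by rw [Subgroup.coe_pow, pow_two]; simp)) fun h => h11 (congrArg Subtype.val h)
  refine ⟨c, ⟨⟨j⟩, h2, hc2, hzc ▸ hzR, fun a ha => ?_, fun a ha b hb => ?_, hirr, hcard, hm⟩⟩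
  · rcases hsq ⟨a, ha⟩ with h | h <;> have h' := congrArg Subtype.val h <;>
      simp only [Subgroup.coe_pow, pow_two, OneMemClass.coe_one] at h'
    · exact Or.inl h'
    · exact Or.inr h'
  · rcases hcm ⟨a, ha⟩ ⟨b, hb⟩ with h | h <;> have h' := congrArg Subtype.val h <;>
      simp only [Subgroup.coe_mul, Subgroup.coe_inv, OneMemClass.coe_one, mul_inv_eq_iff_eq_mul, one_mul] at h'
    · exact Or.inl h'
    · exact Or.inr (by rw [h', neg_mul, neg_mul, one_mul])

namespace Sign4

variable {R : Subgroup (GL ι F)} {m : ℕ} {i : F} (S : Sign4 R m i)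
include S

lemma mem_center {a : R} : a ∈ Subgroup.center R ↔ (a : GL ι F) ∈ Cfsg.Geo.scalars ι F :=
  ⟨fun h => S.scalar_of_bv a.2 fun r hr =>
    bv_eq_zero.2 (congrArg Subtype.val (Subgroup.mem_center_iff.1 h ⟨r, hr⟩)).symm,
  fun h => Subgroup.mem_center_iff.2 fun b => Subtype.ext (Aschbacher.commute_of_mem_scalars h b).symm⟩

lemma center_eq : Subgroup.center R = Subgroup.zpowers (⟨scl ι i, S.mem_i⟩ : R) := by
  refine le_antisymm (fun a ha => ?_) ((Subgroup.zpowers_le).2 (S.mem_center.2 (scl_mem_scalars S.i_ne)))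
  rw [Subgroup.mem_zpowers_iff]
  rcases S.scalar_cases a.2 (S.mem_center.1 ha) with h | h | h | h
  · exact ⟨0, Subtype.ext (by rw [h]; simp)⟩
  · refine ⟨2, Subtype.ext ?_⟩
    rw [h, ← S.ii]
    simp [zpow_two, pow_two]
  · exact ⟨1, Subtype.ext (by rw [h]; simp)⟩
  · refine ⟨3, Subtype.ext ?_⟩
    rw [h, show ((3 : ℤ)) = ((3 : ℕ) : ℤ) from rfl, zpow_natCast, Subgroup.coe_pow]
    simp [pow_succ, S.ii]

lemma card_center : Nat.card (Subgroup.center R) = 4 := by
  haveI : Fact (Nat.Prime 2) := ⟨Nat.prime_two⟩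
  rw [S.center_eq, Nat.card_zpowers]
  refine orderOf_eq_prime_pow (p := 2) (n := 1) (fun h => S.neg_one_ne_one ?_) ?_
  · have h' := congrArg Subtype.val h
    simpa [pow_two, S.ii] using h'
  · refine Subtype.ext ?_
    rw [Subgroup.coe_pow, show 2 ^ (1 + 1) = 2 * 2 by norm_num, pow_mul]
    simp [pow_two, S.ii]

/-- The group is of symplectic type. -/
theorem symplecticType : Cfsg.Geo.IsSymplecticTypeGroup 2 R := by
  haveI : Fact (Nat.Prime 2) := ⟨Nat.prime_two⟩
  refine ⟨Nat.prime_two, IsPGroup.of_card S.card, fun A hA hab => ?_, ?_⟩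
  · by_cases hle : ∀ a ∈ A, (a : GL ι F) ∈ Cfsg.Geo.scalars ι F
    · have hle' : A ≤ Subgroup.zpowers (⟨scl ι i, S.mem_i⟩ : R) := fun a ha =>
        S.center_eq ▸ S.mem_center.2 (hle a ha)
      exact Subgroup.isCyclic_of_le hle'
    exfalso
    push Not at hle
    obtain ⟨a, haA, has⟩ := hle
    obtain ⟨w, hw, hwa⟩ := S.partner a.2 has
    have hws : w ∉ Cfsg.Geo.scalars ι F := fun h => one_ne_zero (hwa.symm.trans (S.bv_scalar h a))
    obtain ⟨g, hg, hgw, -⟩ := S.exists_move a.2 hw has hws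
    have hmem : ∀ r : R, g * r * g⁻¹ ∈ R := fun r => (Subgroup.mem_normalizer_iff.1 hg r).1 r.2
    have hmem' : ∀ r : R, g⁻¹ * r * g ∈ R := fun r => by
      have := (Subgroup.mem_normalizer_iff.1 (inv_mem hg) r).1 r.2
      rwa [inv_inv] at this
    let φ : R ≃* R :=
      { toFun := fun r => ⟨_, hmem r⟩
        invFun := fun r => ⟨_, hmem' r⟩
        left_inv := fun r => Subtype.ext (by simp [mul_assoc])
        right_inv := fun r => Subtype.ext (by simp [mul_assoc])
        map_mul' := fun r s => Subtype.ext (by simp [mul_assoc]) }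
    have hga : φ a ∈ A := by
      have h := Subgroup.characteristic_iff_map_eq.1 hA φ
      exact h ▸ Subgroup.mem_map_of_mem _ haA
    have hcomm := congrArg (fun x : A => ((x : R) : GL ι F)) (mul_comm' (⟨a, haA⟩ : A) ⟨φ a, hga⟩)
    simp only [Subgroup.coe_mul] at hcomm
    have h0 : bv (a : GL ι F) (g * a * g⁻¹) = 0 := bv_eq_zero.2 hcomm
    obtain ⟨c, hc, hce⟩ := exists_scl hgw
    have hwe : w = g * a * g⁻¹ * scl ι c := by rw [← hce, mul_inv_cancel_left]
    have hsR : scl ι c ∈ R := by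
      have := R.mul_mem (R.inv_mem (hmem a)) hw
      rwa [hwe, inv_mul_cancel_left] at this
    rw [bv_symm, hwe, S.bv_mul' (hmem a) hsR a.2, h0, zero_add, bv_symm, S.bv_scalar (scl_mem_scalars hc)] at hwa
    exact zero_ne_one hwa
  · rw [show 2 * Nat.gcd 2 2 = 2 ^ 2 from rfl]
    refine Nat.dvd_antisymm (Monoid.exponent_dvd_of_forall_pow_eq_one fun r => ?_) ?_
    · refine Subtype.ext ?_
      rw [Subgroup.coe_pow, show (2 : ℕ) ^ 2 = 2 * 2 by norm_num, pow_mul, pow_two (r : GL ι F)]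
      rcases S.sq r r.2 with e | e <;> rw [e] <;> simp
    · rw [← show orderOf (⟨scl ι i, S.mem_i⟩ : R) = 2 ^ 2 by
        rw [← Nat.card_zpowers, ← S.center_eq, S.card_center]; rfl]
      exact Monoid.order_dvd_exponent _

end Sign4

end CfsgLib.Classical22.C6Four
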