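/-
The normaliser is generated modulo scalars by the group and the scaled transvections.
-/
import Cfsg.Agent.Lib.Classical22.C6Four.Fixed

set_option autoImplicit false
set_option maxHeartbeats 800000

namespace CfsgLib.Classical22.C6Four

open Matrix CfsgLib.Classical22.C6Plus
open scoped MatrixGroups Classical

variable {ι : Type} [Fintype ι] [DecidableEq ι] {F : Type*} [Field F] [Fintype F]

/-- The elements which are in `S` up to a scalar. -/
noncomputable def upto (S : Subgroup (GL ι F)) : Subgroup (GL ι F) where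
  carrier := {A | ∃ z ∈ Cfsg.Geo.scalars ι F, z * A ∈ S}
  one_mem' := ⟨1, one_mem _, by rw [one_mul]; exact S.one_mem⟩
  mul_mem' := by
    rintro A B ⟨z, hz, hA⟩ ⟨w, hw, hB⟩
    refine ⟨z * w, mul_mem hz hw, ?_⟩
    have := S.mul_mem hA hB
    rwa [show z * A * (w * B) = z * (A * w) * B by simp only [mul_assoc], ← Aschbacher.commute_of_mem_scalars hw A,
      ← mul_assoc z, mul_assoc (z * w)] at this
  inv_mem' := by
    rintro A ⟨z, hz, hA⟩
    refine ⟨z⁻¹, inv_mem hz, ?_⟩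
    have := S.inv_mem hA
    rwa [_root_.mul_inv_rev, ← Aschbacher.commute_of_mem_scalars (inv_mem hz)] at this

lemma le_upto (S : Subgroup (GL ι F)) : S ≤ upto S := fun A hA => ⟨1, one_mem _, by rwa [one_mul]⟩

lemma scalars_le_upto (S : Subgroup (GL ι F)) : Cfsg.Geo.scalars ι F ≤ upto S := fun z hz =>
  ⟨z⁻¹, inv_mem hz, by rw [inv_mul_cancel]; exact S.one_mem⟩

namespace Sign4

variable {R : Subgroup (GL ι F)} {m : ℕ} {i : F} (S : Sign4 R m i)
include S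

/-- Separation from a subgroup. -/
lemma sep_subgroup {U : Subgroup (GL ι F)} (hU : U ≤ R) {s : GL ι F} (hs : s ∈ R)
    (hsU : ∀ x ∈ U, s * x ∉ Cfsg.Geo.scalars ι F) : ∃ v ∈ R, (∀ x ∈ U, bv v x = 0) ∧ bv v s = 1 := by
  haveI : Finite (GL ι F) := inferInstance
  haveI : Fintype U := Fintype.ofFinite _
  obtain ⟨l, hl, hall⟩ : ∃ l : List (GL ι F), (∀ x ∈ l, x ∈ U) ∧ ∀ x ∈ U, x ∈ l := by
    refine ⟨(Finset.univ : Finset U).toList.map Subtype.val, fun x hx => ?_, fun x hx => ?_⟩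
    · obtain ⟨y, -, rfl⟩ := List.mem_map.1 hx
      exact y.2
    · exact List.mem_map.2 ⟨⟨x, hx⟩, Finset.mem_toList.2 (Finset.mem_univ _), rfl⟩
  have hind : ∀ (l : List (GL ι F)), (∀ x ∈ l, x ∈ U) → ∀ s : GL ι F, (∀ x ∈ U, s * x ∉ Cfsg.Geo.scalars ι F) →
      Ind l s := by
    intro l
    induction l with
    | nil => intro _ s h; have := h 1 U.one_mem; rwa [mul_one] at this
    | cons a l ih =>
      intro hl s h
      refine ⟨ih (fun x hx => hl x (List.mem_cons_of_mem _ hx)) s h,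
        ih (fun x hx => hl x (List.mem_cons_of_mem _ hx)) (s * a) fun x hx => ?_⟩
      rw [mul_assoc]
      exact h _ (U.mul_mem (hl a List.mem_cons_self) hx)
  obtain ⟨v, hv, hvl, hvs⟩ := S.sep l s hs (fun x hx => hU (hl x hx)) (hind l hl s hsU)
  exact ⟨v, hv, fun x hx => hvl x (hall x hx), hvs⟩

/-- A group with the scalars, the members and the scaled transvections contains the normaliser. -/
theorem normaliser_le {M : Subgroup (GL ι F)} (hscal : Cfsg.Geo.scalars ι F ≤ M) (hR : R ≤ M)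
    (htA : ∀ a ∈ R, a * a = -1 → a ∉ Cfsg.Geo.scalars ι F → tA i a ∈ M) :
    Cfsg.Geo.subgroupNormalizer R ≤ M := by
  haveI : Finite (GL ι F) := inferInstance
  suffices key : ∀ (j : ℕ) (h : GL ι F), h ∈ Cfsg.Geo.subgroupNormalizer R → ∀ U : Subgroup (GL ι F), U ≤ R →
      (∀ x, x ∈ U ↔ x ∈ R ∧ (h * x * h⁻¹)⁻¹ * x ∈ Cfsg.Geo.scalars ι F) → Nat.card R - Nat.card U ≤ j → h ∈ M by
    intro h hh
    refine key (Nat.card R) h hh
      { carrier := {x | x ∈ R ∧ (h * x * h⁻¹)⁻¹ * x ∈ Cfsg.Geo.scalars ι F}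
        one_mem' := ⟨R.one_mem, by simp⟩
        mul_mem' := ?_
        inv_mem' := ?_ } (fun x hx => hx.1) (fun x => Iff.rfl) (Nat.sub_le _ _)
    · rintro x y ⟨hx, hx'⟩ ⟨hy, hy'⟩
      refine ⟨R.mul_mem hx hy, ?_⟩
      rw [show (h * (x * y) * h⁻¹)⁻¹ * (x * y) = (h * y * h⁻¹)⁻¹ * ((h * x * h⁻¹)⁻¹ * x) * y by group,
        ← Aschbacher.commute_of_mem_scalars hx', mul_assoc]
      exact mul_mem hx' hy'
    · rintro x ⟨hx, hx'⟩
      refine ⟨R.inv_mem hx, ?_⟩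
      obtain ⟨z, hz⟩ : ∃ z, z = (h * x * h⁻¹)⁻¹ * x := ⟨_, rfl⟩
      rw [← hz] at hx'
      rw [show (h * x⁻¹ * h⁻¹)⁻¹ * x⁻¹ = x * z⁻¹ * x⁻¹ by rw [hz]; group, scalar_conj (inv_mem hx')]
      exact inv_mem hx'
  intro j
  induction j using Nat.strong_induction_on with
  | _ j ih =>
  intro h hh U hUR hU hj
  have hconj : ∀ x ∈ R, h * x * h⁻¹ ∈ R := fun x hx => (Subgroup.mem_normalizer_iff.1 hh x).1 hx
  by_cases hall : R ≤ U
  · obtain ⟨u, hu, hus⟩ := S.mem_of_fix fun r hr => ((hU r).1 (hall hr)).2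
    have := mul_mem (hR hu) (hscal hus)
    rwa [mul_inv_cancel_left] at this
  obtain ⟨s, hs, hsU⟩ := SetLike.not_le_iff_exists.1 hall
  obtain ⟨t, ht⟩ : ∃ t, t = h * s * h⁻¹ := ⟨_, rfl⟩
  have htR : t ∈ R := ht ▸ hconj s hs
  have hUscal : ∀ z ∈ R, z ∈ Cfsg.Geo.scalars ι F → z ∈ U := fun z hz hzs => (hU z).2 ⟨hz, by
    rw [scalar_conj hzs, inv_mul_cancel]; exact one_mem _⟩
  have hsU' : ∀ x ∈ U, s * x ∉ Cfsg.Geo.scalars ι F := fun x hx hsx => hsU (by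
    have := U.mul_mem (hUscal _ (R.mul_mem hs (hUR hx)) hsx) (U.inv_mem hx)
    rwa [mul_inv_cancel_right] at this)
  have hbvU : ∀ x ∈ U, bv t x = bv s x := fun x hx => by
    rw [ht, ← S.conj_bv (g := h) (a := s) (b := x)]
    refine (S.bv_congr (hconj s hs) (hconj s hs) (hconj x (hUR hx)) (hUR hx) ?_ ((hU x).1 hx).2).symm
    rw [inv_mul_cancel]; exact one_mem _
  have htU' : ∀ x ∈ U, t * x ∉ Cfsg.Geo.scalars ι F := fun x hx htx => by
    have hz : (h * x * h⁻¹)⁻¹ * x ∈ Cfsg.Geo.scalars ι F := ((hU x).1 hx).2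
    have h1 : h * (s * x) * h⁻¹ ∈ Cfsg.Geo.scalars ι F := by
      have := mul_mem htx (inv_mem hz)
      rwa [ht, show h * s * h⁻¹ * x * ((h * x * h⁻¹)⁻¹ * x)⁻¹ = h * (s * x) * h⁻¹ by group] at this
    refine hsU' x hx ?_
    have h2 := scalar_conj h1 h⁻¹
    rw [show h⁻¹ * (h * (s * x) * h⁻¹) * h⁻¹⁻¹ = s * x by group] at h2
    exact h2.symm ▸ h1
  have hlift : ∀ x y : GL ι F, x ∈ R → y ∈ R → bv x y = 1 → (∀ u ∈ U, bv y u = bv x u) →
      ∃ a ∈ R, a * a = -1 ∧ a ∉ Cfsg.Geo.scalars ι F ∧ (∀ u ∈ U, T a u = u) ∧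
        (T a x)⁻¹ * y ∈ Cfsg.Geo.scalars ι F := by
    intro x y hx hy hxy hu
    have hc := R.mul_mem hy (R.inv_mem hx)
    obtain ⟨-, -, a, ha, -, haa, -, hac⟩ := S.exists_lift hc
    have hcls : (y * x⁻¹)⁻¹ * a ∈ Cfsg.Geo.scalars ι F := S.class_of_lift hac
    have hself : (1 : GL ι F) ∈ Cfsg.Geo.scalars ι F := one_mem _
    have hav : ∀ w ∈ R, bv w a = bv w y + bv w x := fun w hw => by
      rw [← S.bv_congr hw hw hc ha (by rw [inv_mul_cancel]; exact hself) hcls, S.bv_mul' hy (R.inv_mem hx) hw,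
        bv_symm w x⁻¹, S.bv_inv hx, bv_symm x w]
    have hxa : bv x a = 1 := by rw [hav x hx, hxy, bv_self, add_zero]
    refine ⟨a, ha, haa, fun hs' => by rw [bv_symm, S.bv_scalar hs'] at hxa; exact zero_ne_one hxa,
      fun u hu' => S.T_comm ?_, ?_⟩
    · rw [hav u (hUR hu'), bv_symm u y, bv_symm u x, hu u hu']
      exact zmod_self _
    · rw [S.T_anti hxa, _root_.mul_inv_rev, mul_assoc]
      obtain ⟨c, hc0, hce⟩ := exists_scl hcls
      rw [show a = y * x⁻¹ * scl ι c by rw [← hce, mul_inv_cancel_left], _root_.mul_inv_rev, mul_assoc (scl ι c)⁻¹,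
        show (y * x⁻¹)⁻¹ * y = x by group, Aschbacher.commute_of_mem_scalars (inv_mem (scl_mem_scalars hc0)) x,
        inv_mul_cancel_left]
      exact inv_mem (scl_mem_scalars hc0)
  obtain ⟨g, hgM, hgN, hgU, hgt⟩ : ∃ g ∈ M, g ∈ Cfsg.Geo.subgroupNormalizer R ∧
      (∀ u ∈ U, g * u * g⁻¹ = u) ∧ (g * t * g⁻¹)⁻¹ * s ∈ Cfsg.Geo.scalars ι F := by
    rcases S.bv_cases t s with hts | hts
    swap
    · obtain ⟨a, ha, haa, hns, hfix, hmove⟩ := hlift t s htR hs hts fun u hu => (hbvU u hu).symm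
      exact ⟨_, htA a ha haa hns, S.tA_normalises ha haa,
        fun u hu => by rw [S.tA_conj ha haa (hUR hu)]; exact hfix u hu,
        by rw [S.tA_conj ha haa htR]; exact hmove⟩
    obtain ⟨v, hv, hvU, hvs, hvt⟩ : ∃ v ∈ R, (∀ x ∈ U, bv v x = 0) ∧ bv v s = 1 ∧ bv v t = 1 := by
      obtain ⟨v, hv, hvU, hvs⟩ := S.sep_subgroup hUR hs hsU'
      obtain ⟨w, hw, hwU, hwt⟩ := S.sep_subgroup hUR htR htU'
      rcases S.bv_cases v t with h1 | h1
      swap
      · exact ⟨v, hv, hvU, hvs, h1⟩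
      rcases S.bv_cases w s with h2 | h2
      swap
      · exact ⟨w, hw, hwU, h2, hwt⟩
      exact ⟨v * w, R.mul_mem hv hw, fun x hx => by rw [S.bv_mul hv hw (hUR hx), hvU x hx, hwU x hx, add_zero],
        by rw [S.bv_mul hv hw hs, hvs, h2, add_zero], by rw [S.bv_mul hv hw htR, h1, hwt, zero_add]⟩
    obtain ⟨u, hu⟩ : ∃ u, u = s * v := ⟨_, rfl⟩
    have huR : u ∈ R := hu ▸ R.mul_mem hs hv
    have hus : bv u s = 1 := by rw [hu, S.bv_mul hs hv hs, bv_self, hvs, zero_add]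
    have hut : bv t u = 1 := by rw [hu, S.bv_mul' hs hv htR, hts, bv_symm, hvt, zero_add]
    have huU : ∀ x ∈ U, bv u x = bv s x := fun x hx => by
      rw [hu, S.bv_mul hs hv (hUR hx), hvU x hx, add_zero]
    obtain ⟨a, ha, haa, hans, hafix, hamove⟩ := hlift t u htR huR hut fun x hx => (huU x hx).trans (hbvU x hx).symm
    obtain ⟨b, hb, hbb, hbns, hbfix, hbmove⟩ := hlift u s huR hs hus fun x hx => (huU x hx).symm
    refine ⟨tA i b * tA i a, mul_mem (htA b hb hbb hbns) (htA a ha haa hans),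
      mul_mem (S.tA_normalises hb hbb) (S.tA_normalises ha haa), fun x hx => ?_, ?_⟩
    · rw [show tA i b * tA i a * x * (tA i b * tA i a)⁻¹ = tA i b * (tA i a * x * (tA i a)⁻¹) * (tA i b)⁻¹ by group,
        S.tA_conj ha haa (hUR hx), hafix x hx, S.tA_conj hb hbb (hUR hx)]
      exact hbfix x hx
    · obtain ⟨c, hc0, hce⟩ := exists_scl hamove
      have e : T a t = u * (scl ι c)⁻¹ := by rw [← hce]; group
      rw [show tA i b * tA i a * t * (tA i b * tA i a)⁻¹ = tA i b * (tA i a * t * (tA i a)⁻¹) * (tA i b)⁻¹ by group,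
        S.tA_conj ha haa htR, e, show tA i b * (u * (scl ι c)⁻¹) * (tA i b)⁻¹ =
          tA i b * u * (tA i b)⁻¹ * (tA i b * (scl ι c)⁻¹ * (tA i b)⁻¹) by group,
        S.tA_conj hb hbb huR, scalar_conj (inv_mem (scl_mem_scalars hc0)), _root_.mul_inv_rev, inv_inv, mul_assoc]
      exact mul_mem (scl_mem_scalars hc0) hbmove
  have hstep : g * h ∈ Cfsg.Geo.subgroupNormalizer R := mul_mem hgN hh
  obtain ⟨V, hV⟩ : ∃ V : Subgroup (GL ι F),
      ∀ x, x ∈ V ↔ x ∈ R ∧ (g * h * x * (g * h)⁻¹)⁻¹ * x ∈ Cfsg.Geo.scalars ι F := by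
    refine ⟨{ carrier := {x | x ∈ R ∧ (g * h * x * (g * h)⁻¹)⁻¹ * x ∈ Cfsg.Geo.scalars ι F}
              one_mem' := ⟨R.one_mem, by simp⟩
              mul_mem' := ?_
              inv_mem' := ?_ }, fun x => Iff.rfl⟩
    · rintro x y ⟨hx, hx'⟩ ⟨hy, hy'⟩
      refine ⟨R.mul_mem hx hy, ?_⟩
      rw [show (g * h * (x * y) * (g * h)⁻¹)⁻¹ * (x * y) =
        (g * h * y * (g * h)⁻¹)⁻¹ * ((g * h * x * (g * h)⁻¹)⁻¹ * x) * y by group,
        ← Aschbacher.commute_of_mem_scalars hx', mul_assoc]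
      exact mul_mem hx' hy'
    · rintro x ⟨hx, hx'⟩
      refine ⟨R.inv_mem hx, ?_⟩
      obtain ⟨z, hz⟩ : ∃ z, z = (g * h * x * (g * h)⁻¹)⁻¹ * x := ⟨_, rfl⟩
      rw [← hz] at hx'
      rw [show (g * h * x⁻¹ * (g * h)⁻¹)⁻¹ * x⁻¹ = x * z⁻¹ * x⁻¹ by rw [hz]; group, scalar_conj (inv_mem hx')]
      exact inv_mem hx'
  have hUV : U ≤ V := fun x hx => (hV x).2 ⟨hUR hx, by
    obtain ⟨z, hz⟩ : ∃ z, z = (h * x * h⁻¹)⁻¹ * x := ⟨_, rfl⟩
    have hzs : z ∈ Cfsg.Geo.scalars ι F := hz ▸ ((hU x).1 hx).2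
    have e : h * x * h⁻¹ = x * z⁻¹ := by rw [hz]; group
    rw [show g * h * x * (g * h)⁻¹ = g * (h * x * h⁻¹) * g⁻¹ by group, e,
      show g * (x * z⁻¹) * g⁻¹ = (g * x * g⁻¹) * (g * z⁻¹ * g⁻¹) by group, hgU x hx, scalar_conj (inv_mem hzs),
      _root_.mul_inv_rev, inv_inv, mul_assoc, inv_mul_cancel, mul_one]
    exact hzs⟩
  have hsV : s ∈ V := (hV s).2 ⟨hs, by
    rwa [show g * h * s * (g * h)⁻¹ = g * t * g⁻¹ by rw [ht]; group]⟩
  have hlt : Nat.card U < Nat.card V := lt_of_le_of_ne (Subgroup.card_le_of_le hUV) fun e => hsU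
    (Subgroup.eq_of_le_of_card_ge hUV e.ge ▸ hsV)
  have hVR : Nat.card V ≤ Nat.card R := Subgroup.card_le_of_le fun x hx => ((hV x).1 hx).1
  have := ih (Nat.card R - Nat.card V) (by omega) (g * h) hstep V (fun x hx => ((hV x).1 hx).1) hV le_rfl
  rwa [Subgroup.mul_mem_cancel_left M hgM] at this

end Sign4

end CfsgLib.Classical22.C6Four
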