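/-
Maximality of the normaliser in the group of the form, given the overgroup dichotomy.
-/
import Cfsg.Agent.Lib.Classical22.C6Four.Data

set_option autoImplicit false
set_option maxHeartbeats 800000

namespace CfsgLib.Classical22.C6Four

open Matrix CfsgLib.Classical22.C6Plus
open scoped MatrixGroups Classical

variable {ι : Type} [Fintype ι] [DecidableEq ι] {F : Type*} [Field F] [Fintype F]

lemma Sign4.four_le_index {R : Subgroup (GL ι F)} {m : ℕ} {i : F} (S : Sign4 R m i) : 4 ≤ Fintype.card ι := by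
  rw [S.card_index]
  calc 4 = 2 ^ 2 := by norm_num
    _ ≤ 2 ^ m := Nat.pow_le_pow_right (by norm_num) S.two_le

/-- The group of the form does not normalise. -/
theorem not_amb_le {R : Subgroup (GL ι F)} {m : ℕ} {i : F} {σ : F →+* F} {f : (ι → F) → (ι → F) → F}
    (S : Sign4 R m i) (h3 : 3 ≤ m) (hf : Form R i σ f) (hstd : Std f) :
    ¬ amb f ≤ Cfsg.Geo.subgroupNormalizer R := by
  intro hle
  obtain ⟨r, hr, hrs⟩ := S.exists_nonscalar
  obtain ⟨-, -, a, ha, -, haa, -, hac⟩ := S.exists_lift hr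
  have hans : a ∉ Cfsg.Geo.scalars ι F := fun h => hrs (by
    have := mul_mem h (inv_mem (S.class_of_lift hac))
    rwa [_root_.mul_inv_rev, inv_inv, mul_inv_cancel_left] at this)
  obtain ⟨p, hp, hpa⟩ := S.partner ha hans
  have hR := amb_le_of_normalised hstd S.four_le_index (K := R)
    (fun g hg k hk => (Subgroup.mem_normalizer_iff.1 (hle hg) k).1 hk) ha (S.le_amb hf ha) (S.le_amb hf hp) (by
      rw [(S.bv_eq_one hp ha).1 hpa]; exact S.ne_neg _)
  have h1 := S.tA_conj ha haa hp
  rw [S.T_anti hpa] at h1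
  rcases S.comm _ (hR (S.tA_mem hf h3 ha haa hans)) p hp with e | e <;> rw [e] at h1
  · rw [mul_inv_cancel_right] at h1
    exact hans (by rw [show a = 1 from mul_eq_right.1 h1.symm]; exact one_mem _)
  · rw [neg_mul, mul_inv_cancel_right] at h1
    have e' : a = -1 := by
      rw [← neg_one_mul p] at h1
      exact (mul_right_cancel h1).symm
    exact hans (e' ▸ S.neg_scalar)

/-- Maximality in the group of the form. -/
theorem maximal_of_base {n m : ℕ} {i : F} {σ : F →+* F} {lin : Prop} (hbase : BaseCase lin i σ)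
    {R : Subgroup (GL (Fin n) F)} {f : (Fin n → F) → (Fin n → F) → F} (S : Sign4 R m i) (h3 : 3 ≤ m)
    (hf : Form R i σ f) (hstd : Std f) (hlin : (∀ u v, f u v = 0) ↔ lin) :
    Cfsg.Geo.IsMaximalIn (amb f) (Cfsg.Geo.subgroupNormalizer R ⊓ amb f) := by
  refine ⟨lt_of_le_of_ne inf_le_right fun h => not_amb_le S h3 hf hstd (h ▸ inf_le_left), fun M h1 h2 => ?_⟩
  rcases normaliser_or_full hbase m n R f S hf hstd hlin M h1 h2 with h | h
  · exact Or.inl (le_antisymm (le_inf h h2) h1)
  · exact Or.inr (le_antisymm h2 h)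

lemma amb_zero : amb (fun _ _ => (0 : F) : (ι → F) → (ι → F) → F) = Cfsg.Geo.specialLinear ι F := by
  rw [amb, inf_eq_right]
  intro g _ u v
  rfl

end CfsgLib.Classical22.C6Four
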