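/-
The special linear groups over a prime field congruent to one modulo four.
-/
import Cfsg.Agent.Lib.Classical22.C6Four.Maximal
import Cfsg.Agent.Lib.Classical22.SLFour.SympType

set_option autoImplicit false
set_option maxHeartbeats 800000

namespace CfsgLib.Classical22.C6Four

open Matrix
open scoped MatrixGroups Classical

variable {F : Type*} [Field F] [Fintype F]

/-- A field of prime order has no automorphism but the identity. -/
lemma ringEquiv_prime_eq_refl {p : ℕ} (hp : p.Prime) (hF : Fintype.card F = p) (τ : F ≃+* F) :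
    τ = RingEquiv.refl F := by
  haveI : Fact p.Prime := ⟨hp⟩
  haveI : CharP F p := charP_of_card_eq_prime hF
  refine RingEquiv.ext fun x => ?_
  have hb : Function.Surjective (ZMod.castHom (dvd_refl p) F) :=
    ((Fintype.bijective_iff_injective_and_card _).2
      ⟨(ZMod.castHom (dvd_refl p) F).injective, by rw [ZMod.card, hF]⟩).2
  obtain ⟨a, rfl⟩ := hb x
  exact RingHom.congr_fun (RingHom.ext_zmod (τ.toRingHom.comp (ZMod.castHom (dvd_refl p) F))
    (ZMod.castHom (dvd_refl p) F)) a

/-- The four-dimensional base. -/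
theorem linear_base {p : ℕ} (hp : p.Prime) (hF : Fintype.card F = p) (h4 : p % 4 = 1) (i : F) :
    BaseCase True i (RingHom.id F) := by
  intro n R f S _ hstd hlin H h1 h2
  haveI : Fact p.Prime := ⟨hp⟩
  have hn : n = 4 := by
    have := S.card_index
    rwa [Fintype.card_fin] at this
  subst hn
  have hf : amb f = Cfsg.Geo.specialLinear (Fin 4) F := by
    rw [show f = fun _ _ => (0 : F) from funext fun u => funext fun v => hlin.2 trivial u v]
    exact amb_zero
  rw [hf] at h1 h2 ⊢
  have hR : Cfsg.Geo.IsLinearSymplecticTypeData 2 R := by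
    refine ⟨S.symplecticType, S.irr, p, 1, ?_, ?_, Or.inr (Or.inl ⟨rfl, rfl, S.card_center, by simp, 2, S.card⟩)⟩
    · rintro rfl
      omega
    · refine ⟨hp, charP_of_card_eq_prime hF, by rw [hF, pow_one], ?_,
        fun d hd hd' => by omega⟩
      rw [S.card_center, pow_one]
      omega
  rcases (CfsgLib.SLFour.sympType_maximal p R hp hF hR).2 H h1 h2 with h | h
  · exact Or.inl (h ▸ inf_le_left)
  · exact Or.inr h.ge

/-- The normaliser is maximal in the special linear group, in dimension at least eight. -/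
theorem sympType_maximal_linear {p n : ℕ} (hp : p.Prime) (hF : Fintype.card F = p) (h4 : p % 4 = 1) (hn : 8 ≤ n)
    {R : Subgroup (GL (Fin n) F)} (hR : Cfsg.Geo.IsLinearSymplecticTypeData 2 R) :
    Cfsg.Geo.IsMaximalIn (Cfsg.Geo.specialLinear (Fin n) F)
      (Cfsg.Geo.subgroupNormalizer R ⊓ Cfsg.Geo.specialLinear (Fin n) F) := by
  haveI : Fact p.Prime := ⟨hp⟩
  obtain ⟨q, e, hq, -, hcase⟩ := hR.field
  obtain ⟨hZ, m, hcard⟩ : Nat.card (Subgroup.center R) = 4 ∧ ∃ m, Nat.card R = 2 ^ (2 + 2 * m) := by
    rcases hcase with ⟨h, -⟩ | ⟨-, -, h, -, hm⟩ | ⟨-, -, h, -⟩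
    · exact absurd h (by decide)
    · exact ⟨h, hm⟩
    · rw [Fintype.card_fin] at h; omega
  haveI : CharP F p := charP_of_card_eq_prime hF
  have h2 : (2 : F) ≠ 0 := Ring.two_ne_zero fun h => by
    have := CharP.eq F (ringChar.of_eq h) (inferInstance : CharP F p)
    omega
  haveI : Nonempty (Fin n) := ⟨⟨0, by omega⟩⟩
  have hm : 2 ≤ m := by
    by_contra hm
    have hle : Nat.card R ≤ 16 := hcard ▸ (Nat.pow_le_pow_right (by norm_num) (by omega)).trans (by norm_num : 2 ^ 4 ≤ 16)
    obtain ⟨-, hsmall⟩ : True ∧ n * n ≤ Nat.card R := by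
      refine ⟨trivial, ?_⟩
      haveI : Fintype R := Fintype.ofFinite _
      have hspan : ⊤ ≤ Submodule.span F (Set.range fun r : R => ((r : GL (Fin n) F) : Matrix (Fin n) (Fin n) F)) := by
        rw [← Algebra.top_toSubmodule, ← show Aschbacher.alg R = ⊤ from Asch.full_of_absIrr hR.absIrred,
          Aschbacher.alg_toSubmodule]
        refine Submodule.span_le.2 ?_
        rintro _ ⟨x, hx, rfl⟩
        exact Submodule.subset_span ⟨⟨x, hx⟩, rfl⟩
      have h3 := finrank_range_le_card (R := F) (fun r : R => ((r : GL (Fin n) F) : Matrix (Fin n) (Fin n) F))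
      rw [Set.finrank, eq_top_iff.2 hspan, finrank_top, Module.finrank_matrix, Fintype.card_fin, Module.finrank_self,
        mul_one, ← Nat.card_eq_fintype_card] at h3
      exact h3
    have := Nat.mul_le_mul hn hn
    omega
  obtain ⟨i, S⟩ := exists_sign4 inferInstance h2 hR.symplecticType hR.absIrred hZ hcard hm
  have h3 : 3 ≤ m := by
    have := S.card_index
    rw [Fintype.card_fin] at this
    by_contra hlt
    have hle := Nat.pow_le_pow_right (show 1 ≤ 2 by norm_num) (show m ≤ 2 by omega)
    omega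
  have hf : Form R i (RingHom.id F) (fun _ _ => (0 : F)) :=
    ⟨fun _ _ _ => (add_zero 0).symm, fun _ _ _ => (add_zero 0).symm, fun _ _ _ => (mul_zero _).symm,
      fun _ _ _ => (mul_zero _).symm, fun _ _ _ _ => rfl, fun _ _ => mul_zero _⟩
  have h := maximal_of_base (linear_base hp hF h4 i) S h3 hf (Or.inl fun _ _ => rfl)
    ⟨fun _ => trivial, fun _ _ _ => rfl⟩
  rwa [amb_zero] at h

end CfsgLib.Classical22.C6Four
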