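/-
The special unitary groups over a field of order the square of a prime congruent to three modulo four.
-/
import Cfsg.Agent.Lib.Classical22.C6Four.Maximal
import Cfsg.Agent.Lib.Classical.HermBasic
import Cfsg.Agent.Lib.Transvec.HermForm

set_option autoImplicit false
set_option maxHeartbeats 800000

namespace CfsgLib.Classical22.C6Four

open Matrix
open scoped MatrixGroups Classical

variable {F : Type*} [Field F] [Fintype F]

/-- The four-dimensional statement used as a base. -/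
def UnitaryFour (F : Type*) [Field F] [Fintype F] (p : ℕ) : Prop :=
  ∀ R : Subgroup (GL (Fin 4) F), Cfsg.Geo.IsSymplecticTypeGroup 2 R →
    Cfsg.Geo.ActsAbsolutelyIrreducibly (Cfsg.Geo.matrixSet R) → R ≤ Cfsg.GU 4 F p → Nat.card R = 64 →
    Nat.card (Subgroup.center R) = 4 → Cfsg.Geo.IsMaximalIn (Cfsg.GU 4 F p ⊓ Cfsg.Geo.specialLinear (Fin 4) F)
      (Cfsg.Geo.subgroupNormalizer R ⊓ (Cfsg.GU 4 F p ⊓ Cfsg.Geo.specialLinear (Fin 4) F))

lemma amb_herm (n p : ℕ) : amb (Cfsg.hermForm n F p) = Cfsg.GU n F p ⊓ Cfsg.Geo.specialLinear (Fin n) F := rfl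

omit [Fintype F] in
/-- A form with a standard basis, sesquilinear for the power map, is the standard one. -/
lemma eq_herm {n p : ℕ} {σ : F →+* F} (hσ : ∀ a, σ a = a ^ p) {f : (Fin n → F) → (Fin n → F) → F}
    (h1 : ∀ u v w, f (u + v) w = f u w + f v w) (h2 : ∀ u v w, f u (v + w) = f u v + f u w)
    (h3 : ∀ (c : F) u v, f (c • u) v = c * f u v) (h4 : ∀ (c : F) u v, f u (c • v) = σ c * f u v)
    (hb : ∀ a b : Fin n, f (Pi.single a 1) (Pi.single b 1) = if a = b then 1 else 0) :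
    f = Cfsg.hermForm n F p := by
  funext u v
  have hl : ∀ w, f u w = ∑ a, u a * f (Pi.single a 1) w := fun w => by
    conv_lhs => rw [pi_eq_sum_univ' u]
    let φ : (Fin n → F) →+ F := AddMonoidHom.mk' (fun x => f x w) fun x y => h1 x y w
    change φ _ = _
    rw [map_sum]
    exact Finset.sum_congr rfl fun a _ => h3 _ _ _
  have hr : ∀ a, f (Pi.single a 1) v = (v a) ^ p := fun a => by
    conv_lhs => rw [pi_eq_sum_univ' v]
    let φ : (Fin n → F) →+ F := AddMonoidHom.mk' (fun x => f (Pi.single a 1) x) fun x y => h2 _ x y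
    change φ _ = _
    rw [map_sum, Finset.sum_eq_single a]
    · change f _ _ = _
      rw [h4, hb, if_pos rfl, mul_one, hσ]
    · intro b _ hba
      change f _ _ = _
      rw [h4, hb, if_neg (Ne.symm hba), mul_zero]
    · simp
  rw [hl]
  exact Finset.sum_congr rfl fun a _ => by rw [hr]

/-- The base of the induction. -/
theorem unitary_base {p : ℕ} (h : UnitaryFour F p) {σ : F →+* F} (hσ : ∀ a, σ a = a ^ p) (i : F) :
    BaseCase False i σ := by
  intro n R f S hf hstd hlin H h1 h2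
  have hn : n = 4 := by
    have := S.card_index
    rwa [Fintype.card_fin] at this
  subst hn
  rcases hstd with h0 | ⟨τ, hτ, hb⟩
  · exact (hlin.1 h0).elim
  obtain rfl := eq_herm hσ hf.add_left hf.add_right hf.smul_left hf.smul_right hb
  rw [amb_herm] at h1 h2 ⊢
  have hR : R ≤ Cfsg.GU 4 F p := fun r hr u v => hf.iso r hr u v
  rcases (h R S.symplecticType S.irr hR (by rw [S.card]; norm_num) S.card_center).2 H h1 h2 with h | h
  · exact Or.inl (h ▸ inf_le_left)
  · exact Or.inr h.ge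

/-- The normaliser is maximal in the special unitary group, given the four-dimensional case. -/
theorem sympType_maximal_unitary {p n m : ℕ} (hp : p.Prime) (hF : Fintype.card F = p ^ 2) (h4 : p % 4 = 3)
    (hbase : UnitaryFour F p) (h3 : 3 ≤ m) {R : Subgroup (GL (Fin n) F)} (hn : 0 < n)
    (hS : Cfsg.Geo.IsSymplecticTypeGroup 2 R) (hirr : Cfsg.Geo.ActsAbsolutelyIrreducibly (Cfsg.Geo.matrixSet R))
    (hRU : R ≤ Cfsg.GU n F p) (hcard : Nat.card R = 2 ^ (2 + 2 * m)) (hZ : Nat.card (Subgroup.center R) = 4) :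
    Cfsg.Geo.IsMaximalIn (Cfsg.GU n F p ⊓ Cfsg.Geo.specialLinear (Fin n) F)
      (Cfsg.Geo.subgroupNormalizer R ⊓ (Cfsg.GU n F p ⊓ Cfsg.Geo.specialLinear (Fin n) F)) := by
  haveI : Fact p.Prime := ⟨hp⟩
  obtain ⟨σ, hσ, hinv, hne⟩ := CfsgLib.Classical.exists_qPow hF
  have h2 : (2 : F) ≠ 0 := Ring.two_ne_zero fun h => by
    haveI := ringChar.of_eq h
    obtain ⟨k, hk, hk'⟩ := FiniteField.card F 2
    rw [hF] at hk'
    have hd : p ∣ 2 ^ (k : ℕ) := hk' ▸ dvd_pow_self p two_ne_zero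
    have := (Nat.prime_dvd_prime_iff_eq hp Nat.prime_two).1 (hp.dvd_of_dvd_pow hd)
    omega
  obtain ⟨i, S⟩ := exists_sign4 ⟨⟨0, hn⟩⟩ h2 hS hirr hZ hcard (by omega)
  obtain ⟨τ, hτ⟩ : ∃ τ : F ≃+* F, ∀ a, τ a = σ a :=
    ⟨RingEquiv.ofBijective σ ⟨σ.injective, fun a => ⟨σ a, hinv a⟩⟩, fun a => rfl⟩
  have hpow : ∀ a, τ a = a ^ p := fun a => (hτ a).trans (hσ a)
  have hU : Cfsg.Geo.IsUnitaryForm τ (Cfsg.hermForm n F p) :=
    CfsgLib.Transvec.Unitary.isUnitaryForm_hermForm hpow (fun a => by rw [hτ, hτ, hinv])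
      fun h => hne (RingHom.ext fun a => by rw [← hτ, h]; rfl)
  have hi : σ i + i = 0 := by
    obtain ⟨k, hk⟩ : ∃ k, p = 4 * k + 3 := ⟨p / 4, by omega⟩
    have hi4 : i ^ 4 = 1 := by linear_combination (i * i - 1) * S.sqi
    rw [hσ, hk, pow_add, pow_mul, hi4, one_pow, one_mul]
    linear_combination i * S.sqi
  have hf : Form R i σ (Cfsg.hermForm n F p) :=
    ⟨fun u v w => hU.add_left u v w, fun u v w => CfsgLib.Transvec.Unitary.add_right' hU u v w,
      fun c u v => hU.smul_left c u v,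
      fun c u v => (CfsgLib.Transvec.Unitary.smul_right' hU c u v).trans (by rw [hτ]),
      fun r hr u v => hRU hr u v, fun u v => by rw [hi, zero_mul]⟩
  have hb : ∀ a b : Fin n, Cfsg.hermForm n F p (Pi.single a 1) (Pi.single b 1) = if a = b then 1 else 0 :=
    CfsgLib.Transvec.Unitary.hermForm_basis hpow
  exact maximal_of_base (unitary_base hbase hσ i) S h3 hf (Or.inr ⟨τ, hU, hb⟩)
    ⟨fun h0 => by
      have := h0 (Pi.single ⟨0, hn⟩ 1) (Pi.single ⟨0, hn⟩ 1)
      rw [hb, if_pos rfl] at this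
      exact one_ne_zero this, False.elim⟩

end CfsgLib.Classical22.C6Four
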